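import Groth.Agent.Lib.Cyc.CH.Roots
import Groth.Agent.Lib.DerivedOX.FlatTensor
import Groth.Agent.Lib.TensorMod.Pullback
import Groth.Agent.Lib.TensorMod.FPConv

/-!
# Filtrations of tensor products
-/

set_option autoImplicit false
set_option linter.style.haveILetI false
universe u

open CategoryTheory CategoryTheory.Limits AlgebraicGeometry

noncomputable section

namespace Groth.Agent.Lib.Cyc.CH

open Groth.Agent.Lib Groth.Agent.Lib.Cyc

variable {X : Scheme.{u}}

/-- `- ⊗ N` preserves short exact sequences for flat `N`. -/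
theorem shortExact_tensor_right {N : X.Modules} (hN : FlatMod.IsFlat N) {S : ShortComplex X.Modules}
    (hS : S.ShortExact) : (S.map ((DCoh.tensorBi (X := X)).flip.obj N)).ShortExact := by
  haveI := DerivedOX.FlatTensor.preservesFiniteLimits_tensorRight_of_isFlat hN
  haveI : PreservesFiniteColimits ((DCoh.tensorBi (X := X)).flip.obj N) :=
    PreservesColimitsOfSize.preservesFiniteColimits _
  exact hS.map_of_exact _

/-- `M ⊗ -` preserves short exact sequences for flat `M`. -/
theorem shortExact_tensor_left' {M : X.Modules} (hM : FlatMod.IsFlat M) {S : ShortComplex X.Modules}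
    (hS : S.ShortExact) : (S.map ((DCoh.tensorBi (X := X)).obj M)).ShortExact := by
  haveI := DerivedOX.FlatTensor.preservesFiniteLimits_tensorLeft_of_isFlat hM
  haveI := DerivedOX.FlatTensor.preservesFiniteColimits_tensorLeft M
  exact hS.map_of_exact _

theorem isFlat_of_isInvertible {L : X.Modules} (hL : PicF.IsInvertible L) : FlatMod.IsFlat L :=
  TensorMod.FPConv.isFlat_of_isFinLocFree (TensorMod.LocFree.of_rank (TensorMod.LocFree.of_isInvertible hL))

/-- Twisting a filtration by an invertible module. -/
theorem Filt.tensor_invertible {M N : X.Modules} (hN : PicF.IsInvertible N) {l : List X.Modules}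
    (h : Filt M l) : Filt (CohB1.tensorMod M N) (l.map fun L => CohB1.tensorMod L N) := by
  induction h with
  | @zero M hz =>
    exact .zero (show IsZero (((DCoh.tensorBi (X := X)).flip.obj N).obj M) from Functor.map_isZero _ hz)
  | @cons L M C l hL a b hab hex h ih =>
    exact .cons (TensorMod.Invertible.isInvertible_tensorMod hL hN) _ _ _
      (shortExact_tensor_right (isFlat_of_isInvertible hN) hex) ih

/-- The pairwise tensor products of two lists. -/
def tensorList (l l' : List X.Modules) : List X.Modules :=
  l'.flatMap fun b => l.map fun a => CohB1.tensorMod a b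

theorem length_tensorList (l l' : List X.Modules) :
    (tensorList l l').length = l.length * l'.length := by
  induction l' with
  | nil => simp [tensorList]
  | cons b l' ih =>
    simp only [tensorList, List.flatMap_cons, List.length_append, List.length_map, List.length_cons] at ih ⊢
    rw [ih, mul_add, mul_one, add_comm]

/-- The tensor product of filtered modules is filtered by the pairwise tensor products. -/
theorem Filt.tensor {M N : X.Modules} (hM : FlatMod.IsFlat M) {l l' : List X.Modules} (h : Filt M l)
    (h' : Filt N l') : Filt (CohB1.tensorMod M N) (tensorList l l') := by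
  induction h' with
  | @zero N hz =>
    exact .zero (show IsZero (((DCoh.tensorBi (X := X)).obj M).obj N) from Functor.map_isZero _ hz)
  | @cons L N C l' hL a b hab hex h' ih =>
    exact (h.tensor_invertible hL).append _ _ _ (shortExact_tensor_left' hM hex) ih

section Roots

variable [IsLocallyNoetherian X] {δ : X → ℤ} (hδ : Cyc.IsDimFun X δ)

theorem roots_map_tensor (hX : Cyc.IsSetup X δ) {N : X.Modules} (hN : PicF.IsInvertible N) :
    ∀ {l : List X.Modules}, (∀ L ∈ l, PicF.IsInvertible L) →
      roots δ hδ (l.map fun L => CohB1.tensorMod L N) = (roots δ hδ l).map (fun a => a + root δ hδ N)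
  | [], _ => rfl
  | L :: l, h => by
    show root δ hδ (CohB1.tensorMod L N) ::ₘ roots δ hδ (l.map fun L => CohB1.tensorMod L N) =
      (root δ hδ L ::ₘ roots δ hδ l).map _
    rw [Multiset.map_cons, root_tensor hδ hX (h L List.mem_cons_self) hN,
      roots_map_tensor hX hN (fun L' h' => h L' (List.mem_cons_of_mem _ h'))]

theorem roots_tensorList (hX : Cyc.IsSetup X δ) {l : List X.Modules}
    (h : ∀ L ∈ l, PicF.IsInvertible L) : ∀ {l' : List X.Modules}, (∀ L ∈ l', PicF.IsInvertible L) →
      roots δ hδ (tensorList l l') = Sym.pairs (roots δ hδ l) (roots δ hδ l')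
  | [], _ => rfl
  | b :: l', h' => by
    show roots δ hδ ((l.map fun a => CohB1.tensorMod a b) ++ tensorList l l') =
      Sym.pairs _ (root δ hδ b ::ₘ roots δ hδ l')
    rw [roots_append, roots_map_tensor hδ hX (h' b List.mem_cons_self) h,
      roots_tensorList hX h (fun L h'' => h' L (List.mem_cons_of_mem _ h'')), Sym.pairs_cons]

end Roots

variable [IsLocallyNoetherian X] {δ : X → ℤ}

/-- Iterated caps are powers of the first Chern class. -/
theorem exists_c1Pow (hδ : Cyc.IsDimFun X δ) {L : X.Modules} (hL : PicF.IsInvertible L) {k : ℤ}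
    {α : AlgebraicCycle X ℤ} (hα : α ∈ Cyc.Zk X δ k) (t : ℕ → (ξ : X) → Cyc.secFibre L ξ)
    (ht : ∀ m ξ, t m ξ ≠ 0) (j : ℕ) :
    ∃ β : AlgebraicCycle X ℤ, ∃ hβ : β ∈ Cyc.Zk X δ (k - j), ⇑β = Cyc.c1PowFun δ L t j ⇑α ∧
      cls δ (k - j) β hβ = (c1 δ hδ hL ^ j) (cls δ k α hα) := by
  induction j with
  | zero => exact ⟨α, by simpa using hα, rfl, cls_congr (by simp) rfl⟩
  | succ j ih =>
    obtain ⟨β, hβ, e1, e2⟩ := ih
    obtain ⟨γ, hγ, f1, f2⟩ := exists_c1 hδ hL hβ (t j) (ht j)
    refine ⟨γ, by rwa [show k - ((j + 1 : ℕ) : ℤ) = k - j - 1 by omega], by rw [f1, e1]; rfl, ?_⟩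
    rw [pow_succ']
    show _ = c1 δ hδ hL ((c1 δ hδ hL ^ j) _)
    rw [← e2, f2]
    exact cls_congr (by omega) rfl

omit [IsLocallyNoetherian X] in
/-- The filtration of a tensor product on a cover. -/
theorem Cover.filt_tensor (C : Cover X δ) {E F : X.Modules} (hE : FlatMod.IsFinLocFree E)
    {l l' : List C.Y.Modules} (h : Filt ((Scheme.Modules.pullback C.g).obj E) l)
    (h' : Filt ((Scheme.Modules.pullback C.g).obj F) l') :
    Filt ((Scheme.Modules.pullback C.g).obj (CohB1.tensorMod E F)) (tensorList l l') :=
  (h.tensor (TensorMod.FPConv.isFlat_of_isFinLocFree (TensorMod.LocFree.isFinLocFree_pullback C.g hE))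
    h').of_iso (TensorMod.Pullback.pullbackTensorIso C.g E F).symm

end Groth.Agent.Lib.Cyc.CH
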