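import Groth.Agent.Lib.Cyc.CH.DualPullback
import Groth.Agent.Lib.TensorMod.GenLocal
import Groth.Agent.H26.DetExtend
import Groth.Agent.Lib.RefHull.ExtDet

/-!
# Determinants of modules by charts
-/

set_option autoImplicit false
set_option linter.style.haveILetI false
universe u

open CategoryTheory CategoryTheory.Limits AlgebraicGeometry Opposite TopologicalSpace
open scoped TensorProduct

noncomputable section

namespace Groth.Agent.Lib.Cyc.CH

open Groth.Agent.Lib Groth.Agent.Lib.Cyc Modules.StalkModule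
open Groth.Agent.Lib.TensorMod.Dual (rs rf rs_rs rs_smul)
open Groth.Agent.Lib.RefHull.SecHom (germ_rs germ_rf sec_ext)

/-- As many generators as a basis has elements form a basis. -/
theorem exists_basis_of_span {R M : Type*} [CommRing R] [AddCommGroup M] [Module R M] {ι : Type*}
    [Fintype ι] (b : Module.Basis ι R M) (v : ι → M) (hv : Submodule.span R (Set.range v) = ⊤) :
    ∃ b' : Module.Basis ι R M, ∀ i, b' i = v i := by
  haveI : Module.Finite R M := Module.Finite.of_basis b
  have hsurj : Function.Surjective (b.constr R v) := by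
    rw [← LinearMap.range_eq_top, Module.Basis.constr_range, hv]
  refine ⟨b.map (LinearEquiv.ofBijective _
    ⟨OrzechProperty.injective_of_surjective_endomorphism _ hsurj, hsurj⟩), fun i => ?_⟩
  rw [Module.Basis.map_apply, LinearEquiv.ofBijective_apply, Module.Basis.constr_basis]

/-- The determinant in an adapted basis. -/
theorem det_adapted {R M C : Type*} [CommRing R] [AddCommGroup M] [Module R M] [AddCommGroup C]
    [Module R C] {r : ℕ} (bM : Module.Basis (Fin (r + 1)) R M) (bC : Module.Basis (Fin r) R C)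
    (p : M →ₗ[R] C) (h0 : p (bM 0) = 0) (hs : ∀ i, p (bM i.succ) = bC i) (v : Fin (r + 1) → M) (α : R)
    (hv : v 0 = α • bM 0) : bM.det v = α * bC.det (fun i => p (v i.succ)) := by
  classical
  rw [Module.Basis.det_apply, Module.Basis.det_apply, Matrix.det_succ_column_zero,
    Finset.sum_eq_single 0 ?_ (by simp)]
  · simp only [Module.Basis.toMatrix_apply, Fin.val_zero, pow_zero, one_mul, hv, map_smul,
      Module.Basis.repr_self, Finsupp.smul_apply, Finsupp.single_eq_same, smul_eq_mul, mul_one]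
    congr 2
    refine Matrix.ext fun i j => ?_
    simp only [Matrix.submatrix_apply, Module.Basis.toMatrix_apply, Fin.succAbove_zero]
    conv_rhs => rw [← bM.sum_repr (v j.succ)]
    simp only [Fin.sum_univ_succ, map_add, map_sum, map_smul, h0, hs, smul_zero, zero_add,
      Module.Basis.repr_self]
    simp [Finsupp.single_apply, Finset.sum_ite_eq']
  · intro i _ hi
    simp [Module.Basis.toMatrix_apply, hv, Ne.symm hi]

variable {X : Scheme.{u}}

theorem basis_det_mul {R M : Type*} [CommRing R] [AddCommGroup M] [Module R M] {r : ℕ}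
    (b b' : Module.Basis (Fin r) R M) (v : Fin r → M) : b.det v = b.det b' * b'.det v := by
  rw [Module.Basis.det_apply, Module.Basis.det_apply, Module.Basis.det_apply, ← Matrix.det_mul,
    Module.Basis.toMatrix_mul_toMatrix]

/-- A section generating all stalks freely generates on every open. -/
theorem isGen_of_germ {L : X.Modules} {U : X.Opens} (s : Γ(L, U))
    (h : ∀ y (hy : y ∈ U), Function.Bijective fun a : X.presheaf.stalk y =>
      a • L.presheaf.germ U y hy s) : TensorMod.Gen.IsGen L U s := by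
  intro V hV
  have hinj : ∀ {W : X.Opens} (hW : W ≤ U), Function.Injective fun a : Γ(X, W) => a • rs L hW s := by
    intro W hW a a' e
    refine TopCat.Presheaf.section_ext X.sheaf W a a' fun y hy => (h y (hW hy)).1 ?_
    have := congrArg (L.presheaf.germ W y hy) e
    simp only [Mero.germ_smul, germ_rs] at this
    exact this
  refine ⟨hinj hV, fun m => ?_⟩
  have hloc : ∀ y : V, ∃ (W : X.Opens) (hWV : W ≤ V) (c : Γ(X, W)), y.1 ∈ W ∧
      c • rs L (hWV.trans hV) s = rs L hWV m := by
    intro y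
    obtain ⟨a, ha⟩ := (h y.1 (hV y.2)).2 (L.presheaf.germ V y.1 y.2 m)
    obtain ⟨O, hyO, c, rfl⟩ := TopCat.Presheaf.exists_germ_eq X.presheaf a
    have hy' : y.1 ∈ V ⊓ O := ⟨y.2, hyO⟩
    obtain ⟨W, hyW, i, j, hij⟩ := TopCat.Presheaf.germ_eq L.presheaf y.1 hy' hy'
      (rf (inf_le_right : V ⊓ O ≤ O) c • rs L (inf_le_left.trans hV : V ⊓ O ≤ U) s)
      (rs L (inf_le_left : V ⊓ O ≤ V) m) (by
        rw [Mero.germ_smul, germ_rs, germ_rs, germ_rf]
        exact ha)
    refine ⟨W, i.le.trans inf_le_left, rf i.le (rf inf_le_right c), hyW, ?_⟩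
    have e1 : rs L i.le (rf (inf_le_right : V ⊓ O ≤ O) c • rs L (inf_le_left.trans hV : V ⊓ O ≤ U) s) =
        rs L j.le (rs L (inf_le_left : V ⊓ O ≤ V) m) := hij
    rw [rs_smul, rs_rs, rs_rs] at e1
    exact e1
  choose W hWV c hyW hc using hloc
  have hcov : V ≤ iSup W := fun y hy => Opens.mem_iSup.2 ⟨⟨y, hy⟩, hyW ⟨y, hy⟩⟩
  obtain ⟨a₀, ha₀, -⟩ := TopCat.Sheaf.existsUnique_gluing' X.sheaf W V (fun y => homOfLE (hWV y)) hcov c
    fun i j => by
      change rf (inf_le_left : W i ⊓ W j ≤ W i) (c i) = rf (inf_le_right : W i ⊓ W j ≤ W j) (c j)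
      refine hinj ((inf_le_left.trans (hWV i)).trans hV) ?_
      have hi := congrArg (rs L (inf_le_left : W i ⊓ W j ≤ W i)) (hc i)
      have hj := congrArg (rs L (inf_le_right : W i ⊓ W j ≤ W j)) (hc j)
      simp only [rs_smul, rs_rs] at hi hj ⊢
      exact hi.trans hj.symm
  obtain ⟨a, ha⟩ : ∃ a : Γ(X, V), ∀ y, rf (hWV y) a = c y := ⟨a₀, ha₀⟩
  refine ⟨a, TensorMod.HomGlue.sections_ext_cover W L hcov fun y => ?_⟩
  have h2 := congrArg (rs L (inf_le_right : V ⊓ W y ≤ W y)) (hc y)
  simp only [rs_smul, rs_rs] at h2 ⊢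
  rw [← h2, ← ha y, TensorMod.Dual.rf_rf]

/-- Coefficients in a chart of bases spread out to a neighbourhood. -/
theorem exists_coeff {M : X.Modules} {r : ℕ} {V V' : X.Opens} (f : Fin r → Γ(M, V))
    (bf : ∀ y, y ∈ V → Module.Basis (Fin r) (X.presheaf.stalk y) (M.presheaf.stalk y))
    (hbf : ∀ y hy i, bf y hy i = M.presheaf.germ V y hy (f i)) (e : Fin r → Γ(M, V')) {x : X}
    (hx : x ∈ V) (hx' : x ∈ V') :
    ∃ (W : X.Opens) (hW : W ≤ V) (hW' : W ≤ V') (c : Matrix (Fin r) (Fin r) Γ(X, W)),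
      IsAffineOpen W ∧ x ∈ W ∧ (∀ i, rs M hW' (e i) = ∑ k, c i k • rs M hW (f k)) ∧
      ∀ y (hy : y ∈ W), X.presheaf.germ W y hy c.det =
        (bf y (hW hy)).det fun i => M.presheaf.germ V' y (hW' hy) (e i) := by
  classical
  choose O hO cc hcc using fun p : Fin r × Fin r => TopCat.Presheaf.exists_germ_eq X.presheaf
    (x := x) ((bf x hx).repr (M.presheaf.germ V' x hx' (e p.1)) p.2)
  let S : X.Opens := V ⊓ V' ⊓ ⟨⋂ p, (O p : Set X), isOpen_iInter_of_finite fun p => (O p).2⟩
  have hxS : x ∈ S := ⟨⟨hx, hx'⟩, Set.mem_iInter.2 hO⟩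
  have hSV : S ≤ V := inf_le_left.trans inf_le_left
  have hSV' : S ≤ V' := inf_le_left.trans inf_le_right
  have hSO : ∀ p, S ≤ O p := fun p y hy => Set.mem_iInter.1 (Opens.mem_inf.1 hy).2 p
  have heq : ∀ i, M.presheaf.germ S x hxS (rs M hSV' (e i)) =
      M.presheaf.germ S x hxS (∑ k, rf (hSO (i, k)) (cc (i, k)) • rs M hSV (f k)) := by
    intro i
    rw [germ_rs, map_sum]
    refine ((bf x hx).sum_repr _).symm.trans (Finset.sum_congr rfl fun k _ => ?_)
    rw [Mero.germ_smul, germ_rf, germ_rs, hcc, hbf]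
  choose W₁ hW₁ i₁ i₂ he using fun i => TopCat.Presheaf.germ_eq M.presheaf x hxS hxS _ _ (heq i)
  obtain ⟨W, hW, hxW, hWle⟩ := exists_isAffineOpen_mem_and_subset (X := X) (x := x)
    (U := S ⊓ ⟨⋂ i, (W₁ i : Set X), isOpen_iInter_of_finite fun i => (W₁ i).2⟩)
    ⟨hxS, Set.mem_iInter.2 hW₁⟩
  have hWS : W ≤ S := fun y hy => (hWle hy).1
  have hWW : ∀ i, W ≤ W₁ i := fun i y hy => Set.mem_iInter.1 (hWle hy).2 i
  refine ⟨W, hWS.trans hSV, hWS.trans hSV', fun i k => rf (hWS.trans (hSO (i, k))) (cc (i, k)),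
    hW, hxW, fun i => ?_, fun y hy => ?_⟩
  · have e1 : rs M (i₁ i).le (rs M hSV' (e i)) =
        rs M (i₂ i).le (∑ k, rf (hSO (i, k)) (cc (i, k)) • rs M hSV (f k)) := he i
    have e2 := congrArg (rs M (hWW i)) e1
    simp only [rs_rs, TensorMod.Basis.rs_sum, rs_smul, TensorMod.Dual.rf_rf] at e2
    exact e2
  · rw [show (X.presheaf.germ W y hy (Matrix.det fun i k => rf (hWS.trans (hSO (i, k))) (cc (i, k)))) =
      (Matrix.of fun i k => X.presheaf.germ (O (i, k)) y ((hWS.trans (hSO (i, k))) hy) (cc (i, k))).det by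
        refine (RingHom.map_det (X.presheaf.germ W y hy).hom _).trans (congrArg Matrix.det ?_)
        ext i k
        exact germ_rf _ hy _]
    rw [Module.Basis.det_apply, ← Matrix.det_transpose]
    congr 1
    refine Matrix.ext fun k i => ?_
    rw [Module.Basis.toMatrix_apply, Matrix.transpose_apply, Matrix.of_apply]
    have e2 : M.presheaf.germ V' y ((hWS.trans hSV') hy) (e i) =
        ∑ l, X.presheaf.germ (O (i, l)) y ((hWS.trans (hSO (i, l))) hy) (cc (i, l)) •
          bf y ((hWS.trans hSV) hy) l := by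
      have e1 : rs M (i₁ i).le (rs M hSV' (e i)) =
          rs M (i₂ i).le (∑ k, rf (hSO (i, k)) (cc (i, k)) • rs M hSV (f k)) := he i
      have := congrArg (M.presheaf.germ (W₁ i) y (hWW i hy)) e1
      rw [germ_rs, germ_rs, germ_rs, map_sum] at this
      refine this.trans (Finset.sum_congr rfl fun l _ => ?_)
      rw [Mero.germ_smul, germ_rf, germ_rs, hbf]
    rw [e2, Module.Basis.repr_sum_self]

/-- Charts of bases of `M` with generators of `L` transforming by determinants. -/
structure DetAtlas (r : ℕ) (M L : X.Modules) where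
  /-- The charts. -/
  U : X → X.Opens
  mem : ∀ x, x ∈ U x
  /-- The sections. -/
  e : ∀ x, Fin r → Γ(M, U x)
  /-- The generators. -/
  g : ∀ x, Γ(L, U x)
  /-- The bases. -/
  b : ∀ x y, y ∈ U x → Module.Basis (Fin r) (X.presheaf.stalk y) (M.presheaf.stalk y)
  hb : ∀ x y hy i, b x y hy i = M.presheaf.germ (U x) y hy (e x i)
  gen : ∀ x y (hy : y ∈ U x), Function.Bijective fun a : X.presheaf.stalk y =>
    a • L.presheaf.germ (U x) y hy (g x)
  trans : ∀ x x' y (hy : y ∈ U x) (hy' : y ∈ U x'),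
    L.presheaf.germ (U x') y hy' (g x') = (b x y hy).det (b x' y hy') • L.presheaf.germ (U x) y hy (g x)

namespace DetAtlas

variable {r : ℕ} {M L L' : X.Modules}

theorem isInvertible (A : DetAtlas r M L) : PicF.IsInvertible L :=
  TensorMod.Gen.isInvertible_iff.2 fun x => ⟨A.U x, A.g x, A.mem x, isGen_of_germ _ (A.gen x)⟩

/-- Two modules with determinant charts are isomorphic. -/
theorem nonempty_iso (A : DetAtlas r M L) (B : DetAtlas r M L') : Nonempty (L ≅ L') := by
  choose W hWB hWA c hWaff hxW hc hd using fun x =>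
    exists_coeff (B.e x) (B.b x) (B.hb x) (A.e x) (B.mem x) (A.mem x)
  have hd' : ∀ x y (hy : y ∈ W x), X.presheaf.germ (W x) y hy (c x).det =
      (B.b x y (hWB x hy)).det (A.b x y (hWA x hy)) := fun x y hy => by
    rw [hd x y hy]
    exact congrArg _ (funext fun i => (A.hb x y _ i).symm)
  obtain ⟨φ, -⟩ := TensorMod.HomGlue.exists_iso_of_gen (U := W)
    (by rw [eq_top_iff]; exact fun x _ => Opens.mem_iSup.2 ⟨x, hxW x⟩)
    (fun x => rs L (hWA x) (A.g x)) (fun x => (isGen_of_germ _ (A.gen x)).res (hWA x))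
    (fun x => (c x).det • rs L' (hWB x) (B.g x))
    (fun x => isGen_of_germ _ fun y hy => by
      simp only [Mero.germ_smul, germ_rs, smul_smul]
      have hu : IsUnit (X.presheaf.germ (W x) y hy (c x).det) := by
        rw [hd' x y hy]
        exact (B.b x y _).isUnit_det (A.b x y _)
      exact (B.gen x y (hWB x hy)).comp (IsUnit.isUnit_iff_mulRight_bijective.1 hu))
    (fun i j V hi hj a ha => sec_ext fun y hy => by
      have h1 := congrArg (L.presheaf.germ V y hy) ha
      simp only [Mero.germ_smul, germ_rs] at h1 ⊢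
      rw [A.trans j i y (hWA j (hj hy)) (hWA i (hi hy))] at h1
      have h2 := (A.gen j y (hWA j (hj hy))).1 h1
      rw [B.trans j i y (hWB j (hj hy)) (hWB i (hi hy)), smul_smul, smul_smul, hd' i y (hi hy),
        hd' j y (hj hy), ← h2]
      congr 1
      exact ((mul_comm _ _).trans (basis_det_mul _ _ _).symm).trans
        ((basis_det_mul _ _ _).trans (mul_comm _ _)))
  exact ⟨φ⟩

end DetAtlas

theorem ust_sum {Y : Scheme.{u}} (g : Y ⟶ X) (M : X.Modules) (y : Y) {ι : Type*} (s : Finset ι)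
    (f : ι → M.presheaf.stalk (g y)) : ust g M y (∑ i ∈ s, f i) = ∑ i ∈ s, ust g M y (f i) :=
  map_sum (AddMonoidHom.mk' (ust g M y) (ust_add g M y)) f s

theorem bijective_smul_of_span {L : X.Modules} (hL : PicF.IsInvertible L) {y : X}
    {t : L.presheaf.stalk y} (ht : Submodule.span (X.presheaf.stalk y) {t} = ⊤) :
    Function.Bijective fun a : X.presheaf.stalk y => a • t := by
  obtain ⟨b⟩ := CurveBundle.Coherent.exists_basis_stalk (TensorMod.LocFree.of_isInvertible hL) y
  obtain ⟨b', hb'⟩ := exists_basis_of_span b (fun _ => t) (by rwa [Set.range_const])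
  refine ⟨fun a a' h => ?_, fun v => Submodule.mem_span_singleton.1 (ht.ge Submodule.mem_top)⟩
  have : a • b' 0 = a' • b' 0 := by rw [hb']; exact h
  simpa using congrArg (fun z => b'.repr z 0) this

/-- Pullback of determinant charts. -/
theorem DetAtlas.nonempty_pullback {r : ℕ} {M L : X.Modules} (A : DetAtlas r M L) {Y : Scheme.{u}}
    (g : Y ⟶ X) (hr : FlatMod.IsFinLocFreeOfRank r ((Scheme.Modules.pullback g).obj M)) :
    Nonempty (DetAtlas r ((Scheme.Modules.pullback g).obj M) ((Scheme.Modules.pullback g).obj L)) := by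
  have hb : ∀ x y (hy : g y ∈ A.U x), ∃ b' : Module.Basis (Fin r) (Y.presheaf.stalk y)
      (((Scheme.Modules.pullback g).obj M).presheaf.stalk y),
        ∀ i, b' i = ust g M y (A.b x (g y) hy i) := fun x y hy => by
    obtain ⟨b⟩ := CurveBundle.Coherent.exists_basis_stalk hr y
    refine exists_basis_of_span b _ ?_
    rw [show (Set.range fun i => ust g M y (A.b x (g y) hy i)) = ust g M y '' Set.range (A.b x (g y) hy)
      by rw [← Set.range_comp]; rfl]
    exact span_ust g M y (A.b x (g y) hy).span_eq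
  choose b hb using hb
  refine ⟨{ U := fun y => g ⁻¹ᵁ A.U (g y), mem := fun y => A.mem (g y),
            e := fun y i => TensorMod.Pullback.unitSec g M (A.e (g y) i),
            g := fun y => TensorMod.Pullback.unitSec g L (A.g (g y)),
            b := fun y y₀ hy => b (g y) y₀ hy, hb := fun y y₀ hy i => ?_, gen := fun y y₀ hy => ?_,
            trans := fun y y' y₀ hy hy' => ?_ }⟩
  · rw [hb (g y) y₀ hy i, A.hb (g y) (g y₀) hy i, ust_germ]
  · refine bijective_smul_of_span (PicLoc.isInvertible_pullback g A.isInvertible) ?_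
    rw [← ust_germ g L y₀ hy, ← Set.image_singleton]
    refine span_ust g L y₀ (eq_top_iff.2 fun v _ => Submodule.mem_span_singleton.2 ?_)
    exact (A.gen (g y) (g y₀) hy).2 v
  · rw [← ust_germ g L y₀ hy', ← ust_germ g L y₀ hy, A.trans (g y) (g y') (g y₀) hy hy', ust_smul]
    congr 1
    rw [Module.Basis.det_apply, Module.Basis.det_apply, RingHom.map_det]
    congr 1
    refine Matrix.ext fun k i => ?_
    rw [RingHom.mapMatrix_apply, Matrix.map_apply, Module.Basis.toMatrix_apply,
      Module.Basis.toMatrix_apply, hb (g y') y₀ hy' i]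
    conv_rhs => rw [← (A.b (g y) (g y₀) hy).sum_repr (A.b (g y') (g y₀) hy' i), ust_sum]
    simp only [ust_smul, ← hb (g y) y₀ hy, Module.Basis.repr_sum_self]

/-- The top exterior power has determinant charts. -/
theorem nonempty_detAtlas_of_isExtPow {r : ℕ} {E L : X.Modules} (hE : FlatMod.IsFinLocFreeOfRank r E)
    (hL : ExtPow.IsExtPow r E L) : Nonempty (DetAtlas r E L) := by
  classical
  have hgen : ∀ y : X, ∃ (U : X.Opens) (hy : y ∈ U) (i : E.restrict U.ι ≅ FlatMod.freeMod (↑U) r),
      True := fun y => by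
    obtain ⟨U, hy, ⟨i⟩⟩ := hE y
    exact ⟨U, hy, i, trivial⟩
  choose U₀ hxU₀ i₀ _ using hgen
  choose A hA hxA hAU using fun x => exists_isAffineOpen_mem_and_subset (X := X) (x := x) (U := U₀ x) (hxU₀ x)
  choose s hs using fun x => CurveBundle.Coherent.exists_basis_sections (i₀ x)
  obtain ⟨φ₀, hφ₀⟩ := hL
  let φ : ∀ U : X.affineOpens, Γ(L, U.1) ≃ₗ[Γ(X, U.1)] ↥(⋀[Γ(X, U.1)]^r Γ(E, U.1)) := φ₀
  have hφ : ∀ (U V : X.affineOpens) (h : V.1 ≤ U.1) (e : Fin r → Γ(E, U.1)),
      rs L h ((φ U).symm (exteriorPower.ιMulti _ r e)) =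
        (φ V).symm (exteriorPower.ιMulti _ r (fun j => rs E h (e j))) := hφ₀
  let e : ∀ x, Fin r → Γ(E, A x) := fun x i => rs E (fun z hz => hAU x hz) (s x i)
  let g : ∀ x, Γ(L, A x) := fun x => (φ ⟨A x, hA x⟩).symm (exteriorPower.ιMulti _ r (e x))
  let b : ∀ x y, y ∈ A x → Module.Basis (Fin r) (X.presheaf.stalk y) (E.presheaf.stalk y) :=
    fun x y hy => Module.Basis.mk (hs x y (hAU x hy)).1 (hs x y (hAU x hy)).2.ge
  have hb : ∀ x y hy i, b x y hy i = E.presheaf.germ (A x) y hy (e x i) := fun x y hy i => by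
    rw [Module.Basis.mk_apply]
    exact (germ_rs (fun z hz => hAU x hz) hy _).symm
  -- wedges in terms of the generator
  have key : ∀ (V : X.affineOpens) (v : Fin r → Γ(E, V.1)) (x y : X) (hyV : y ∈ V.1) (hy : y ∈ A x),
      L.presheaf.germ V.1 y hyV ((φ V).symm (exteriorPower.ιMulti _ r v)) =
        (b x y hy).det (fun i => E.presheaf.germ V.1 y hyV (v i)) •
          L.presheaf.germ (A x) y hy (g x) := by
    intro V v x y hyV hy
    obtain ⟨W, hWA, hWV, c, hW, hyW, hc, hdet⟩ := exists_coeff (e x) (b x) (hb x) v hy hyV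
    have hι : (φ ⟨W, hW⟩).symm (exteriorPower.ιMulti _ r fun i => rs E hWV (v i)) =
        c.det • (φ ⟨W, hW⟩).symm (exteriorPower.ιMulti _ r fun j => rs E hWA (e x j)) := by
      rw [funext hc, RefHull.ExtDet.map_sum_smul, map_smul]
    have h1 := hφ V ⟨W, hW⟩ hWV v
    have h2 := hφ ⟨A x, hA x⟩ ⟨W, hW⟩ hWA (e x)
    rw [hι, ← h2] at h1
    have h3 := congrArg (L.presheaf.germ W y hyW) h1
    rw [germ_rs, Mero.germ_smul, germ_rs, hdet y hyW] at h3
    exact h3
  refine ⟨{ U := A, mem := hxA, e := e, g := g, b := b, hb := hb, gen := fun x y hy => ?_,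
            trans := fun x x' y hy hy' => ?_ }⟩
  · have hspan : Submodule.span (X.presheaf.stalk y) {L.presheaf.germ (A x) y hy (g x)} = ⊤ := by
      refine eq_top_iff.2 fun v _ => ?_
      obtain ⟨O, hyO, m, rfl⟩ := TopCat.Presheaf.exists_germ_eq L.presheaf v
      obtain ⟨V, hV, hyV, hVO⟩ := exists_isAffineOpen_mem_and_subset (X := X) hyO
      rw [← germ_rs (fun z hz => hVO hz) hyV m]
      obtain ⟨z, hz'⟩ := (φ ⟨V, hV⟩).symm.surjective (rs L (fun z hz => hVO hz) m)
      rw [← hz']
      have hz : z ∈ Submodule.span Γ(X, V) (Set.range (exteriorPower.ιMulti Γ(X, V) r (M := Γ(E, V)))) := by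
        rw [exteriorPower.ιMulti_span]; trivial
      clear hz'
      induction hz using Submodule.span_induction with
      | mem z hz =>
        obtain ⟨w, rfl⟩ := hz
        exact Submodule.mem_span_singleton.2 ⟨_, (key ⟨V, hV⟩ w x y hyV hy).symm⟩
      | zero => rw [map_zero, map_zero]; exact Submodule.zero_mem _
      | add a a' _ _ ha ha' => rw [map_add, map_add]; exact Submodule.add_mem _ ha ha'
      | smul q a _ ha => rw [map_smul, Mero.germ_smul]; exact Submodule.smul_mem _ _ ha
    obtain ⟨A', hyA', -, ℓ, hℓ⟩ := H26.DetExtend.exists_gen_extPow (hL := ⟨φ₀, hφ₀⟩) (i₀ y) (hxU₀ y)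
    let e1 : X.presheaf.stalk y ≃ₗ[X.presheaf.stalk y] L.presheaf.stalk y :=
      LinearEquiv.ofBijective (LinearMap.toSpanSingleton _ _ (L.presheaf.germ A' y hyA' ℓ)) (hℓ y hyA')
    let bL : Module.Basis (Fin 1) (X.presheaf.stalk y) (L.presheaf.stalk y) :=
      (Module.Basis.singleton (Fin 1) (X.presheaf.stalk y)).map e1
    obtain ⟨b', hb'⟩ := exists_basis_of_span bL (fun _ => L.presheaf.germ (A x) y hy (g x))
      (by rwa [Set.range_const])
    refine ⟨fun a a' h => ?_, fun v => Submodule.mem_span_singleton.1 (hspan.ge Submodule.mem_top)⟩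
    have : a • b' 0 = a' • b' 0 := by rw [hb']; exact h
    simpa using congrArg (fun z => b'.repr z 0) this
  · refine (key ⟨A x', hA x'⟩ (e x') x y hy' hy).trans ?_
    congr 1
    exact congrArg _ (funext fun i => (hb x' y hy' i).symm)

end Groth.Agent.Lib.Cyc.CH
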