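import Groth.Agent.Lib.Cyc.CH.Roots
import Groth.Agent.Lib.RefHull.DualComp
import Groth.Agent.Lib.RefHull.Reflexive

/-!
# Duals of filtered modules
-/

set_option autoImplicit false
set_option linter.style.haveILetI false
universe u

open CategoryTheory CategoryTheory.Limits AlgebraicGeometry Opposite

noncomputable section

namespace Groth.Agent.Lib.Cyc.CH

open Groth.Agent.Lib Groth.Agent.Lib.Cyc Modules.StalkModule

variable {X : Scheme.{u}}

/-- Composition of a section of the dual with a morphism. -/
def dualPre {A A' : X.Modules} (b : A ⟶ A') (U : X.Opens) (g : Γ(RefHull.dual A', U)) :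
    Γ(RefHull.dual A, U) :=
  ⟨fun x => (g.1 x).comp (stalkMapₗ b x.1), fun V i m x => by
    obtain ⟨W, hW, j, n, w⟩ := RefHull.isLocSect_of_mem g V i (b.app V m) x
    refine ⟨W, hW, j, n, fun y => ?_⟩
    refine Eq.trans ?_ (w y)
    show (g.1 ⟨y.1, _⟩) (stalkMapₗ b y.1 (A.presheaf.germ V y.1 _ m)) = _
    rw [stalkMapₗ_germ]⟩

/-- The transpose of a morphism. -/
def dualMap {A A' : X.Modules} (b : A ⟶ A') : RefHull.dual A' ⟶ RefHull.dual A :=
  ⟨PresheafOfModules.homMk
    { app := fun U => AddCommGrpCat.ofHom (AddMonoidHom.mk' (dualPre b U.unop) fun g g' =>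
        Subtype.ext <| funext fun x =>
          show ((g + g').1 x).comp (stalkMapₗ b x.1) = _ from LinearMap.add_comp _ _ _)
      naturality := fun {U V} i => by
        ext g
        rfl }
    (fun U r g => Subtype.ext <| funext fun x => LinearMap.ext fun v => rfl)⟩

theorem evalStalk_dualMap {A A' : X.Modules} (b : A ⟶ A') (x : X)
    (θ : (RefHull.dual A').presheaf.stalk x) :
    RefHull.evalStalk A (Coh.structureModule X) x (stalkMapₗ (dualMap b) x θ) =
      (RefHull.evalStalk A' (Coh.structureModule X) x θ).comp (stalkMapₗ b x) := by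
  obtain ⟨U, hU, g, rfl⟩ := TopCat.Presheaf.exists_germ_eq (RefHull.dual A').presheaf θ
  rw [stalkMapₗ_germ, RefHull.evalStalk_germ, RefHull.evalStalk_germ]
  rfl

variable [IsLocallyNoetherian X]

theorem dualMap_comp_zero {L M C : X.Modules} (hL : Coh.IsCoh L) (a : L ⟶ M) (b : M ⟶ C)
    (hab : a ≫ b = 0) : dualMap b ≫ dualMap a = 0 := by
  refine hom_ext_stalkMapₗ fun x => LinearMap.ext fun θ => ?_
  refine (RefHull.HomSh.evalStalk_bijective hL x).1 ?_
  rw [stalkMapₗ_comp, LinearMap.comp_apply, evalStalk_dualMap, evalStalk_dualMap, LinearMap.comp_assoc,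
    ← stalkMapₗ_comp, hab, stalkMapₗ_zero, LinearMap.comp_zero, stalkMapₗ_zero, LinearMap.zero_apply,
    map_zero]

/-- The dual of a short exact sequence with stalkwise free quotient is short exact. -/
theorem shortExact_dual {L M C : X.Modules} (hL : Coh.IsCoh L) (hM : Coh.IsCoh M) (hC : Coh.IsCoh C)
    (a : L ⟶ M) (b : M ⟶ C) (hab : a ≫ b = 0) (hex : (ShortComplex.mk a b hab).ShortExact)
    (hfree : ∀ x, Module.Free (X.presheaf.stalk x) (C.presheaf.stalk x)) :
    (ShortComplex.mk (dualMap b) (dualMap a) (dualMap_comp_zero hL a b hab)).ShortExact := by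
  rw [Modules.Stalk.shortExact_iff_stalk]
  intro x
  obtain ⟨hinj, hexact, hsurj⟩ := CurveBundle.Rank.stalk_exact hex x
  dsimp only at hinj hexact hsurj
  haveI := hfree x
  have eL := RefHull.HomSh.evalStalk_bijective (G := Coh.structureModule X) hL x
  have eM := RefHull.HomSh.evalStalk_bijective (G := Coh.structureModule X) hM x
  have eC := RefHull.HomSh.evalStalk_bijective (G := Coh.structureModule X) hC x
  refine
    { exact := (ShortComplex.ab_exact_iff_function_exact _).2 ?_
      mono_f := (AddCommGrpCat.mono_iff_injective _).2 ?_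
      epi_g := (AddCommGrpCat.epi_iff_surjective _).2 ?_ }
  · show Function.Exact (stalkMapₗ (dualMap b) x) (stalkMapₗ (dualMap a) x)
    intro θ
    constructor
    · intro h
      have h' := congrArg (RefHull.evalStalk L (Coh.structureModule X) x) h
      rw [evalStalk_dualMap, map_zero] at h'
      obtain ⟨s, hs⟩ := Module.projective_lifting_property (stalkMapₗ b x) LinearMap.id hsurj
      obtain ⟨η, hη⟩ := eC.2 ((RefHull.evalStalk M (Coh.structureModule X) x θ).comp s)
      refine ⟨η, eM.1 ?_⟩
      rw [evalStalk_dualMap, hη]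
      refine LinearMap.ext fun w => ?_
      obtain ⟨l, hl⟩ := (hexact (s (stalkMapₗ b x w) - w)).1 (by
        rw [map_sub, show stalkMapₗ b x (s (stalkMapₗ b x w)) = stalkMapₗ b x w from
          LinearMap.congr_fun hs _, sub_self])
      refine sub_eq_zero.1 ?_
      show RefHull.evalStalk M (Coh.structureModule X) x θ (s (stalkMapₗ b x w)) -
        RefHull.evalStalk M (Coh.structureModule X) x θ w = 0
      rw [← map_sub, ← hl]
      exact LinearMap.congr_fun h' l
    · rintro ⟨η, rfl⟩
      refine eL.1 ?_
      rw [evalStalk_dualMap, evalStalk_dualMap, LinearMap.comp_assoc, hexact.linearMap_comp_eq_zero,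
        LinearMap.comp_zero, map_zero]
  · show Function.Injective (stalkMapₗ (dualMap b) x)
    intro η η' h
    refine eC.1 (LinearMap.ext fun c => ?_)
    obtain ⟨w, rfl⟩ := hsurj c
    have h' := LinearMap.congr_fun (congrArg (RefHull.evalStalk M (Coh.structureModule X) x) h) w
    rw [evalStalk_dualMap, evalStalk_dualMap] at h'
    exact h'
  · show Function.Surjective (stalkMapₗ (dualMap a) x)
    intro χ
    obtain ⟨s, hs⟩ := Module.projective_lifting_property (stalkMapₗ b x) LinearMap.id hsurj
    let d : M.presheaf.stalk x →ₗ[X.presheaf.stalk x] M.presheaf.stalk x :=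
      LinearMap.id - s.comp (stalkMapₗ b x)
    have hd : ∀ w, d w ∈ LinearMap.range (stalkMapₗ a x) := fun w => by
      obtain ⟨l, hl⟩ := (hexact (d w)).1 (by
        show stalkMapₗ b x (w - s (stalkMapₗ b x w)) = 0
        rw [map_sub, show stalkMapₗ b x (s (stalkMapₗ b x w)) = stalkMapₗ b x w from
          LinearMap.congr_fun hs _, sub_self])
      exact ⟨l, hl⟩
    obtain ⟨θ, hθ⟩ := eM.2 ((RefHull.evalStalk L (Coh.structureModule X) x χ).comp
      (((LinearEquiv.ofInjective _ hinj).symm.toLinearMap).comp (d.codRestrict _ hd)))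
    refine ⟨θ, eL.1 ?_⟩
    rw [evalStalk_dualMap, hθ]
    refine LinearMap.ext fun l => ?_
    refine congrArg (RefHull.evalStalk L (Coh.structureModule X) x χ) ?_
    show (LinearEquiv.ofInjective _ hinj).symm (d.codRestrict _ hd (stalkMapₗ a x l)) = l
    rw [LinearEquiv.symm_apply_eq]
    refine Subtype.ext ?_
    show stalkMapₗ a x l - s (stalkMapₗ b x (stalkMapₗ a x l)) = stalkMapₗ a x l
    rw [hexact.apply_apply_eq_zero, map_zero, sub_zero]

theorem isInvertible_dual {L : X.Modules} (hL : PicF.IsInvertible L) :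
    PicF.IsInvertible (RefHull.dual L) :=
  TensorMod.LocFree.isInvertible_of_rank_one (TensorMod.LocFree.rank_of_iso
    (RefHull.DualComp.dualIso L).symm
    (TensorMod.LocFree.of_isInvertible (TensorMod.Invertible.isInvertible_dual hL)))

/-- The dual of a filtered module is filtered by the duals in the opposite order. -/
theorem Filt.dual {M : X.Modules} {l : List X.Modules} (h : Filt M l) (hM : Coh.IsCoh M) :
    Filt (RefHull.dual M) (l.map fun L => RefHull.dual L).reverse := by
  induction h with
  | @zero M hz =>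
    refine .zero ((IsZero.iff_id_eq_zero _).2 (hom_ext_stalkMapₗ fun x => LinearMap.ext fun θ => ?_))
    refine (RefHull.HomSh.evalStalk_bijective hM x).1 (LinearMap.ext fun v => ?_)
    have hv : v = 0 := by
      haveI : Subsingleton (M.presheaf.stalk x) :=
        AddCommGrpCat.subsingleton_of_isZero ((Modules.Stalk.stalkFunctor X x).map_isZero hz)
      exact Subsingleton.elim _ _
    rw [hv, map_zero, map_zero]
  | @cons L M C l hL a b hab hex h ih =>
    haveI := TensorMod.QCohInv.isQCoh_of_isInvertible hL
    haveI : Mono a := hex.mono_f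
    haveI : Epi b := hex.epi_g
    have hLc : Coh.IsCoh L := CurveBundle.Coherent.isCoh
      (TensorMod.LocFree.of_rank (TensorMod.LocFree.of_isInvertible hL))
    haveI : Epi (ShortComplex.mk a b hab).g := hex.epi_g
    have hC : Coh.IsCoh C := CohBasics.Closure.isCoh_of_iso
      ((cokernelIsCokernel a).coconePointUniqueUpToIso hex.gIsCokernel)
      (CohBasics.Closure.isCoh_cokernel a hLc.1 hM)
    have hS := shortExact_dual hLc hM hC a b hab hex fun x => by
      obtain ⟨bC⟩ := h.exists_basis_stalk x
      exact Module.Free.of_basis bC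
    rw [List.map_cons, List.reverse_cons]
    exact (ih hC).append _ _ _ hS (Filt.singleton (isInvertible_dual hL))

theorem roots_dual {δ : X → ℤ} (hδ : Cyc.IsDimFun X δ) (hX : Cyc.IsSetup X δ) :
    ∀ {l : List X.Modules}, (∀ L ∈ l, PicF.IsInvertible L) →
      roots δ hδ (l.map fun L => RefHull.dual L).reverse = (roots δ hδ l).map fun a => -a
  | [], _ => rfl
  | L :: l, h => by
    have hL := h L List.mem_cons_self
    have e := root_eq_neg hδ hX hL (isInvertible_dual hL)
      (TensorMod.Basic.tensorIso (Iso.refl L) (RefHull.DualComp.dualIso L) ≪≫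
        TensorMod.Invertible.tensorDualIso hL)
    rw [List.map_cons, List.reverse_cons, roots_append,
      roots_dual hδ hX (fun L' h' => h L' (List.mem_cons_of_mem _ h')), add_comm]
    rw [show roots δ hδ [RefHull.dual L] = {root δ hδ (RefHull.dual L)} from rfl,
      Multiset.singleton_add, show roots δ hδ (L :: l) = root δ hδ L ::ₘ roots δ hδ l from rfl,
      Multiset.map_cons, e]

end Groth.Agent.Lib.Cyc.CH
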