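import Groth.Agent.Lib.Cyc.CH.Tot
import Groth.Agent.Lib.Cyc.PB.Chern

/-!
# Chern class operators of a projective bundle
-/

set_option autoImplicit false
set_option linter.style.haveILetI false
universe u

open CategoryTheory AlgebraicGeometry

noncomputable section

namespace Groth.Agent.Lib.Cyc.CH

open Groth.Agent.Lib Groth.Agent.Lib.Cyc PB

variable {X P : Scheme.{u}}

/-- Standard charts around every fibre, with the standing hypotheses on the weights. -/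
structure Bdl (π : P ⟶ X) (O1 : P.Modules) (n : ℕ) (δP : P → ℤ) (δ : X → ℤ) : Prop where
  dimX : Cyc.IsDimFun X δ
  dimP : Cyc.IsDimFun P δP
  compat : Cyc.DeltaCompat π δP δ
  inv : PicF.IsInvertible O1
  frames : ∀ η, Nonempty (Frame π O1 n η)

namespace Bdl

variable {π : P ⟶ X} {O1 : P.Modules} {n : ℕ} {δP : P → ℤ} {δ : X → ℤ}

theorem of_isProjBundle {E : X.Modules} {q : (Scheme.Modules.pullback π).obj E ⟶ O1}
    (hX : Cyc.IsDimFun X δ) (hPd : Cyc.IsDimFun P δP) (hδ : Cyc.DeltaCompat π δP δ)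
    (hP : KRR.IsProjBundle π E O1 q) (hE : FlatMod.IsFinLocFreeOfRank (n + 1) E) :
    Bdl π O1 n δP δ :=
  ⟨hX, hPd, hδ, Univ.invertible hP, fun η => Univ.nonempty_frame hP hE η⟩

variable [IsLocallyNoetherian X] [IsLocallyNoetherian P] [IsProper π] (B : Bdl π O1 n δP δ)

include B in
theorem nonempty_data : Nonempty (Data π δP δ n O1) :=
  PB.exists_data B.dimP B.dimX B.compat B.inv B.frames

/-- A choice of flag data. -/
def data : Data π δP δ n O1 := B.nonempty_data.some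

include B in
theorem shift : FP.Main.Shift π δP δ n := fun x hx => by
  have e1 := hx _ (B.data.fζ (π x) 0 (Nat.zero_le n)) (B.data.gen x)
  conv_lhs => rw [← e1, B.data.dζ (π x) 0 (Nat.zero_le n)]
  simp

omit [IsLocallyNoetherian X] [IsLocallyNoetherian P] [IsProper π] in
include B in
theorem flat : Flat π := by
  refine Flat.of_stalkMap π fun x => ?_
  obtain ⟨η, hη⟩ : ∃ η, π x = η := ⟨_, rfl⟩
  obtain ⟨F⟩ := B.frames η
  obtain ⟨l, w, rfl⟩ := F.cover x hη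
  set g := F.e l
  haveI : Flat (Spec.map (CommRingCat.ofHom
      (MvPolynomial.C : F.A →+* MvPolynomial (Var l) F.A))) := by
    rw [HasRingHomProperty.Spec_iff (P := @Flat)]
    exact (RingHom.flat_algebraMap_iff (R := F.A) (S := MvPolynomial (Var l) F.A)).2 inferInstance
  haveI : Flat (g ≫ π) := by
    rw [F.w l]
    infer_instance
  have h := Flat.stalkMap (g ≫ π) w
  rw [Scheme.Hom.stalkMap_comp] at h
  have h2 : (CategoryTheory.inv (g.stalkMap w)).hom.Flat :=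
    RingHom.Flat.of_bijective (ConcreteCategory.bijective_of_isIso _)
  have h3 := RingHom.Flat.comp h h2
  have h4 : (π.stalkMap (g w)).hom.Flat := by
    rw [show π.stalkMap (g w) = (π.stalkMap (g w) ≫ g.stalkMap w) ≫ CategoryTheory.inv (g.stalkMap w) by simp]
    exact h3
  exact h4

/-- `c₁(O(1)) ∩`. -/
def h : AddMonoid.End (Tot P δP) := c1 δP B.dimP B.inv

/-- `π^*`. -/
def pb : Tot X δ →+ Tot P δP :=
  haveI := B.flat
  pull B.dimP B.dimX π B.shift

theorem pb_homog : Homog (n : ℤ) B.pb := by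
  haveI := B.flat
  exact pull_homog _ _ _ _

theorem pb_cls {k k' : ℤ} {α : AlgebraicCycle X ℤ} (hα : α ∈ Cyc.Zk X δ k) {β : AlgebraicCycle P ℤ}
    (hk : k' = k + n) (hβ : β ∈ Cyc.Zk P δP k') (e : ⇑β = Cyc.pullFun π δP δ n ⇑α) :
    B.pb (cls δ k α hα) = cls δP k' β hβ := by
  haveI := B.flat
  exact pull_cls B.dimP B.dimX π B.shift hα hk hβ e

omit [IsProper π] in
theorem pow_h_cls {m : ℤ} {t : ℕ → (ξ : P) → Cyc.secFibre O1 ξ} (ht : ∀ i ξ, t i ξ ≠ 0)
    {c : ℕ → AlgebraicCycle P ℤ} (hc : Chain.IsChain δP O1 m t c) (hm : c 0 ∈ Cyc.Zk P δP m) :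
    ∀ j : ℕ, (B.h ^ j) (cls δP m (c 0) hm) = cls δP (m - j) (c j) (hc.mem j) := by
  intro j
  induction j with
  | zero => exact cls_congr (by simp) rfl
  | succ j ih =>
    rw [pow_succ']
    show B.h ((B.h ^ j) _) = _
    rw [ih]
    exact c1_cls δP B.dimP B.inv (hc.mem j) (by push_cast; ring) (hc.mem (j + 1)) (t j) (ht j) (hc.succ j)

omit [IsProper π] in
theorem h_pow_homog (j : ℕ) : Homog (-(j : ℤ)) (B.h ^ j : AddMonoid.End (Tot P δP)) := by
  induction j with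
  | zero => exact fun k α hα => ⟨α, by simpa using hα, cls_congr (by simp) rfl⟩
  | succ j ih =>
    have := ih.comp (c1_homog δP B.dimP B.inv)
    rw [show -((j + 1 : ℕ) : ℤ) = -(j : ℤ) + -1 by push_cast; ring, pow_succ']
    exact this

/-- `hⁱ ∩ π^*`. -/
def term (i : ℕ) : Tot X δ →+ Tot P δP :=
  AddMonoidHom.comp (B.h ^ i : AddMonoid.End (Tot P δP)) B.pb

theorem term_apply (i : ℕ) (x : Tot X δ) : B.term i x = (B.h ^ i) (B.pb x) := rfl

theorem term_homog (i : ℕ) : Homog ((n : ℤ) - i) (B.term i) := by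
  rw [sub_eq_add_neg]
  exact B.pb_homog.comp (B.h_pow_homog i)

include B in
theorem exists_chain_term {k : ℤ} {α : AlgebraicCycle X ℤ} (hα : α ∈ Cyc.Zk X δ k)
    (t : ℕ → (ξ : P) → Cyc.secFibre O1 ξ) (ht : ∀ i ξ, t i ξ ≠ 0) :
    ∃ c : ℕ → AlgebraicCycle P ℤ, ∃ hc : Chain.IsChain δP O1 (k + n) t c,
      ⇑(c 0) = Cyc.pullFun π δP δ n ⇑α ∧
        ∀ j, B.term j (cls δ k α hα) = cls δP (k + n - j) (c j) (hc.mem j) := by
  obtain ⟨a, ha, ha'⟩ := B.data.exists_pull B.dimP hα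
  obtain ⟨c, hc0, hc⟩ := Chain.exists_chain B.dimP B.inv ha t ht
  refine ⟨c, hc, by rw [hc0, ha'], fun j => ?_⟩
  have h0 : c 0 ∈ Cyc.Zk P δP (k + n) := hc0 ▸ ha
  rw [term_apply, B.pb_cls hα rfl h0 (by rw [hc0, ha'])]
  exact B.pow_h_cls ht hc h0 j

theorem inj {a : Fin (n + 1) → Tot X δ} (h0 : ∑ i : Fin (n + 1), B.term (i : ℕ) (a i) = 0) :
    ∀ i, a i = 0 := by
  haveI := B.flat
  have key : ∀ k : ℤ, ∀ i : Fin (n + 1), proj X δ (k + (i : ℕ)) (a i) = 0 := by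
    intro k
    choose α hα e using fun i : Fin (n + 1) => exists_rep (k + (i : ℕ)) (a i)
    obtain ⟨s, hs⟩ := exists_sections B.inv
    choose c hc hc0 hcls using fun i : Fin (n + 1) =>
      B.exists_chain_term (hα i) (fun _ => s) (fun _ => hs)
    have h1 := congrArg (proj P δP (k + n)) h0
    rw [map_zero, map_sum] at h1
    have hmem : ∀ i : Fin (n + 1), c i (i : ℕ) ∈ Cyc.Zk P δP (k + n) := fun i => by
      have := (hc i).mem (i : ℕ)
      rwa [show k + ((i : ℕ) : ℤ) + n - ((i : ℕ) : ℤ) = k + n by ring] at this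
    have h2 : ∀ i : Fin (n + 1),
        proj P δP (k + n) (B.term (i : ℕ) (a i)) = cls δP (k + n) (c i (i : ℕ)) (hmem i) := by
      intro i
      have := DFunLike.congr_fun ((B.term_homog (i : ℕ)).proj_comp (k + (i : ℕ))) (a i)
      rw [show k + ((i : ℕ) : ℤ) + ((n : ℤ) - (i : ℕ)) = k + n by ring] at this
      refine this.trans ?_
      rw [AddMonoidHom.comp_apply, e i, hcls i]
      exact cls_congr (by ring) rfl
    have hs' : ∑ i, c i (i : ℕ) ∈ Cyc.Zk P δP (k + n) :=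
      (ChowOps.zk P δP (k + n)).sum_mem fun i _ => hmem i
    rw [Finset.sum_congr rfl (fun i _ => h2 i), ← cls_sum Finset.univ _ hmem hs',
      cls_eq_zero_iff B.dimP] at h1
    have := Thms.ratEquivZero_of_sum B.data B.dimP B.dimX B.inv B.compat α hα (fun _ _ => s)
      (fun _ _ => hs) c hc0 hc h1
    intro i
    rw [e i, cls_eq_zero_iff B.dimX]
    exact this i
  intro i
  refine eq_zero_of_proj fun m => ?_
  simpa using key (m - (i : ℕ)) i

theorem surj (x : Tot P δP) : ∃ a : Fin (n + 1) → Tot X δ, ∑ i : Fin (n + 1), B.term (i : ℕ) (a i) = x := by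
  induction x using DirectSum.induction_on with
  | zero => exact ⟨0, by simp⟩
  | add x y hx hy =>
    obtain ⟨a, rfl⟩ := hx
    obtain ⟨b, rfl⟩ := hy
    exact ⟨a + b, by simp [Finset.sum_add_distrib]⟩
  | of m y =>
    obtain ⟨⟨β, hβ⟩, rfl⟩ := QuotientAddGroup.mk_surjective y
    haveI := B.flat
    obtain ⟨s, hs⟩ := exists_sections B.inv
    have hβ' : β ∈ Cyc.Zk P δP (m - n + n) := by rwa [sub_add_cancel]
    obtain ⟨α, c, h1, h2, h3, h4⟩ := Span.exists_span B.data B.dimP B.dimX B.inv B.compat hβ'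
      (fun _ _ => s) (fun _ _ => hs)
    refine ⟨fun i => cls δ _ (α i) (h1 i), ?_⟩
    have hmem : ∀ i : Fin (n + 1), c i (i : ℕ) ∈ Cyc.Zk P δP (m - n + n) := fun i => by
      have := (h3 i).mem (i : ℕ)
      rwa [show m - n + ((i : ℕ) : ℤ) + n - ((i : ℕ) : ℤ) = m - n + n by ring] at this
    have hs' : ∑ i, c i (i : ℕ) ∈ Cyc.Zk P δP (m - n + n) :=
      (ChowOps.zk P δP _).sum_mem fun i _ => hmem i
    refine Eq.trans ?_ (((cls_eq_iff B.dimP hs' hβ').2
      (Ord.ratEquiv_symm B.dimP h4)).trans (cls_congr (sub_add_cancel m (n : ℤ)) rfl))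
    rw [cls_sum Finset.univ _ hmem hs']
    refine Finset.sum_congr rfl fun i _ => ?_
    have h0 := (h3 i).mem 0
    rw [Nat.cast_zero, sub_zero] at h0
    rw [term_apply, B.pb_cls (h1 i) rfl h0 (h2 i), B.pow_h_cls (fun _ => hs) (h3 i) h0]
    exact cls_congr (by ring) rfl

theorem exists_coeff : ∃ A : Fin (n + 1) → (Tot X δ →+ Tot X δ),
    ∀ x, ∑ i : Fin (n + 1), B.term (i : ℕ) (A i x) = B.term (n + 1) x := by
  choose a ha using fun x => B.surj (B.term (n + 1) x)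
  refine ⟨fun i => AddMonoidHom.mk' (fun x => a x i) fun x y => sub_eq_zero.1 ?_, ha⟩
  refine B.inj (a := fun i => a (x + y) i - (a x i + a y i)) ?_ i
  simp only [map_sub, map_add, Finset.sum_sub_distrib, Finset.sum_add_distrib, ha, sub_self]

/-- The coefficients of `h^{n+1} π^*`. -/
def coeff : Fin (n + 1) → (Tot X δ →+ Tot X δ) := B.exists_coeff.choose

/-- The Chern class operators. -/
def ch (j : ℕ) : AddMonoid.End (Tot X δ) :=
  if h0 : j = 0 then 1
  else if hj : j ≤ n + 1 then ((-1 : ℤ) ^ (j + 1)) • B.coeff ⟨n + 1 - j, by omega⟩ else 0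

theorem ch_zero : B.ch 0 = 1 := dif_pos rfl

theorem ch_apply (i : Fin (n + 1)) (x : Tot X δ) :
    B.ch (n + 1 - (i : ℕ)) x = (-1 : ℤ) ^ (n + (i : ℕ)) • B.coeff i x := by
  have h1 : n + 1 - (i : ℕ) ≠ 0 := by have := i.2; omega
  rw [ch, dif_neg h1, dif_pos (Nat.sub_le _ _)]
  have h2 : (⟨n + 1 - (n + 1 - (i : ℕ)), by omega⟩ : Fin (n + 1)) = i := Fin.ext (by
    have := i.2
    show n + 1 - (n + 1 - (i : ℕ)) = i
    omega)
  rw [h2]
  show (-1 : ℤ) ^ (n + 1 - (i : ℕ) + 1) • B.coeff i x = _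
  congr 1
  rw [neg_one_pow_eq_pow_mod_two, neg_one_pow_eq_pow_mod_two (n := n + (i : ℕ))]
  have := i.2
  congr 1
  omega

/-- The defining relation. -/
theorem rel (x : Tot X δ) :
    ∑ i ∈ Finset.range (n + 2), ((-1 : ℤ) ^ i) • B.term i (B.ch (n + 1 - i) x) = 0 := by
  rw [Finset.sum_range_succ, Nat.sub_self, ch_zero, Finset.sum_range]
  have h : ∀ i : Fin (n + 1), ((-1 : ℤ) ^ (i : ℕ)) • B.term (i : ℕ) (B.ch (n + 1 - (i : ℕ)) x) =
      ((-1 : ℤ) ^ n) • B.term (i : ℕ) (B.coeff i x) := fun i => by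
    rw [ch_apply, map_zsmul, smul_smul, ← pow_add]
    congr 1
    rw [neg_one_pow_eq_pow_mod_two, neg_one_pow_eq_pow_mod_two (n := n)]
    congr 1
    omega
  rw [Finset.sum_congr rfl (fun i _ => h i), ← Finset.smul_sum]
  show ((-1 : ℤ) ^ n) • (∑ i : Fin (n + 1), B.term (i : ℕ) (B.exists_coeff.choose i x)) + _ = 0
  rw [B.exists_coeff.choose_spec x, show (1 : AddMonoid.End (Tot X δ)) x = x from rfl, ← add_zsmul, pow_succ, mul_neg_one, add_neg_cancel, zero_zsmul]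

/-- The relation determines the classes. -/
theorem eq_ch {a : ℕ → Tot X δ}
    (h0 : ∑ i ∈ Finset.range (n + 2), ((-1 : ℤ) ^ i) • B.term i (a (n + 1 - i)) = 0) {j : ℕ}
    (hj : j ≤ n + 1) : a j = B.ch j (a 0) := by
  by_cases hj0 : j = 0
  · subst hj0
    rw [ch_zero]
    rfl
  have h1 := B.rel (a 0)
  rw [Finset.sum_range_succ, Nat.sub_self] at h0 h1
  rw [show B.ch 0 (a 0) = a 0 by rw [ch_zero]; rfl] at h1
  have h2 := congrArg₂ (· - ·) h0 h1
  simp only [add_sub_add_right_eq_sub, sub_zero] at h2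
  rw [← Finset.sum_sub_distrib, Finset.sum_range] at h2
  have h3 := B.inj (a := fun i : Fin (n + 1) =>
      ((-1 : ℤ) ^ (i : ℕ)) • (a (n + 1 - (i : ℕ)) - B.ch (n + 1 - (i : ℕ)) (a 0))) (by
    refine Eq.trans ?_ h2
    exact Finset.sum_congr rfl fun i _ => by rw [map_zsmul, map_sub, smul_sub]) ⟨n + 1 - j, by omega⟩
  simp only [show n + 1 - (n + 1 - j) = j by omega] at h3
  rcases neg_one_pow_eq_or ℤ (n + 1 - j) with e | e <;> rw [e] at h3
  · rw [one_smul] at h3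
    exact sub_eq_zero.1 h3
  · rw [neg_one_zsmul, neg_eq_zero] at h3
    exact sub_eq_zero.1 h3

theorem ch_eq_zero {j : ℕ} (hj : n + 1 < j) : B.ch j = 0 := by
  rw [ch, dif_neg (by omega), dif_neg (by omega)]

theorem exists_seq {k : ℤ} {α : AlgebraicCycle X ℤ} {γ : Fin (n + 2) → AlgebraicCycle X ℤ}
    (hγ : Cyc.IsChernCap π δ δP O1 (n + 1) k α γ) :
    ∃ a : ℕ → Tot X δ, (∀ j : Fin (n + 2), a (j : ℕ) = cls δ (k - (j : ℕ)) (γ j) (hγ.2.1 j)) ∧
      ∑ i ∈ Finset.range (n + 2), ((-1 : ℤ) ^ i) • B.term i (a (n + 1 - i)) = 0 := by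
  refine ⟨fun j => if hj : j < n + 2 then cls δ (k - j) (γ ⟨j, hj⟩) (hγ.2.1 ⟨j, hj⟩) else 0,
    fun j => by simp only [dif_pos j.2], ?_⟩
  obtain ⟨s, hs⟩ := exists_sections B.inv
  obtain ⟨c, hc0, hc, hr⟩ := Chern.exists_rel B.dimP B.data B.inv hγ (fun _ => s) (fun _ => hs)
  rw [Finset.sum_range]
  have hmem : ∀ i : Fin (n + 2), ((-1 : ℤ) ^ (i : ℕ)) • c i (i : ℕ) ∈ Cyc.Zk P δP (k - 1) := fun i => by
    refine mem_zsmul _ ?_
    have := (hc i).mem (i : ℕ)
    rwa [show k - 1 + ((i : ℕ) : ℤ) - ((i : ℕ) : ℤ) = k - 1 by ring] at this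
  have hterm : ∀ i : Fin (n + 2), ((-1 : ℤ) ^ (i : ℕ)) • B.term (i : ℕ)
      (if hj : n + 1 - (i : ℕ) < n + 2 then cls δ (k - (n + 1 - (i : ℕ) : ℕ)) (γ ⟨n + 1 - (i : ℕ), hj⟩)
        (hγ.2.1 ⟨n + 1 - (i : ℕ), hj⟩) else 0) =
      cls δP (k - 1) (((-1 : ℤ) ^ (i : ℕ)) • c i (i : ℕ)) (hmem i) := fun i => by
    rw [dif_pos (show n + 1 - (i : ℕ) < n + 2 by omega)]
    have hrev : Fin.rev i = ⟨n + 1 - (i : ℕ), by omega⟩ := Fin.ext (by
      simp [Fin.val_rev])
    have h0 := (hc i).mem 0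
    rw [Nat.cast_zero, sub_zero] at h0
    rw [term_apply, B.pb_cls (hγ.2.1 ⟨n + 1 - (i : ℕ), by omega⟩) (show k - 1 + ((i : ℕ) : ℤ) =
      k - ((n + 1 - (i : ℕ) : ℕ) : ℤ) + n by have := i.2; omega) h0 (by rw [hc0, hrev]),
      B.pow_h_cls (fun _ => hs) (hc i) h0, ← cls_zsmul _ ((hc i).mem _)]
    exact cls_congr (by ring) rfl
  rw [Finset.sum_congr rfl (fun i _ => hterm i),
    ← cls_sum Finset.univ _ hmem ((ChowOps.zk P δP _).sum_mem fun i _ => hmem i), cls_eq_zero_iff B.dimP]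
  exact hr

/-- Chern caps in the sense of `Cyc.IsChernCap` are the values of the operators. -/
theorem cls_eq_ch {k : ℤ} {α : AlgebraicCycle X ℤ} {γ : Fin (n + 2) → AlgebraicCycle X ℤ}
    (hγ : Cyc.IsChernCap π δ δP O1 (n + 1) k α γ) (hα : α ∈ Cyc.Zk X δ k) (j : Fin (n + 2)) :
    cls δ (k - (j : ℕ)) (γ j) (hγ.2.1 j) = B.ch (j : ℕ) (cls δ k α hα) := by
  obtain ⟨a, ha, hrel⟩ := B.exists_seq hγ
  rw [← ha j, B.eq_ch hrel (Nat.le_of_lt_succ j.2)]
  congr 1
  refine (ha 0).trans (cls_congr (by simp) ?_)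
  rw [hγ.1]

end Bdl

section Intertwine

variable {Y Q : Scheme.{u}} {π : P ⟶ X} {O1 : P.Modules} {n : ℕ} {δP : P → ℤ} {δ : X → ℤ}
  {π' : Q ⟶ Y} {O1' : Q.Modules} {δQ : Q → ℤ} {δY : Y → ℤ}
  [IsLocallyNoetherian X] [IsLocallyNoetherian P] [IsProper π]
  [IsLocallyNoetherian Y] [IsLocallyNoetherian Q] [IsProper π']

/-- An operator that lifts to the bundles commutes with the Chern classes. -/
theorem Bdl.intertwine (B : Bdl π O1 n δP δ) (B' : Bdl π' O1' n δQ δY) (A : Tot X δ →+ Tot Y δY)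
    (A' : Tot P δP →+ Tot Q δQ) (hh : ∀ z, A' (B.h z) = B'.h (A' z))
    (hpb : ∀ z, A' (B.pb z) = B'.pb (A z)) (j : ℕ) (x : Tot X δ) :
    A (B.ch j x) = B'.ch j (A x) := by
  by_cases hj : j ≤ n + 1
  swap
  · rw [B.ch_eq_zero (by omega), B'.ch_eq_zero (by omega)]
    exact map_zero A
  have hpow : ∀ i z, A' ((B.h ^ i) z) = (B'.h ^ i) (A' z) := by
    intro i
    induction i with
    | zero => intro z; rfl
    | succ i ih =>
      intro z
      rw [pow_succ', pow_succ']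
      show A' (B.h _) = B'.h _
      rw [hh]
      exact congrArg B'.h (ih z)
  have h1 := congrArg A' (B.rel x)
  rw [map_sum, map_zero] at h1
  have h2 : ∑ i ∈ Finset.range (n + 2), ((-1 : ℤ) ^ i) • B'.term i (A (B.ch (n + 1 - i) x)) = 0 := by
    refine Eq.trans (Finset.sum_congr rfl fun i _ => ?_) h1
    rw [map_zsmul]
    congr 1
    rw [Bdl.term_apply, Bdl.term_apply, hpow, hpb]
  rw [B'.eq_ch (a := fun j => A (B.ch j x)) h2 hj, B.ch_zero]
  rfl

end Intertwine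

end Groth.Agent.Lib.Cyc.CH
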