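import Groth.Agent.Lib.Cyc.CH.Comm
import Groth.Agent.Lib.Cyc.CH.Bdl

/-!
# The Chern class of a line bundle
-/

set_option autoImplicit false
set_option linter.style.haveILetI false
universe u

open CategoryTheory AlgebraicGeometry

noncomputable section

namespace Groth.Agent.Lib.Cyc.CH

open Groth.Agent.Lib Groth.Agent.Lib.Cyc Modules.StalkModule

/-- An epimorphism of invertible modules is an isomorphism. -/
theorem isIso_of_epi_invertible {X : Scheme.{u}} {L N : X.Modules} (hL : PicF.IsInvertible L)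
    (hN : PicF.IsInvertible N) (φ : L ⟶ N) [Epi φ] : IsIso φ := by
  rw [isIso_iff_stalkMapₗ_bijective]
  intro x
  have hs := (epi_iff_stalkMapₗ_surjective φ).1 inferInstance x
  refine ⟨?_, hs⟩
  obtain ⟨t, ht, -⟩ := C1Indep.exists_free_gen hL x
  obtain ⟨g, -, hg⟩ := C1Indep.exists_free_gen hN x
  obtain ⟨w, hw⟩ := hs g
  obtain ⟨b, rfl⟩ := Submodule.mem_span_singleton.1
    (show w ∈ Submodule.span (X.presheaf.stalk x) {t} by rw [ht]; trivial)
  rw [injective_iff_map_eq_zero]
  intro v hv
  obtain ⟨a, rfl⟩ := Submodule.mem_span_singleton.1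
    (show v ∈ Submodule.span (X.presheaf.stalk x) {t} by rw [ht]; trivial)
  rw [map_smul] at hv hw
  have : a • g = 0 := by rw [← hw, smul_comm, hv, smul_zero]
  rw [hg a this, zero_smul]

variable {X P : Scheme.{u}} [IsLocallyNoetherian X] [IsLocallyNoetherian P] {π : P ⟶ X} [IsProper π]
  {δ : X → ℤ} {δP : P → ℤ} {O1 : P.Modules}

/-- `c₁` computes the only Chern class of a line bundle. -/
theorem Bdl.ch_one (B : Bdl π O1 0 δP δ) {L : X.Modules} (hL : PicF.IsInvertible L)
    (e : (Scheme.Modules.pullback π).obj L ≅ O1) (x : Tot X δ) :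
    B.ch 1 x = c1 δ B.dimX hL x := by
  have := B.flat
  refine (B.eq_ch (a := fun j => if j = 0 then x else c1 δ B.dimX hL x) ?_ (j := 1) (by omega)).symm
  rw [Finset.sum_range_succ, Finset.sum_range_one]
  simp only [pow_zero, pow_one, one_smul, neg_one_zsmul, Bdl.term_apply]
  rw [add_neg_eq_zero]
  show B.pb (c1 δ B.dimX hL x) = B.h (B.pb x)
  exact (pull_c1 B.dimP B.dimX π B.shift hL x).trans
    (DFunLike.congr_fun (c1_congr B.dimP (PicLoc.isInvertible_pullback π hL) B.inv e) _)

end Groth.Agent.Lib.Cyc.CH
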