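import Groth.Agent.Lib.Cyc.CH.QuotRel
import Groth.Agent.Lib.Cyc.CH.Line

/-!
# Chern classes and an invertible submodule
-/

set_option autoImplicit false
set_option linter.style.haveILetI false
universe u

open CategoryTheory CategoryTheory.Limits AlgebraicGeometry

noncomputable section

namespace Groth.Agent.Lib.Cyc.CH

open Groth.Agent.Lib Groth.Agent.Lib.Cyc Modules.StalkModule

variable {X P : Scheme.{u}} {π : P ⟶ X}

theorem subsingleton_stalk_freeMod_zero (U : Scheme.{u}) (x : U) :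
    Subsingleton ((FlatMod.freeMod U 0).presheaf.stalk x) := by
  have hz : IsZero (FlatMod.freeMod U 0) :=
    (IsZero.iff_id_eq_zero _).2 (Limits.Sigma.hom_ext _ _ fun b => b.elim0)
  exact AddCommGrpCat.subsingleton_of_isZero ((Modules.Stalk.stalkFunctor U x).map_isZero hz)

theorem isZero_of_rank_zero {F : X.Modules} (hF : FlatMod.IsFinLocFreeOfRank 0 F) : IsZero F := by
  refine (IsZero.iff_id_eq_zero _).2 (hom_ext_stalkMapₗ fun x => LinearMap.ext fun v => ?_)
  obtain ⟨U, hx, ⟨i⟩⟩ := hF x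
  haveI := subsingleton_stalk_freeMod_zero (↑U) ⟨x, hx⟩
  haveI : Subsingleton ((F.restrict U.ι).presheaf.stalk ⟨x, hx⟩) :=
    (stalkLinearEquiv i ⟨x, hx⟩).toEquiv.subsingleton
  haveI : Subsingleton (F.presheaf.stalk (U.ι ⟨x, hx⟩)) :=
    (Modules.StalkRestrict.restrictStalkAddEquiv U.ι F ⟨x, hx⟩).symm.toEquiv.subsingleton
  haveI : Subsingleton (F.presheaf.stalk x) := ‹Subsingleton (F.presheaf.stalk (U.ι ⟨x, hx⟩))›
  exact Subsingleton.elim _ _

variable [IsLocallyNoetherian X] [IsLocallyNoetherian P] [IsProper π] {O1 : P.Modules} {n : ℕ}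
  {δP : P → ℤ} {δ : X → ℤ} (B : Bdl π O1 (n + 1) δP δ) {Q : Scheme.{u}} {π' : Q ⟶ X} [IsProper π']
  [IsLocallyNoetherian Q] {O1' : Q.Modules} {δQ : Q → ℤ}
  {E F L : X.Modules} {q : (Scheme.Modules.pullback π).obj E ⟶ O1}
  {q' : (Scheme.Modules.pullback π').obj F ⟶ O1'}

/-- `c(E) = c(L) c(F)` for `0 → L → E → F → 0`. -/
theorem Bdl.ch_sub_line (hP : Cyc.IsSetup P δP) (BQ : Bdl π' O1' n δQ δ)
    (hQ : KRR.IsProjBundle π' F O1' q') (hL : PicF.IsInvertible L) (a : L ⟶ E) (b : E ⟶ F)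
    (hab : a ≫ b = 0) (hex : (ShortComplex.mk a b hab).ShortExact) [Epi q] (j : ℕ) (x : Tot X δ) :
    B.ch (j + 1) x = BQ.ch (j + 1) x + c1 δ B.dimX hL (BQ.ch j x) := by
  by_cases hj : j + 1 ≤ n + 1 + 1
  swap
  · rw [B.ch_eq_zero (by omega), BQ.ch_eq_zero (by omega), BQ.ch_eq_zero (by omega),
      show (0 : AddMonoid.End (Tot X δ)) x = 0 from rfl, map_zero, add_zero]
  haveI := B.flat
  haveI := BQ.flat
  haveI : PreservesColimitsOfSize.{0, 0} (Scheme.Modules.pullback π) :=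
    (Scheme.Modules.pullbackPushforwardAdjunction π).leftAdjoint_preservesColimits
  have hpL := PicLoc.isInvertible_pullback π hL
  obtain ⟨W, ι, hι, N, s, hN, ⟨eN⟩, hD, hσ0⟩ :=
    Zero.exists_zeroScheme ((Scheme.Modules.pullback π).map a ≫ q) hpL B.inv
  haveI := hι
  haveI : (Scheme.Modules.pullback π).PreservesZeroMorphisms :=
    Functor.preservesZeroMorphisms_of_preserves_initial_object
  haveI : PreservesColimitsOfSize.{0, 0} (Scheme.Modules.pullback ι) :=
    (Scheme.Modules.pullbackPushforwardAdjunction ι).leftAdjoint_preservesColimits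
  haveI : (Scheme.Modules.pullback ι).PreservesZeroMorphisms :=
    Functor.preservesZeroMorphisms_of_preserves_initial_object
  have hW := PP.SubSetup.isSetup ι hP
  haveI := hW.1
  have hι' : Cyc.DeltaCompat ι (fun d => δP (ι d)) δP := fun d => ⟨0, by
    simpa [Residue.trdegAt] using
      FieldDim.trdegAt_eq_zero_of_surjective ι d (FieldDim.residueFieldMap_surjective ι d), by simp⟩
  haveI : Epi (ShortComplex.mk a b hab).g := hex.epi_g
  have hc1' := CokernelCofork.mapIsColimit _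
    (CokernelCofork.mapIsColimit _ hex.gIsCokernel (Scheme.Modules.pullback π)) (Scheme.Modules.pullback ι)
  obtain ⟨φ₀, hφ₀⟩ := CokernelCofork.IsColimit.desc' hc1' ((Scheme.Modules.pullback ι).map q)
    ((Functor.map_comp _ _ _).symm.trans hσ0)
  have hφ₀' : (Scheme.Modules.pullback ι).map ((Scheme.Modules.pullback π).map b) ≫ φ₀ =
      (Scheme.Modules.pullback ι).map q := hφ₀
  let φ₁ : (Scheme.Modules.pullback ι).obj ((Scheme.Modules.pullback π).obj F) ⟶
      (Scheme.Modules.pullback ι).obj O1 := φ₀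
  haveI : Epi φ₁ := epi_of_epi_fac (show (Scheme.Modules.pullback ι).map ((Scheme.Modules.pullback π).map b) ≫ φ₁ =
    (Scheme.Modules.pullback ι).map q from hφ₀')
  let φ : (Scheme.Modules.pullback (ι ≫ π)).obj F ⟶ (Scheme.Modules.pullback ι).obj O1 :=
    (Scheme.Modules.pullbackComp ι π).inv.app F ≫ φ₁
  haveI : Epi φ := epi_comp _ _
  have sq : IsPullback (pullback.snd π π') (pullback.fst π π') π' π :=
    (IsPullback.of_hasPullback π π').flip
  haveI : IsLocallyNoetherian (pullback π π') :=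
    LocallyOfFiniteType.isLocallyNoetherian (pullback.fst π π')
  obtain ⟨δp, hδp⟩ := PP.P1Graph.exists_deltaCompat (pullback.fst π π') δP
  have hpd : Cyc.IsDimFun (pullback π π' : Scheme.{u}) δp :=
    InducedDimFun.isDimFun (pullback.fst π π') hP.2.2 hP.2.1 hδp
  have Bp := BQ.baseChange sq hP.2.2 hpd hδp
  have sqW : IsPullback (pullback.fst (pullback.fst π π') ι) (pullback.snd (pullback.fst π π') ι)
      (pullback.fst π π') ι := IsPullback.of_hasPullback _ _
  haveI : IsLocallyNoetherian (pullback (pullback.fst π π') ι) :=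
    LocallyOfFiniteType.isLocallyNoetherian (pullback.snd (pullback.fst π π') ι)
  obtain ⟨δw, hδw⟩ := PP.P1Graph.exists_deltaCompat (pullback.snd (pullback.fst π π') ι) (fun d => δP (ι d))
  have Bw := Bp.baseChange sqW hW.2.2 (InducedDimFun.isDimFun _ hW.2.2 hW.2.1 hδw) hδw
  have hqr := quot_rel hQ (g := ι ≫ π) (sqW.paste_horiz sq) Bw hW.2.1
    ((Scheme.Modules.pullbackComp _ _).app O1') (PicLoc.isInvertible_pullback ι B.inv) φ
  obtain ⟨y, hy⟩ := exists_push_eq_c1 B.dimP ι hN hD hι' (B.pb x)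
  have hfac : c1 δP B.dimP hN = c1 δP B.dimP B.inv - c1 δP B.dimP hpL := by
    rw [← c1_congr B.dimP (TensorMod.Invertible.isInvertible_tensorMod hN hpL) B.inv eN,
      c1_tensor B.dimP hN hpL _ hP, add_sub_cancel_right]
  haveI : IsProper ι := inferInstance
  haveI : IsProper (pullback.fst (pullback.fst π π') ι) := inferInstance
  have h0 := congrArg (push hW.2.2 B.dimP ι hι') (hqr y)
  rw [map_sum, map_zero] at h0
  have hpow : ∀ (i : ℕ) (v : Tot W (fun d => δP (ι d))), push hW.2.2 B.dimP ι hι'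
      ((c1 _ Bw.dimX (PicLoc.isInvertible_pullback ι B.inv) ^ i : AddMonoid.End _) v) =
      (B.h ^ i) (push hW.2.2 B.dimP ι hι' v) := by
    intro i
    induction i with
    | zero => intro v; rfl
    | succ i ih =>
      intro v
      rw [pow_succ', pow_succ']
      exact (push_c1 hW.2.2 B.dimP ι hι' B.inv _).trans (congrArg B.h (ih v))
  have hcomm : ∀ (l i : ℕ) (z : Tot P δP), Bp.ch l ((B.h ^ i) z) = (B.h ^ i) (Bp.ch l z) := by
    intro l i
    induction i with
    | zero => intro z; rfl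
    | succ i ih =>
      intro z
      rw [pow_succ']
      exact (Bp.ch_c1 B.inv l _).symm.trans (congrArg B.h (ih z))
  have := Bp.flat
  have Bp' := B.baseChange sq.flip BQ.dimP hpd
    (deltaCompat_of_comm sq.w BQ.compat hδp B.compat)
  have := Bp'.flat
  let c : AddMonoid.End (Tot X δ) := c1 δ B.dimX hL
  have h1 : ∀ i ∈ Finset.range (n + 2),
      push hW.2.2 B.dimP ι hι' (((-1 : ℤ) ^ i) • Bw.ch (n + 1 - i)
        ((c1 _ Bw.dimX (PicLoc.isInvertible_pullback ι B.inv) ^ i : AddMonoid.End _) y)) =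
      ((-1 : ℤ) ^ i) • B.term (i + 1) (BQ.ch (n + 1 - i) x) -
        ((-1 : ℤ) ^ i) • B.term i (c (BQ.ch (n + 1 - i) x)) := by
    intro i _
    rw [map_zsmul, Bp.push_ch sqW Bw hι', hpow, hy, hcomm, ← smul_sub]
    congr 1
    have hpull : Bp.ch (n + 1 - i) (B.pb x) = B.pb (BQ.ch (n + 1 - i) x) :=
      (BQ.pull_ch sq Bp B.shift Bp'.shift (n + 1 - i) x).symm
    have hcl : B.pb (c (BQ.ch (n + 1 - i) x)) = c1 δP B.dimP hpL (B.pb (BQ.ch (n + 1 - i) x)) :=
      pull_c1 B.dimP B.dimX π B.shift hL _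
    rw [← Bp.ch_c1 hN, hpull, hfac, Bdl.term_apply, Bdl.term_apply, hcl, pow_succ]
    exact map_sub (B.h ^ i) _ _
  rw [Finset.sum_congr rfl h1, Finset.sum_sub_distrib] at h0
  let A : ℕ → Tot X δ
    | 0 => x
    | p + 1 => BQ.ch (p + 1) x + c (BQ.ch p x)
  refine (B.eq_ch (a := A) ?_ hj).symm
  rw [Finset.sum_range_succ']
  have htop : A (n + 1 + 1 - 0) = c (BQ.ch (n + 1) x) := by
    show BQ.ch (n + 1 + 1) x + c (BQ.ch (n + 1) x) = _
    rw [BQ.ch_eq_zero (by omega)]
    exact zero_add _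
  have hstep : ∀ i ∈ Finset.range (n + 2), ((-1 : ℤ) ^ (i + 1)) • B.term (i + 1) (A (n + 1 + 1 - (i + 1))) =
      -(((-1 : ℤ) ^ i) • B.term (i + 1) (BQ.ch (n + 1 - i) x)) +
        (if i < n + 1 then ((-1 : ℤ) ^ (i + 1)) • B.term (i + 1) (c (BQ.ch (n + 1 - (i + 1)) x)) else 0) := by
    intro i hi
    have hi' := Finset.mem_range.1 hi
    by_cases h : i < n + 1
    · rw [if_pos h, show n + 1 + 1 - (i + 1) = (n - i) + 1 by omega, show n + 1 - (i + 1) = n - i by omega,
        show n + 1 - i = n - i + 1 by omega]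
      show _ • B.term _ (BQ.ch (n - i + 1) x + c (BQ.ch (n - i) x)) = _
      rw [map_add, smul_add, pow_succ, mul_neg_one, neg_smul]
    · rw [if_neg h, show n + 1 + 1 - (i + 1) = 0 by omega, show n + 1 - i = 0 by omega, add_zero,
        BQ.ch_zero, pow_succ, mul_neg_one, neg_smul]
      rfl
  rw [Finset.sum_congr rfl hstep, htop, Finset.sum_add_distrib, Finset.sum_neg_distrib, pow_zero, one_smul,
    Finset.sum_range_succ (fun i => if i < n + 1 then
      ((-1 : ℤ) ^ (i + 1)) • B.term (i + 1) (c (BQ.ch (n + 1 - (i + 1)) x)) else 0) (n + 1),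
    if_neg (lt_irrefl _), add_zero,
    Finset.sum_congr rfl (fun i hi => if_pos (Finset.mem_range.1 hi)), add_assoc,
    show B.term 0 (c (BQ.ch (n + 1) x)) =
      ((-1 : ℤ) ^ 0) • B.term 0 (c (BQ.ch (n + 1 - 0) x)) by simp,
    ← Finset.sum_range_succ' (fun i => ((-1 : ℤ) ^ i) • B.term i (c (BQ.ch (n + 1 - i) x))) (n + 1),
    neg_add_eq_zero]
  exact sub_eq_zero.1 h0

omit [IsProper π] [IsLocallyNoetherian P] in
/-- A short exact sequence `L → E → 0`. -/
theorem Bdl.ch_sub_line_zero [IsLocallyNoetherian P] [IsProper π] {δP₀ : P → ℤ} (B0 : Bdl π O1 0 δP₀ δ)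
    (hF : FlatMod.IsFinLocFreeOfRank 0 F) (hL : PicF.IsInvertible L) (a : L ⟶ E) (b : E ⟶ F)
    (hab : a ≫ b = 0) (hex : (ShortComplex.mk a b hab).ShortExact) [Epi q] (x : Tot X δ) :
    B0.ch 1 x = c1 δ B0.dimX hL x := by
  haveI : Epi a := hex.exact.epi_f ((isZero_of_rank_zero hF).eq_of_tgt _ _)
  haveI : (Scheme.Modules.pullback π).IsLeftAdjoint :=
    (Scheme.Modules.pullbackPushforwardAdjunction π).isLeftAdjoint
  haveI : Epi ((Scheme.Modules.pullback π).map a ≫ q) := epi_comp _ _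
  haveI : IsIso ((Scheme.Modules.pullback π).map a ≫ q) :=
    isIso_of_epi_invertible (PicLoc.isInvertible_pullback π hL) B0.inv _
  exact B0.ch_one hL (asIso ((Scheme.Modules.pullback π).map a ≫ q)) x

end Groth.Agent.Lib.Cyc.CH
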