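import Groth.Agent.Lib.Cyc.CH.BdlExists
import Groth.Agent.Lib.Cyc.PB.Univ
import Groth.Agent.Lib.Cyc.CH.SubLine

/-!
# Projective bundles are unique, hence proper
-/

set_option autoImplicit false
set_option linter.style.haveILetI false
universe u

open CategoryTheory CategoryTheory.Limits AlgebraicGeometry TopologicalSpace Opposite
open ZarCoh.FlatBC.PullbackSections
open MvPolynomial hiding C

noncomputable section

namespace Groth.Agent.Lib.Cyc.CH.BdlUniq

open Groth.Agent.Lib TensorMod TensorMod.Dual TensorMod.Gen TensorMod.Basis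
open Groth.Agent.Lib.Cyc.PB Groth.Agent.Lib.Cyc.PB.Univ Groth.Agent.Lib.Cyc.PB.Sect

variable {X P P' : Scheme.{u}} {π : P ⟶ X} {π' : P' ⟶ X} {E : X.Modules} {O1 : P.Modules}
  {O1' : P'.Modules} {q : (Scheme.Modules.pullback π).obj E ⟶ O1}
  {q' : (Scheme.Modules.pullback π').obj E ⟶ O1'}

/-- A morphism of projective bundles. -/
structure Mor (π : P ⟶ X) (π' : P' ⟶ X) (q : (Scheme.Modules.pullback π).obj E ⟶ O1)
    (q' : (Scheme.Modules.pullback π').obj E ⟶ O1') (h : P' ⟶ P) where
  over' : h ≫ π = π'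
  iso : (Scheme.Modules.pullback h).obj O1 ≅ O1'
  comp : (Scheme.Modules.pullbackCongr over').inv.app E ≫ (Scheme.Modules.pullbackComp h π).inv.app E ≫
        (Scheme.Modules.pullback h).map q ≫ iso.hom = q'

section Local

variable {h : P' ⟶ P} (M : Mor π π' q q' h) {U : X.Opens} {n : ℕ} (e : Fin (n + 1) → Γ(E, U))

theorem classify (k : Fin (n + 1)) {W : P'.Opens} (hW : W ≤ π' ⁻¹ᵁ U) :
    M.iso.hom.app W (pbRes h O1 (le_preimage_of_comp M.over' hW) (sec q e k)) =
      rs O1' hW (sec q' e k) := by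
  have h1 := DescAlg.PbSec.R_pbRes h M.over' E (le_refl (π ⁻¹ᵁ U))
    (le_preimage_of_comp M.over' hW) (e k)
  rw [DescAlg.PbSec.R_eq] at h1
  have e1 : (DescAlg.PbSec.tr h M.over' E).hom.app W ≫ (DescAlg.PbSec.tr h M.over' E).inv.app W = 𝟙 _ := by
    rw [← Scheme.Modules.Hom.comp_app, Iso.hom_inv_id]
    rfl
  have e2 := ConcreteCategory.congr_hom e1 (pbRes h ((Scheme.Modules.pullback π).obj E)
    (le_preimage_of_comp M.over' hW) (pbRes π E le_rfl (e k)))
  rw [ConcreteCategory.comp_apply] at e2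
  have h3 : ((DescAlg.PbSec.tr h M.over' E).inv ≫ (Scheme.Modules.pullback h).map q ≫ M.iso.hom).app W
      (pbRes π' E hW (e k)) =
        M.iso.hom.app W (pbRes h O1 (le_preimage_of_comp M.over' hW) (sec q e k)) := by
    rw [← h1, Scheme.Modules.Hom.comp_app, Scheme.Modules.Hom.comp_app, ConcreteCategory.comp_apply,
      ConcreteCategory.comp_apply]
    exact congrArg (M.iso.hom.app W) ((congrArg (((Scheme.Modules.pullback h).map q).app W) e2).trans
      (DescAlg.PbSec.pbRes_natural h q _ _))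
  refine h3.symm.trans ((congr(Scheme.Modules.Hom.app $(M.comp) W (pbRes π' E hW (e k)))).trans ?_)
  rw [sec, HomGlue.rs_app, rs_pbRes]

theorem isGen_map {T : Scheme.{u}} {L L' : T.Modules} (i : L ≅ L') {W : T.Opens} {x : Γ(L, W)}
    (hx : IsGen L W x) : IsGen L' W (i.hom.app W x) := fun V hV => by
  refine (iff_of_eq (congrArg Function.Bijective (funext fun a => ?_))).1
    ((ConcreteCategory.bijective_of_isIso (i.hom.app V)).comp (hx V hV))
  show i.hom.app V (a • rs L hV x) = a • rs L' hV (i.hom.app W x)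
  rw [Scheme.Modules.Hom.app_smul, HomGlue.rs_app]

include M in
theorem preimage_locus (hP : KRR.IsProjBundle π E O1 q) (l : Fin (n + 1)) :
    h ⁻¹ᵁ locus q e l = locus q' e l := by
  refine le_antisymm ?_ fun z hz => ?_
  · have hle : h ⁻¹ᵁ locus q e l ≤ π' ⁻¹ᵁ U := fun z hz => by
      show π' z ∈ U
      rw [← M.over']
      exact locus_le (q := q) e l hz
    refine le_sSup ⟨hle, ?_⟩
    have := isGen_map M.iso (isGen_pbRes h (isGen_locus (q := q) e l) (le_refl (h ⁻¹ᵁ locus q e l)))
    rwa [pbRes_rs, classify M e l hle] at this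
  · refine mem_locus e hP h (S := locus q' e l) (le_preimage_of_comp M.over' (locus_le e l)) ?_ z hz
    have := isGen_map M.iso.symm (isGen_locus (q := q') e l)
    rw [← classify M e l (locus_le e l)] at this
    have e1 : M.iso.hom.app (locus q' e l) ≫ M.iso.inv.app (locus q' e l) = 𝟙 _ := by
      rw [← Scheme.Modules.Hom.comp_app, Iso.hom_inv_id]
      rfl
    have e2 := ConcreteCategory.congr_hom e1
      (pbRes h O1 (le_preimage_of_comp M.over' (locus_le (q := q') e l)) (sec q e l))
    rw [ConcreteCategory.comp_apply] at e2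
    exact e2 ▸ this

theorem locus_le_preimage (M : Mor π π' q q' h) (hP : KRR.IsProjBundle π E O1 q) (l : Fin (n + 1)) :
    locus q' e l ≤ h ⁻¹ᵁ locus q e l := (preimage_locus M e hP l).ge

include M in
theorem appLE_coef (hP : KRR.IsProjBundle π E O1 q) (l k : Fin (n + 1)) :
    h.appLE (locus q e l) (locus q' e l) (locus_le_preimage e M hP l) (coef e l k) = coef e l k := by
  have hg := isGen_locus (q := q') e l
  refine (hg _ le_rfl).1 ?_
  show _ • rs O1' le_rfl _ = _ • rs O1' le_rfl _
  rw [rs_self]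
  have h1 := congrArg (M.iso.hom.app (locus q' e l))
    (congrArg (pbRes h O1 (locus_le_preimage e M hP l)) (coef_spec (q := q) e l k))
  rw [pbRes_smul, pbRes_rs, pbRes_rs, Scheme.Modules.Hom.app_smul, classify M e l (locus_le e l),
    classify M e k (locus_le e l)] at h1
  exact h1.trans (coef_spec (q := q') e l k).symm

include M in
theorem resLE_coordMap (hP : KRR.IsProjBundle π E O1 q) (l : Fin (n + 1)) :
    h.resLE (locus q e l) (locus q' e l) (locus_le_preimage e M hP l) ≫ coordMap (q := q) e l =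
      coordMap (q := q') e l := by
  have hψ : CommRingCat.ofHom (psi (q := q) e l) ≫
      h.appLE (locus q e l) (locus q' e l) (locus_le_preimage e M hP l) =
        CommRingCat.ofHom (psi (q := q') e l) := by
    refine CommRingCat.hom_ext (MvPolynomial.ringHom_ext (fun a => ?_) fun k => ?_)
    · show h.appLE _ _ _ (psi e l (MvPolynomial.C a)) = psi e l (MvPolynomial.C a)
      rw [psi_C, psi_C, ← ConcreteCategory.comp_apply, Scheme.Hom.appLE_comp_appLE]
      simp only [M.over']
    · show h.appLE _ _ _ (psi e l (MvPolynomial.X k)) = psi e l (MvPolynomial.X k)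
      rw [psi, psi, MvPolynomial.eval₂Hom_X', MvPolynomial.eval₂Hom_X']
      exact appLE_coef M e hP l k.1
  rw [coordMap, coordMap, ← Scheme.Opens.toSpecΓ_SpecMap_appLE_assoc, ← Spec.map_comp, hψ]

theorem isIso_coordMap (hUa : IsAffineOpen U) (hP : KRR.IsProjBundle π E O1 q) (he : IsBasis e)
    (l : Fin (n + 1)) : IsIso (coordMap (q := q) e l) := by
  let h' : Std U l ⟶ (locus q e l).toScheme :=
    IsOpenImmersion.lift (locus q e l).ι (chart hUa e hP he l) (by
      rintro _ ⟨z, rfl⟩
      rw [Scheme.Opens.range_ι]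
      exact chart_mem hUa e hP he l z)
  have hh : h' ≫ (locus q e l).ι = chart hUa e hP he l := IsOpenImmersion.lift_fac _ _ _
  refine ⟨h', ?_, lift_comp_coordMap hUa e hP he l h' hh⟩
  rw [← cancel_mono (locus q e l).ι, Category.assoc, hh, coordMap_chart, Category.id_comp]

include M in
theorem isIso_restrict (hUa : IsAffineOpen U) (hP : KRR.IsProjBundle π E O1 q)
    (hP' : KRR.IsProjBundle π' E O1' q') (he : IsBasis e) (l : Fin (n + 1)) :
    IsIso (h ∣_ locus q e l) := by
  haveI := isIso_coordMap e hUa hP he l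
  haveI := isIso_coordMap e hUa hP' he l
  haveI : IsIso (h.resLE (locus q e l) (locus q' e l) (locus_le_preimage e M hP l) ≫
      coordMap (q := q) e l) := by
    rw [resLE_coordMap M e hP l]
    infer_instance
  have key : ∀ (V : P'.Opens) (hV : V ≤ h ⁻¹ᵁ locus q e l), V = locus q' e l →
      IsIso (h.resLE (locus q e l) V hV) := by
    rintro V hV rfl
    exact IsIso.of_isIso_comp_right _ (coordMap (q := q) e l)
  have := key _ le_rfl (preimage_locus M e hP l)
  rwa [Scheme.Hom.resLE_eq_morphismRestrict] at this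

end Local

/-- A morphism of projective bundles is an isomorphism when the loci cover. -/
theorem isIso_of_cover {h : P' ⟶ P} (M : Mor π π' q q' h) (hP : KRR.IsProjBundle π E O1 q)
    (hP' : KRR.IsProjBundle π' E O1' q') {n : ℕ}
    (hcov : ∀ x : P, ∃ (U : X.Opens) (_ : IsAffineOpen U) (e : Fin (n + 1) → Γ(E, U)) (_ : IsBasis e)
      (l : Fin (n + 1)), x ∈ locus q e l) : IsIso h := by
  choose U hUa e he l hl using hcov
  have hc : iSup (fun x => locus q (e x) (l x)) = ⊤ :=
    top_unique fun x _ => Opens.mem_iSup.2 ⟨x, hl x⟩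
  exact (IsZariskiLocalAtTarget.iff_of_iSup_eq_top (P := MorphismProperty.isomorphisms Scheme.{u})
    (fun x => locus q (e x) (l x)) hc).2 fun x => isIso_restrict M (e x) (hUa x) hP hP' (he x) (l x)

/-- A projective bundle of a module of positive rank is isomorphic to any other. -/
theorem exists_iso (hP : KRR.IsProjBundle π E O1 q) (hP' : KRR.IsProjBundle π' E O1' q') {n : ℕ}
    (hE : FlatMod.IsFinLocFreeOfRank (n + 1) E) : ∃ h : P' ⟶ P, IsIso h ∧ h ≫ π = π' := by
  obtain ⟨h, ⟨hg, i, hi⟩, -⟩ := hP.univ P' π' O1' hP'.invertible q' hP'.epi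
  let M : Mor π π' q q' h := ⟨hg, i, hi⟩
  refine ⟨h, ?_, hg⟩
  refine isIso_of_cover M hP hP' (n := n) fun x => ?_
  obtain ⟨V, hxV, ⟨i₀⟩⟩ := hE (π x)
  obtain ⟨e₀, he₀⟩ := TensorMod.Basis.exists_basis_of_iso i₀
  obtain ⟨U, hUa, hxU, hUV⟩ := exists_isAffineOpen_mem_and_subset (X := X) (x := π x) (U := V) hxV
  obtain ⟨l, hl⟩ := exists_mem_locus _ hP (he₀.res hUV) x hxU
  exact ⟨U, hUa, _, he₀.res hUV, l, hl⟩

/-- Projective bundles are proper. -/
theorem isProper (hP : KRR.IsProjBundle π E O1 q) {n : ℕ}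
    (hE : FlatMod.IsFinLocFreeOfRank (n + 1) E) : IsProper π := by
  obtain ⟨P', π', O1', q', hP', hp, -⟩ :=
    BdlExists.exists_proper E (TensorMod.LocFree.of_rank hE)
  obtain ⟨h, hh, w⟩ := exists_iso hP hP' hE
  haveI := hh
  rw [show π = inv h ≫ π' by rw [← w, IsIso.inv_hom_id_assoc]]
  haveI := hp
  infer_instance

/-- The projective bundle of a module of rank zero is empty. -/
theorem isEmpty (hP : KRR.IsProjBundle π E O1 q) (hE : FlatMod.IsFinLocFreeOfRank 0 E) :
    IsEmpty P := by
  refine ⟨fun x => ?_⟩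
  set i := P.fromSpecResidueField x
  obtain ⟨W, g, hxW, hg⟩ := isInvertible_iff.1 (Univ.invertible hP) x
  have hW : (⊤ : (Spec (P.residueField x)).Opens) ≤ i ⁻¹ᵁ W := fun z _ => by
    show i z ∈ W
    rw [show i z = x from Scheme.fromSpecResidueField_apply _ _]
    exact hxW
  have hgen := Sect.isGen_pbRes i hg hW
  let s := (Scheme.Modules.pullbackCongr (rfl : i ≫ π = i ≫ π)).inv.app E ≫
    (Scheme.Modules.pullbackComp i π).inv.app E ≫ (Scheme.Modules.pullback i).map q ≫ 𝟙 _
  haveI := hP.epi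
  haveI : PreservesColimitsOfSize.{0, 0} (Scheme.Modules.pullback i) :=
    (Scheme.Modules.pullbackPushforwardAdjunction i).leftAdjoint_preservesColimits
  have hs : Epi s := by
    haveI : Epi ((Scheme.Modules.pullback i).map q) := inferInstance
    infer_instance
  have hs0 : s = 0 := (isZero_of_rank_zero (TensorMod.LocFree.rank_pullback _ hE)).eq_of_src _ _
  have hid : 𝟙 ((Scheme.Modules.pullback i).obj O1) = 0 := by
    rw [← cancel_epi s, Category.comp_id, comp_zero, hs0]
  have h0 : pbRes i O1 hW g = 0 := congr(Scheme.Modules.Hom.app $hid ⊤ (pbRes i O1 hW g))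
  have h10 : (1 : Γ(Spec (P.residueField x), ⊤)) = 0 := (hgen ⊤ le_rfl).1 (by
    show (1 : Γ(Spec (P.residueField x), ⊤)) • rs _ _ _ = (0 : Γ(Spec (P.residueField x), ⊤)) • rs _ _ _
    rw [rs_self, h0, smul_zero, smul_zero])
  have := congrArg (Scheme.ΓSpecIso (P.residueField x)).hom h10
  rw [map_one, map_zero] at this
  exact one_ne_zero this

end Groth.Agent.Lib.Cyc.CH.BdlUniq
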