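import Groth.Agent.Lib.Cyc.CH.DetAtlas
import Groth.Agent.Lib.Cyc.CH.FiltTensor

/-!
# The determinant of a filtered module
-/

set_option autoImplicit false
set_option linter.style.haveILetI false
universe u

open CategoryTheory CategoryTheory.Limits AlgebraicGeometry Opposite TopologicalSpace
open scoped TensorProduct

noncomputable section

namespace Groth.Agent.Lib.Cyc.CH

open Groth.Agent.Lib Groth.Agent.Lib.Cyc Modules.StalkModule
open Groth.Agent.Lib.TensorMod.Dual (rs rf rs_rs)
open Groth.Agent.Lib.RefHull.SecHom (germ_rs)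

variable {X : Scheme.{u}}

/-- The tensor product of a list. -/
def detList : List X.Modules → X.Modules
  | [] => Coh.structureModule X
  | L :: l => CohB1.tensorMod L (detList l)

theorem isInvertible_detList : ∀ {l : List X.Modules}, (∀ L ∈ l, PicF.IsInvertible L) →
    PicF.IsInvertible (detList l)
  | [], _ => PicLoc.isInvertible_structureModule X
  | L :: l, h => TensorMod.Invertible.isInvertible_tensorMod (h L List.mem_cons_self)
      (isInvertible_detList fun L' h' => h L' (List.mem_cons_of_mem _ h'))

/-- A filtered module has determinant charts in the tensor product of the list. -/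
theorem Filt.nonempty_detAtlas {M : X.Modules} {l : List X.Modules} (h : Filt M l) :
    Nonempty (DetAtlas l.length M (detList l)) := by
  induction h with
  | @zero M hz =>
    have hs : ∀ y : X, Subsingleton (M.presheaf.stalk y) := fun y =>
      AddCommGrpCat.subsingleton_of_isZero ((Modules.Stalk.stalkFunctor X y).map_isZero hz)
    haveI : IsEmpty (Fin ([] : List X.Modules).length) := ⟨fun i => Fin.elim0 i⟩
    let one : Γ(Coh.structureModule X, ⊤) := (1 : Γ(X, ⊤))
    have hone : ∀ y : X, Submodule.span (X.presheaf.stalk y)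
        {(Coh.structureModule X).presheaf.germ ⊤ y trivial one} = ⊤ := fun y => by
      refine eq_top_iff.2 fun v _ => ?_
      obtain ⟨U, hU, c, rfl⟩ := TopCat.Presheaf.exists_germ_eq (Coh.structureModule X).presheaf v
      refine Submodule.mem_span_singleton.2 ⟨X.presheaf.germ U y hU c, ?_⟩
      rw [← germ_rs (le_top : U ≤ ⊤) hU one, ← Mero.germ_smul]
      congr 1
      refine (congrArg (fun t : Γ(X, U) => (show Γ(X, U) from c) * t)
        (map_one (X.presheaf.map (homOfLE (le_top : U ≤ ⊤)).op).hom)).trans ?_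
      exact mul_one (M := Γ(X, U)) c
    exact ⟨{ U := fun _ => ⊤, mem := fun _ => trivial, e := fun _ => fun i => Fin.elim0 i,
             g := fun _ => one,
             b := fun _ y _ => haveI := hs y; Module.Basis.empty _,
             hb := fun _ _ _ i => Fin.elim0 i,
             gen := fun _ y _ => bijective_smul_of_span (PicLoc.isInvertible_structureModule X) (hone y),
             trans := fun _ _ y _ _ => by
               rw [Module.Basis.det_apply, Matrix.det_isEmpty, one_smul] }⟩
  | @cons L M C l hL a b hab hex h ih =>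
    obtain ⟨A⟩ := ih
    have hT : PicF.IsInvertible (CohB1.tensorMod L (detList l)) :=
      TensorMod.Invertible.isInvertible_tensorMod hL A.isInvertible
    choose UL eL hxL heL using fun x : X => TensorMod.Gen.isInvertible_iff.1 hL x
    have hst : ∀ y : X, Function.Injective (stalkMapₗ a y) ∧
        Function.Exact (stalkMapₗ a y) (stalkMapₗ b y) ∧ Function.Surjective (stalkMapₗ b y) :=
      fun y => CurveBundle.Rank.stalk_exact hex y
    have hLgen : ∀ x y (hy : y ∈ UL x), Submodule.span (X.presheaf.stalk y)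
        {L.presheaf.germ (UL x) y hy (eL x)} = ⊤ := fun x y hy => by
      refine eq_top_iff.2 fun v _ => ?_
      obtain ⟨O, hO, m, rfl⟩ := TopCat.Presheaf.exists_germ_eq L.presheaf v
      obtain ⟨c, hc⟩ := (heL x (UL x ⊓ O) inf_le_left).2 (rs L inf_le_right m)
      refine Submodule.mem_span_singleton.2 ⟨X.presheaf.germ (UL x ⊓ O) y ⟨hy, hO⟩ c, ?_⟩
      rw [← germ_rs (inf_le_left : UL x ⊓ O ≤ UL x) ⟨hy, hO⟩ (eL x), ← Mero.germ_smul,
        ← germ_rs (inf_le_right : UL x ⊓ O ≤ O) ⟨hy, hO⟩ m]
      exact congrArg _ hc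
    -- lifts near each point
    have hlift : ∀ x : X, ∃ (V : X.Opens) (hVA : V ≤ A.U x) (m : Fin l.length → Γ(M, V)),
        x ∈ V ∧ V ≤ UL x ∧ ∀ i, b.app V (m i) = rs C hVA (A.e x i) := by
      intro x
      choose v hv using fun i => (hst x).2.2 (C.presheaf.germ (A.U x) x (A.mem x) (A.e x i))
      choose O hO m hm using fun i => TopCat.Presheaf.exists_germ_eq M.presheaf (v i)
      let S : X.Opens := A.U x ⊓ UL x ⊓ ⟨⋂ i, (O i : Set X), isOpen_iInter_of_finite fun i => (O i).2⟩
      have hxS : x ∈ S := ⟨⟨A.mem x, hxL x⟩, Set.mem_iInter.2 hO⟩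
      have hSA : S ≤ A.U x := inf_le_left.trans inf_le_left
      have hSO : ∀ i, S ≤ O i := fun i y hy => Set.mem_iInter.1 (Opens.mem_inf.1 hy).2 i
      have heq : ∀ i, C.presheaf.germ S x hxS (b.app S (rs M (hSO i) (m i))) =
          C.presheaf.germ S x hxS (rs C hSA (A.e x i)) := fun i => by
        rw [← stalkMapₗ_germ, germ_rs, germ_rs, hm, hv]
      choose W hW i₁ i₂ he using fun i => TopCat.Presheaf.germ_eq C.presheaf x hxS hxS _ _ (heq i)
      let V : X.Opens := S ⊓ ⟨⋂ i, (W i : Set X), isOpen_iInter_of_finite fun i => (W i).2⟩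
      have hVS : V ≤ S := inf_le_left
      have hVW : ∀ i, V ≤ W i := fun i y hy => Set.mem_iInter.1 (Opens.mem_inf.1 hy).2 i
      refine ⟨V, hVS.trans hSA, fun i => rs M (hVS.trans (hSO i)) (m i), ⟨hxS, Set.mem_iInter.2 hW⟩,
        hVS.trans (inf_le_left.trans inf_le_right), fun i => ?_⟩
      have e1 : rs C (i₁ i).le (b.app S (rs M (hSO i) (m i))) =
          rs C (i₂ i).le (rs C hSA (A.e x i)) := he i
      have e2 := congrArg (rs C (hVW i)) e1
      rw [rs_rs, rs_rs, rs_rs, TensorMod.HomGlue.rs_app, rs_rs] at e2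
      exact e2
    choose V hVA m hxV hVL hm using hlift
    let e : ∀ x, Fin (l.length + 1) → Γ(M, V x) := fun x =>
      Fin.cons (a.app (V x) (rs L (hVL x) (eL x))) (m x)
    have hspan : ∀ x y (hy : y ∈ V x),
        Submodule.span (X.presheaf.stalk y) (Set.range fun i => M.presheaf.germ (V x) y hy (e x i)) = ⊤ := by
      intro x y hy
      refine eq_top_iff.2 fun w _ => ?_
      obtain ⟨c, hc⟩ := (Submodule.mem_span_range_iff_exists_fun _).1
        ((A.b x y (hVA x hy)).span_eq.ge (Submodule.mem_top : stalkMapₗ b y w ∈ ⊤))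
      obtain ⟨z, hz⟩ := ((hst y).2.1 (w - ∑ i, c i • M.presheaf.germ (V x) y hy (m x i))).1 (by
        rw [map_sub, map_sum, sub_eq_zero, ← hc]
        refine Finset.sum_congr rfl fun i _ => ?_
        rw [map_smul, stalkMapₗ_germ, hm, germ_rs, A.hb])
      obtain ⟨r, rfl⟩ := Submodule.mem_span_singleton.1 ((hLgen x y (hVL x hy)).ge (Submodule.mem_top (x := z)))
      refine (Submodule.mem_span_range_iff_exists_fun _).2 ⟨Fin.cons r c, ?_⟩
      rw [Fin.sum_univ_succ]
      simp only [e, Fin.cons_zero, Fin.cons_succ]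
      rw [← stalkMapₗ_germ, germ_rs, ← map_smul, hz, sub_add_cancel]
    have hbas : ∀ x y (hy : y ∈ V x), ∃ b' : Module.Basis (Fin (l.length + 1)) (X.presheaf.stalk y)
        (M.presheaf.stalk y), ∀ i, b' i = M.presheaf.germ (V x) y hy (e x i) := fun x y hy => by
      obtain ⟨b₀⟩ := (Filt.cons hL a b hab hex h).exists_basis_stalk y
      exact exists_basis_of_span b₀ _ (hspan x y hy)
    choose bb hbb using hbas
    let g : ∀ x, Γ(CohB1.tensorMod L (detList l), V x) := fun x =>
      C1K.TStalk.sec (rs L (hVL x) (eL x)) (rs (detList l) (hVA x) (A.g x))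
    have hg : ∀ x y (hy : y ∈ V x), (CohB1.tensorMod L (detList l)).presheaf.germ (V x) y hy (g x) =
        (C1K.TStalk.tS y L (detList l)).symm (L.presheaf.germ (UL x) y (hVL x hy) (eL x) ⊗ₜ
          (detList l).presheaf.germ (A.U x) y (hVA x hy) (A.g x)) := fun x y hy => by
      rw [LinearEquiv.eq_symm_apply, C1K.TStalk.tS_germ, germ_rs, germ_rs]
    refine ⟨{ U := V, mem := hxV, e := e, g := g, b := bb, hb := hbb, gen := fun x y hy => ?_,
              trans := fun x x' y hy hy' => ?_ }⟩
    · refine bijective_smul_of_span (L := CohB1.tensorMod L (detList l)) hT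
        (t := (CohB1.tensorMod L (detList l)).presheaf.germ (V x) y hy (g x)) ?_
      rw [hg]
      refine Zero.span_tensor (hLgen x y _) (eq_top_iff.2 fun v _ => Submodule.mem_span_singleton.2 ?_)
      exact (A.gen x y (hVA x hy)).2 v
    · show (CohB1.tensorMod L (detList l)).presheaf.germ (V x') y hy' (g x') =
        (bb x y hy).det (bb x' y hy') • (CohB1.tensorMod L (detList l)).presheaf.germ (V x) y hy (g x)
      obtain ⟨α, hα⟩ := Submodule.mem_span_singleton.1
        ((hLgen x y (hVL x hy)).ge (Submodule.mem_top (x := L.presheaf.germ (UL x') y (hVL x' hy') (eL x'))))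
      have hdet : (bb x y hy).det (bb x' y hy') =
          α * (A.b x y (hVA x hy)).det (A.b x' y (hVA x' hy')) := by
        refine (det_adapted (bb x y hy) (A.b x y (hVA x hy)) (stalkMapₗ b y) ?_ (fun i => ?_)
          _ α ?_).trans ?_
        · rw [hbb]
          simp only [e, Fin.cons_zero]
          rw [← stalkMapₗ_germ, (hst y).2.1.apply_apply_eq_zero]
        · rw [hbb, stalkMapₗ_germ]
          simp only [e, Fin.cons_succ]
          rw [hm, germ_rs, A.hb]
        · rw [hbb, hbb]
          simp only [e, Fin.cons_zero]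
          rw [← stalkMapₗ_germ, ← stalkMapₗ_germ, germ_rs, germ_rs, ← map_smul, hα]
        · congr 1
          refine congrArg _ (funext fun i => ?_)
          rw [hbb, stalkMapₗ_germ]
          simp only [e, Fin.cons_succ]
          rw [hm, germ_rs, A.hb]
      rw [hg x' y hy', hg x y hy, A.trans x x' y (hVA x hy) (hVA x' hy'), hdet, ← hα,
        TensorProduct.smul_tmul_smul, map_smul]

section Roots

variable [IsLocallyNoetherian X] {δ : X → ℤ} (hδ : Cyc.IsDimFun X δ)

theorem root_detList (hX : Cyc.IsSetup X δ) : ∀ {l : List X.Modules},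
    (∀ L ∈ l, PicF.IsInvertible L) → root δ hδ (detList l) = (roots δ hδ l).sum
  | [], _ => by
    show root δ hδ (Coh.structureModule X) = (0 : Multiset (opRing δ hδ)).sum
    rw [root_structureModule hδ hX, Multiset.sum_zero]
    rfl
  | L :: l, h => by
    show root δ hδ (CohB1.tensorMod L (detList l)) = (root δ hδ L ::ₘ roots δ hδ l).sum
    rw [Multiset.sum_cons, root_tensor hδ hX (h L List.mem_cons_self)
        (isInvertible_detList fun L' h' => h L' (List.mem_cons_of_mem _ h')),
      root_detList hX fun L' h' => h L' (List.mem_cons_of_mem _ h')]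

end Roots

end Groth.Agent.Lib.Cyc.CH
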