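import Groth.Agent.Lib.Cyc.CH.Tot
import Groth.Agent.Lib.Cyc.PP.OpenImm
import Groth.Agent.Lib.Cyc.PP.SubSetup
import Groth.Agent.Lib.Cyc.PB.FrameDim
import Groth.Agent.Lib.Cyc.PB.Span

/-!
# Restriction of classes to an open subscheme
-/

set_option autoImplicit false
set_option linter.style.haveILetI false
universe u

open CategoryTheory AlgebraicGeometry

noncomputable section

namespace Groth.Agent.Lib.Cyc.CH

open Groth.Agent.Lib Groth.Agent.Lib.Cyc

variable {X U : Scheme.{u}} (j : U ⟶ X) [IsOpenImmersion j] [IsLocallyNoetherian X]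
  [IsLocallyNoetherian U] {δ : X → ℤ}

omit [IsOpenImmersion j] [IsLocallyNoetherian X] [IsLocallyNoetherian U] in
theorem shift_restrict : FP.Main.Shift j (fun u => δ (j u)) δ 0 := fun x _ => (add_zero _).symm

omit [IsLocallyNoetherian X] in
theorem pullFun_restrict (α : X → ℤ) (u : U) :
    Cyc.pullFun j (fun u => δ (j u)) δ 0 α u = α (j u) := by
  rw [FibLen.pullFun_apply, if_pos (add_zero _).symm, PB.Frame.fibLen_openImm, ENat.toNat_one,
    Nat.cast_one, mul_one]

omit [IsLocallyNoetherian X] [IsLocallyNoetherian U] in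
theorem deltaCompat_restrict : Cyc.DeltaCompat j (fun u => δ (j u)) δ := fun d => ⟨0, by
  rw [Nat.cast_zero]
  exact FieldDim.trdegAt_eq_zero_of_surjective j d (PP.OpenImm.residue_bijective j d).2, by simp⟩

/-- A cycle whose restriction is rationally zero lives on the complement, up to rational equivalence. -/
theorem exists_eq_map_add {Z : Scheme.{u}} (i : Z ⟶ X) [IsClosedImmersion i]
    (hZ : Set.range ⇑i = (Set.range ⇑j)ᶜ) (hδ : Cyc.IsDimFun X δ) {k : ℤ} {α : AlgebraicCycle X ℤ}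
    (hα : α ∈ Cyc.Zk X δ k) (β : AlgebraicCycle U ℤ) (hβ : ∀ u, β u = α (j u))
    (h : Cyc.RatEquivZero (fun u => δ (j u)) k β) :
    ∃ γ : AlgebraicCycle Z ℤ, γ ∈ Cyc.Zk Z (fun z => δ (i z)) k ∧
      Cyc.RatEquiv δ k α (AlgebraicCycle.map i (fun z => δ (i z)) δ γ) := by
  classical
  have hδU := PP.OpenImm.isDimFun j hδ
  obtain ⟨κ, ξ, f, hξ, hf, hlf, hsum⟩ := h
  choose g hg using fun n => (PP.OpenImm.residue_bijective j (ξ n)).2 (f n)
  have hg0 : ∀ n, g n ≠ 0 := fun n h0 => hf n (by rw [← hg n, h0, map_zero])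
  have hlf' := PP.OpenImm.locallyFinite j ξ hlf
  obtain ⟨R, hR⟩ := PB.Span.exists_cycle_of_family hδ (fun n => j (ξ n)) g hlf'
  have hRU : ∀ u, R (j u) = β u := fun u => by
    rw [hR, hsum]
    exact finsum_congr fun n => by rw [← hg n, PP.OpenImm.divFun_map j hδ hδU]
  have hRZ : R ∈ Cyc.Zk X δ k := fun z hz => by
    rw [hR]
    refine finsum_eq_zero_of_forall_eq_zero fun n => dif_neg fun hc => hz ?_
    have h1 := hξ n
    dsimp only at h1
    omega
  have hRrat : Cyc.RatEquivZero δ k R := ⟨κ, fun n => j (ξ n), g, hξ, hg0, hlf', hR⟩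
  refine ⟨Gys.C1.pullCycle i (α - R), fun z hz => mem_sub hα hRZ (i z) hz, ?_⟩
  rw [Cyc.RatEquiv]
  convert hRrat using 1
  refine Function.locallyFinsuppWithin.ext fun x => ?_
  rw [Function.locallyFinsuppWithin.coe_sub, Pi.sub_apply]
  by_cases hx : x ∈ Set.range ⇑i
  · obtain ⟨z, rfl⟩ := hx
    rw [Gys.Closed.map_apply_image]
    show α (i z) - (α (i z) - R (i z)) = R (i z)
    ring
  · obtain ⟨u, rfl⟩ : x ∈ Set.range ⇑j := not_not.1 fun hc => hx (hZ.symm ▸ hc)
    rw [Gys.Closed.map_apply_of_not_mem i _ hx, hRU, hβ, sub_zero]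

variable {Z : Scheme.{u}} [IsLocallyNoetherian Z] (i : Z ⟶ X) [IsClosedImmersion i]
  (hZ : Set.range ⇑i = (Set.range ⇑j)ᶜ) (hδ : Cyc.IsDimFun X δ)

include hZ in
/-- The localisation sequence. -/
theorem exists_push_of_pull_eq_zero {x : Tot X δ}
    (hx : pull (PP.OpenImm.isDimFun j hδ) hδ j (shift_restrict j) x = 0) :
    ∃ y, push (Gys.Closed.isDimFun i hδ) hδ i (PP.SubSetup.deltaCompat i) y = x := by
  classical
  have hm : ∀ m, ∃ y, push (Gys.Closed.isDimFun i hδ) hδ i (PP.SubSetup.deltaCompat i) y =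
      proj X δ m x := by
    intro m
    obtain ⟨α, hα, e⟩ := exists_rep m x
    have h1 := DFunLike.congr_fun ((pull_homog (PP.OpenImm.isDimFun j hδ) hδ j
      (shift_restrict j)).proj_comp m) x
    simp only [AddMonoidHom.comp_apply, hx, map_zero, e] at h1
    obtain ⟨β, hβ, hβ'⟩ := PullExists.exists_pullFun (δX := fun u => δ (j u)) j 0 hα
    rw [pull_cls (PP.OpenImm.isDimFun j hδ) hδ j (shift_restrict j) hα rfl hβ hβ'] at h1
    have h2 := (cls_eq_zero_iff (PP.OpenImm.isDimFun j hδ) hβ).1 h1.symm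
    rw [add_zero] at h2
    obtain ⟨γ, hγ, hr⟩ := exists_eq_map_add j i hZ hδ hα β
      (fun u => by rw [hβ', pullFun_restrict]) h2
    refine ⟨cls _ m γ hγ, ?_⟩
    rw [push_cls _ _ i (PP.SubSetup.deltaCompat i) hγ rfl (map_mem i hγ), e, cls_eq_iff hδ]
    exact Ord.ratEquiv_symm hδ hr
  choose y hy using hm
  refine ⟨∑ m ∈ DFinsupp.support x, y m, ?_⟩
  rw [map_sum]
  refine Eq.trans (Finset.sum_congr rfl fun m _ => ?_) (DirectSum.sum_support_of x)
  rw [hy]
  rfl

end Groth.Agent.Lib.Cyc.CH
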