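import Groth.Agent.Lib.Cyc.PP.P1Graph
import Groth.Agent.Lib.Cyc.InducedDimFun
import Groth.Agent.H46.GoodJac

/-!
# The induced setup on a scheme locally of finite type over a setup
-/

set_option autoImplicit false
set_option linter.style.haveILetI false
universe u

open CategoryTheory AlgebraicGeometry

namespace Groth.Agent.Lib.Cyc.CH

open Groth.Agent.Lib.Cyc

theorem isSetup_of_deltaCompat {X Y : Scheme.{u}} (f : Y ⟶ X) [LocallyOfFiniteType f] {δ : X → ℤ}
    (hX : Cyc.IsSetup X δ) {δY : Y → ℤ} (h : Cyc.DeltaCompat f δY δ) : Cyc.IsSetup Y δY := by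
  haveI := hX.1
  exact ⟨LocallyOfFiniteType.isLocallyNoetherian f,
    fun y => Groth.Agent.H46.GoodJac.isUniversallyCatenary_stalk f hX.2.1 y,
    InducedDimFun.isDimFun f hX.2.2 hX.2.1 h⟩

theorem exists_setup {X Y : Scheme.{u}} (f : Y ⟶ X) [LocallyOfFiniteType f] {δ : X → ℤ}
    (hX : Cyc.IsSetup X δ) : ∃ δY : Y → ℤ, Cyc.IsSetup Y δY ∧ Cyc.DeltaCompat f δY δ :=
  let ⟨δY, h⟩ := PP.P1Graph.exists_deltaCompat f δ
  ⟨δY, isSetup_of_deltaCompat f hX h, h⟩

end Groth.Agent.Lib.Cyc.CH
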