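import Groth.Agent.Lib.Cyc.CH.Square
import Groth.Agent.Lib.Cyc.CH.Setup
import Groth.Agent.Lib.Cyc.CH.Restrict
import Groth.Agent.S9358

/-!
# Flat covers with injective pullback of classes
-/

set_option autoImplicit false
set_option linter.style.haveILetI false
universe u

open CategoryTheory CategoryTheory.Limits AlgebraicGeometry

noncomputable section

namespace Groth.Agent.Lib.Cyc.CH

open Groth.Agent.Lib Groth.Agent.Lib.Cyc

variable {X : Scheme.{u}} {δ : X → ℤ}

theorem hasRelDim_of_shift {Y : Scheme.{u}} (f : Y ⟶ X) [LocallyOfFiniteType f] {δY : Y → ℤ}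
    (h : Cyc.DeltaCompat f δY δ) {d : ℕ} (hd : FP.Main.Shift f δY δ d) : Cyc.HasRelDim f d := by
  refine FieldDim.hasRelDim_of_forall f fun x hx => ?_
  obtain ⟨m, hm, hm'⟩ := Residue.exists_trdegAt h x
  have := hd x hx
  rw [hm, Nat.cast_inj]
  omega

/-- A flat scheme over `X` of constant relative dimension with its induced setup, along which classes
pull back injectively. -/
structure Cover (X : Scheme.{u}) (δ : X → ℤ) where
  /-- The total space. -/
  Y : Scheme.{u}
  /-- The projection. -/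
  g : Y ⟶ X
  /-- The induced dimension function. -/
  δY : Y → ℤ
  /-- The relative dimension. -/
  d : ℕ
  [flat : Flat g]
  [lft : LocallyOfFiniteType g]
  hX : Cyc.IsSetup X δ
  hY : Cyc.IsSetup Y δY
  compat : Cyc.DeltaCompat g δY δ
  hd : Cyc.HasRelDim g d

attribute [instance] Cover.flat Cover.lft

namespace Cover

variable (C : Cover X δ)

instance instNoetherian : IsLocallyNoetherian C.Y := C.hY.1

theorem shift : FP.Main.Shift C.g C.δY δ C.d := FP.Main.shift_of_hasRelDim C.g C.hd C.compat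

variable [IsLocallyNoetherian X]

/-- Pullback of classes to the cover. -/
def pl : Tot X δ →+ Tot C.Y C.δY := pull C.hY.2.2 C.hX.2.2 C.g C.shift

/-- Classes pull back injectively. -/
def Inj : Prop := ∀ x, C.pl x = 0 → x = 0

theorem pl_c1 {L : X.Modules} (hL : PicF.IsInvertible L) (x : Tot X δ) :
    C.pl (c1 δ C.hX.2.2 hL x) =
      c1 C.δY C.hY.2.2 (PicLoc.isInvertible_pullback C.g hL) (C.pl x) :=
  pull_c1 C.hY.2.2 C.hX.2.2 C.g C.shift hL x

theorem pl_cls_eq (hinj : C.Inj) {x y : Tot X δ} (h : C.pl x = C.pl y) : x = y :=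
  sub_eq_zero.1 (hinj _ (by rw [map_sub, h, sub_self]))

end Cover

/-- The identity cover. -/
@[simps Y g δY d]
def Cover.id (hX : Cyc.IsSetup X δ) : Cover X δ where
  Y := X
  g := 𝟙 X
  δY := δ
  d := 0
  hX := hX
  hY := hX
  compat := Residue.deltaCompat_id δ
  hd := hasRelDim_of_shift (𝟙 X) (Residue.deltaCompat_id δ) fun x _ => by simp

/-- Composition of covers. -/
@[simps Y g δY d]
def Cover.trans (C : Cover X δ) (C' : Cover C.Y C.δY) : Cover X δ where
  Y := C'.Y
  g := C'.g ≫ C.g
  δY := C'.δY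
  d := C'.d + C.d
  hX := C.hX
  hY := C'.hY
  compat := Residue.deltaCompat_comp C'.compat C.compat
  hd := FieldDim.hasRelDim_comp C'.g C.g C'.hd C.hd

theorem Cover.inj_trans [IsLocallyNoetherian X] (C : Cover X δ) (C' : Cover C.Y C.δY) (h : C.Inj)
    (h' : C'.Inj) : (C.trans C').Inj := fun x hx => h x (h' _ (by
  refine Eq.trans ?_ hx
  exact pull_comp C'.hY.2.2 C.hY.2.2 C'.g C'.shift C.hX.2.2 C.g C.shift (C'.g ≫ C.g) rfl
    (C.trans C').shift (Nat.cast_add _ _).symm x))

theorem Cover.inj_id [IsLocallyNoetherian X] (hX : Cyc.IsSetup X δ) : (Cover.id hX).Inj := fun x hx => by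
  refine Eq.trans ?_ hx
  refine DFunLike.congr_fun (hom_ext (A := AddMonoidHom.id _) (B := (Cover.id hX).pl) fun k α hα => ?_) x
  refine ((pull_cls (Cover.id hX).hY.2.2 (Cover.id hX).hX.2.2 (Cover.id hX).g (Cover.id hX).shift hα
    (show k = k + ((Cover.id hX).d : ℤ) by simp) hα ?_)).symm
  funext z
  haveI := hX.1
  exact (pullFun_restrict (𝟙 X) (δ := δ) ⇑α z).symm

section BaseChange

variable [IsLocallyNoetherian X] {P : Scheme.{u}} [IsLocallyNoetherian P] {π : P ⟶ X} [IsProper π]
  {O1 : P.Modules} {n : ℕ} {δP : P → ℤ}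

/-- A bundle pulled back to a cover, with the induced data. -/
theorem Cover.exists_bundle (C : Cover X δ) (B : Bdl π O1 n δP δ) (hP : Cyc.IsSetup P δP)
    {E : X.Modules} (q : (Scheme.Modules.pullback π).obj E ⟶ O1) [Epi q] :
    ∃ (δT : ↥(Limits.pullback π C.g) → ℤ) (hT : Cyc.IsSetup (Limits.pullback π C.g : Scheme.{u}) δT)
      (qT : (Scheme.Modules.pullback (pullback.snd π C.g)).obj ((Scheme.Modules.pullback C.g).obj E) ⟶
        (Scheme.Modules.pullback (pullback.fst π C.g)).obj O1),
      haveI := hT.1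
      ∃ BT : Bdl (pullback.snd π C.g) ((Scheme.Modules.pullback (pullback.fst π C.g)).obj O1) n δT C.δY,
        Epi qT ∧ ∀ (j : ℕ) (x : Tot X δ), C.pl (B.ch j x) = BT.ch j (C.pl x) := by
  obtain ⟨δT, hT, hc⟩ := exists_setup (pullback.snd π C.g) C.hY
  haveI := hT.1
  have sq : IsPullback (pullback.fst π C.g) (pullback.snd π C.g) π C.g := IsPullback.of_hasPullback π C.g
  have BT := B.baseChange sq C.hY.2.2 hT.2.2 hc
  let qT : (Scheme.Modules.pullback (pullback.snd π C.g)).obj ((Scheme.Modules.pullback C.g).obj E) ⟶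
      (Scheme.Modules.pullback (pullback.fst π C.g)).obj O1 :=
    (Scheme.Modules.pullbackComp (pullback.snd π C.g) C.g).hom.app E ≫
      (Scheme.Modules.pullbackCongr sq.w.symm).hom.app E ≫
      (Scheme.Modules.pullbackComp (pullback.fst π C.g) π).inv.app E ≫
      (Scheme.Modules.pullback (pullback.fst π C.g)).map q
  haveI : PreservesColimitsOfSize.{0, 0} (Scheme.Modules.pullback (pullback.fst π C.g)) :=
    (Scheme.Modules.pullbackPushforwardAdjunction (pullback.fst π C.g)).leftAdjoint_preservesColimits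
  haveI : Epi qT := by
    simp only [qT]
    infer_instance
  refine ⟨δT, hT, qT, BT, inferInstance, fun j x => ?_⟩
  have hf : Cyc.DeltaCompat (pullback.fst π C.g) δT δP :=
    deltaCompat_of_comm sq.w B.compat hc C.compat
  exact B.pull_ch sq BT C.shift (FP.Main.shift_of_hasRelDim _
    ((Groth.Agent.S9358.result C.g π (pullback.snd π C.g) (pullback.fst π C.g) sq.flip C.d).2.2 C.hd) hf)
    j x

end BaseChange

end Groth.Agent.Lib.Cyc.CH
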