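import Groth.Agent.Lib.Cyc.CH.Filt
import Groth.Agent.Lib.Cyc.CH.Cover
import Groth.Agent.Lib.CurveBundle.Coherent
import Groth.Agent.Lib.CurveBundle.Rank

/-!
# The splitting principle

No projective bundle of a kernel is needed: on `P ×_X Y` the new quotient is independent of the old
ones on an open set whose complement cannot carry a class pulled back from `Y`.
-/

set_option autoImplicit false
set_option linter.style.haveILetI false
universe u

open CategoryTheory CategoryTheory.Limits AlgebraicGeometry TopologicalSpace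
open scoped TensorProduct

noncomputable section

namespace Groth.Agent.Lib.Cyc.CH

open Groth.Agent.Lib Groth.Agent.Lib.Cyc Modules.StalkModule

/-- A stalkwise surjection stays one after pullback. -/
theorem epi_pullback_of_surjective {X Y : Scheme.{u}} (f : X ⟶ Y) {A M : Y.Modules} (σ : A ⟶ M)
    (h : ∀ x : X, Function.Surjective (stalkMapₗ σ (f x))) :
    Epi ((Scheme.Modules.pullback f).map σ) := by
  rw [epi_iff_stalkMapₗ_surjective]
  intro x w
  letI : Algebra (Y.presheaf.stalk (f x)) (X.presheaf.stalk x) := (f.stalkMap x).hom.toAlgebra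
  let eA : (X.presheaf.stalk x ⊗[Y.presheaf.stalk (f x)] A.presheaf.stalk (f x)) ≃ₗ[X.presheaf.stalk x]
      ((Scheme.Modules.pullback f).obj A).presheaf.stalk x :=
    (asIso ((DerivedOX.PullbackStalk.comparison f x).app A)).toLinearEquiv
  let eM : (X.presheaf.stalk x ⊗[Y.presheaf.stalk (f x)] M.presheaf.stalk (f x)) ≃ₗ[X.presheaf.stalk x]
      ((Scheme.Modules.pullback f).obj M).presheaf.stalk x :=
    (asIso ((DerivedOX.PullbackStalk.comparison f x).app M)).toLinearEquiv
  obtain ⟨t, rfl⟩ := eM.surjective w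
  induction t using TensorProduct.induction_on with
  | zero => exact ⟨0, by simp⟩
  | add p q hp hq =>
    obtain ⟨a, ha⟩ := hp
    obtain ⟨b, hb⟩ := hq
    exact ⟨a + b, by simp only [map_add, ha, hb]⟩
  | tmul c v =>
    obtain ⟨v', rfl⟩ := h x v
    exact ⟨eA (c ⊗ₜ v'),
      (ConcreteCategory.congr_hom ((DerivedOX.PullbackStalk.comparison f x).naturality σ) (c ⊗ₜ v')).symm⟩

/-- A map to an invertible module is onto off its zero scheme. -/
theorem surjective_of_notMem {X : Scheme.{u}} {A M : X.Modules} [A.IsQuasicoherent]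
    [M.IsQuasicoherent] (σ : A ⟶ M) (hM : PicF.IsInvertible M) (hF : FlatMod.IsFinLocFree M) {x : X}
    (hx : x ∉ Set.range ⇑(Modules.ZeroLocus.idealSheaf σ hF).subschemeι) :
    Function.Surjective (stalkMapₗ σ x) := by
  obtain ⟨U, hU, hz, -⟩ := exists_isAffineOpen_mem_and_subset (U := ⊤) (x := x) trivial
  rw [(Modules.ZeroLocus.idealSheaf σ hF).range_subschemeι, SetLike.mem_coe,
    Scheme.IdealSheafData.mem_support_iff_of_mem (U := ⟨U, hU⟩) hz, Scheme.mem_zeroLocus_iff] at hx
  push Not at hx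
  obtain ⟨f, hf, hfx⟩ := hx
  rw [X.mem_basicOpen f x hz] at hfx
  obtain ⟨u, hu, -⟩ := C1Indep.exists_free_gen hM x
  suffices ∃ v c, IsUnit c ∧ stalkMapₗ σ x v = c • u by
    obtain ⟨v, c, hc, hv⟩ := this
    intro w
    obtain ⟨a, ha⟩ := Submodule.mem_span_singleton.1 (show w ∈ Submodule.span _ {u} by rw [hu]; trivial)
    exact ⟨(a * ((hc.unit⁻¹ : (X.presheaf.stalk x)ˣ) : X.presheaf.stalk x)) • v, by
      rw [map_smul, hv, smul_smul, mul_assoc, hc.val_inv_mul, mul_one, ha]⟩
  by_contra hne
  push Not at hne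
  have hle : Ideal.span (Modules.ZeroLocus.vals σ U) ≤
      (IsLocalRing.maximalIdeal _).comap (X.presheaf.germ U x hz).hom := by
    rw [Ideal.span_le]
    rintro _ ⟨φ, e, rfl⟩
    obtain ⟨ψ, hψ⟩ := Modules.ZeroLocus.exists_dual_germ hU hz φ
    obtain ⟨c, hc⟩ := Submodule.mem_span_singleton.1
      (show stalkMapₗ σ x (A.presheaf.germ U x hz e) ∈ Submodule.span _ {u} by rw [hu]; trivial)
    show X.presheaf.germ U x hz (φ (σ.app U e)) ∈ IsLocalRing.maximalIdeal _
    rw [← hψ, ← stalkMapₗ_germ, ← hc, map_smul, smul_eq_mul]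
    exact Ideal.mul_mem_right _ _ ((IsLocalRing.mem_maximalIdeal c).2 fun hcu => hne _ c hcu hc.symm)
  exact (IsLocalRing.mem_maximalIdeal _).1 (hle hf) hfx

/-- Stalks of a filtered module are free. -/
theorem Filt.exists_basis_stalk {X : Scheme.{u}} {M : X.Modules} {l : List X.Modules} (h : Filt M l)
    (x : X) : Nonempty (Module.Basis (Fin l.length) (X.presheaf.stalk x) (M.presheaf.stalk x)) := by
  induction h with
  | @zero M hz =>
    haveI : Subsingleton (M.presheaf.stalk x) :=
      AddCommGrpCat.subsingleton_of_isZero ((Modules.Stalk.stalkFunctor X x).map_isZero hz)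
    haveI : IsEmpty (Fin ([] : List X.Modules).length) := ⟨fun i => Fin.elim0 i⟩
    exact ⟨Module.Basis.empty _⟩
  | @cons L M C l hL a b hab hex h ih =>
    obtain ⟨c⟩ := ih
    obtain ⟨t, ht, hfree⟩ := C1Indep.exists_free_gen hL x
    obtain ⟨hinj, hexact, hsurj⟩ := CurveBundle.Rank.stalk_exact hex x
    dsimp only at hinj hexact hsurj
    choose y hy using fun i => hsurj (c i)
    refine ⟨(Module.Basis.mk (R := X.presheaf.stalk x) (v := (Fin.cons (stalkMapₗ a x t) y :
      Fin (l.length + 1) → M.presheaf.stalk x)) ?_ ?_ :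
        Module.Basis (Fin (l.length + 1)) (X.presheaf.stalk x) (M.presheaf.stalk x))⟩
    · rw [Fintype.linearIndependent_iff]
      intro g hg
      rw [Fin.sum_univ_succ] at hg
      simp only [Fin.cons_zero, Fin.cons_succ] at hg
      have h2 := congrArg (stalkMapₗ b x) hg
      simp only [map_add, map_sum, map_smul, map_zero, hy, hexact.apply_apply_eq_zero, smul_zero,
        zero_add] at h2
      have h3 := Fintype.linearIndependent_iff.1 c.linearIndependent (fun i => g i.succ) h2
      intro i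
      refine Fin.cases ?_ h3 i
      simp only [h3, zero_smul, Finset.sum_const_zero, add_zero] at hg
      rw [← map_smul] at hg
      exact hfree _ (hinj (hg.trans (map_zero _).symm))
    · intro w _
      obtain ⟨g, hg⟩ := (Submodule.mem_span_range_iff_exists_fun _).1
        (c.span_eq.ge (Submodule.mem_top : stalkMapₗ b x w ∈ ⊤))
      obtain ⟨z, hz⟩ := (hexact (w - ∑ i, g i • y i)).1 (by
        simp only [map_sub, map_sum, map_smul, hy, hg, sub_self])
      obtain ⟨r, rfl⟩ := Submodule.mem_span_singleton.1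
        (show z ∈ Submodule.span (X.presheaf.stalk x) {t} by rw [ht]; trivial)
      refine (Submodule.mem_span_range_iff_exists_fun _).2 ⟨Fin.cons r g, ?_⟩
      rw [Fin.sum_univ_succ]
      simp only [Fin.cons_zero, Fin.cons_succ]
      rw [← map_smul, hz, sub_add_cancel]

/-- If the filtered quotient has full rank the kernel vanishes. -/
theorem isZero_kernel_of_rank {X : Scheme.{u}} {K E F : X.Modules} {l : List X.Modules} {r : ℕ}
    (hE : FlatMod.IsFinLocFreeOfRank r E) (h : Filt F l) (hl : l.length = r) (ι : K ⟶ E) (p : E ⟶ F)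
    (hip : ι ≫ p = 0) (hex : (ShortComplex.mk ι p hip).ShortExact) : IsZero K := by
  subst hl
  refine (IsZero.iff_id_eq_zero _).2 (hom_ext_stalkMapₗ fun x => LinearMap.ext fun v => ?_)
  obtain ⟨bE⟩ := CurveBundle.Coherent.exists_basis_stalk hE x
  obtain ⟨bF⟩ := h.exists_basis_stalk x
  obtain ⟨hinj, hexact, hsurj⟩ := CurveBundle.Rank.stalk_exact hex x
  dsimp only at hinj hexact hsurj
  let G := (bE.equiv bF (Equiv.refl _)).symm.toLinearMap ∘ₗ stalkMapₗ p x
  haveI : Module.Finite (X.presheaf.stalk x) (E.presheaf.stalk x) := Module.Finite.of_basis bE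
  have hG : Function.Injective G := OrzechProperty.injective_of_surjective_endomorphism G
    ((bE.equiv bF (Equiv.refl _)).symm.surjective.comp hsurj)
  have hv : stalkMapₗ ι x v = 0 := hG (by
    rw [map_zero]
    show (bE.equiv bF (Equiv.refl _)).symm (stalkMapₗ p x (stalkMapₗ ι x v)) = 0
    rw [hexact.apply_apply_eq_zero, map_zero])
  rw [stalkMapₗ_id, stalkMapₗ_zero]
  exact hinj (hv.trans (map_zero _).symm)

/-- Enlarging a filtered quotient by an invertible quotient of the kernel. -/
theorem Filt.cokernel_kernel {X : Scheme.{u}} {K E F Q : X.Modules} {l : List X.Modules} (h : Filt F l)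
    (f : K ⟶ E) (g : E ⟶ F) (hfg : f ≫ g = 0) (hex : (ShortComplex.mk f g hfg).ShortExact)
    (hQ : PicF.IsInvertible Q) (τ : K ⟶ Q) [Epi τ] :
    Filt (cokernel (kernel.ι τ ≫ f)) (Q :: l) := by
  haveI : Mono f := hex.mono_f
  haveI : Epi g := hex.epi_g
  let S := kernelCokernelCompSequence.snakeInput (kernel.ι τ) f
  let f' : cokernel (kernel.ι τ) ⟶ cokernel (kernel.ι τ ≫ f) :=
    cokernel.map (kernel.ι τ) (kernel.ι τ ≫ f) (𝟙 _) f (by simp)
  let g' : cokernel (kernel.ι τ ≫ f) ⟶ cokernel f :=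
    cokernel.map (kernel.ι τ ≫ f) f (kernel.ι τ) (𝟙 _) (by simp)
  have hz' : f' ≫ g' = 0 := S.L₃.zero
  haveI : Mono f' := S.L₂'_exact.mono_g ((isZero_kernel_of_mono f).eq_of_src _ _)
  haveI : Epi g' := epi_of_epi_fac
    (show cokernel.π (kernel.ι τ ≫ f) ≫ g' = cokernel.π f by simp [g'])
  let eQ : cokernel (kernel.ι τ) ≅ Q :=
    (cokernelIsCokernel (kernel.ι τ)).coconePointUniqueUpToIso
      (Abelian.epiIsCokernelOfKernel (KernelFork.ofι (kernel.ι τ) (kernel.condition τ))
        (kernelIsKernel τ))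
  let eC : cokernel f ≅ F := (cokernelIsCokernel f).coconePointUniqueUpToIso hex.gIsCokernel
  refine Filt.cons hQ (eQ.inv ≫ f') (g' ≫ eC.hom) ?_ ?_ h
  · simp only [Category.assoc, ← Category.assoc f', hz', zero_comp, comp_zero]
  · exact ShortComplex.shortExact_of_iso (S₁ := ShortComplex.mk f' g' hz')
      (ShortComplex.isoMk eQ (Iso.refl _) eC (by simp) (by simp))
      (ShortComplex.ShortExact.mk' S.L₃_exact inferInstance inferInstance)

section Main

variable {X P : Scheme.{u}} [IsLocallyNoetherian X] [IsLocallyNoetherian P] {π : P ⟶ X} [IsProper π]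
  {O1 : P.Modules} {n : ℕ} {δP : P → ℤ} {δ : X → ℤ}

/-- A cover on which `E` has a filtered quotient with `m` steps. -/
def Stage (δ : X → ℤ) (E : X.Modules) (m : ℕ) : Prop :=
  ∃ (C : Cover X δ) (K F : C.Y.Modules) (ι : K ⟶ (Scheme.Modules.pullback C.g).obj E)
    (p : (Scheme.Modules.pullback C.g).obj E ⟶ F) (hip : ι ≫ p = 0) (l : List C.Y.Modules),
    C.Inj ∧ Coh.IsCoh K ∧ (ShortComplex.mk ι p hip).ShortExact ∧ Filt F l ∧ l.length = m

theorem stage_zero (hX : Cyc.IsSetup X δ) {E : X.Modules} (hE : FlatMod.IsFinLocFree E) :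
    Stage δ E 0 := by
  let E' : X.Modules := (Scheme.Modules.pullback (𝟙 X)).obj E
  haveI : Mono (𝟙 E') := ⟨fun u v h => by simpa only [Category.comp_id] using h⟩
  haveI : Epi (𝟙 E') := ⟨fun u v h => by simpa only [Category.id_comp] using h⟩
  have h0 : IsZero (cokernel (𝟙 E')) := isZero_cokernel_of_epi (𝟙 E')
  have h1 := Dev.Basic.shortExact_of_mono (𝟙 E')
  exact ⟨Cover.id hX, E', cokernel (𝟙 E'), 𝟙 E', cokernel.π (𝟙 E'), cokernel.condition _, [],
    Cover.inj_id hX, FP.Stalk.isCoh_pullback (𝟙 X) (CurveBundle.Coherent.isCoh hE),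
    h1, .zero h0, rfl⟩

theorem stage_succ (B : Bdl π O1 n δP δ) (hP : Cyc.IsSetup P δP) {E : X.Modules}
    (q : (Scheme.Modules.pullback π).obj E ⟶ O1) [Epi q] {m : ℕ} (hm : m ≤ n) (h : Stage δ E m) :
    Stage δ E (m + 1) := by
  classical
  obtain ⟨C, K, F, ι, p, hip, l, hinj, hK, hex, hl, hlen⟩ := h
  obtain ⟨δT, hT, qT, BT, hqT, -⟩ := C.exists_bundle B hP q
  haveI := hT.1
  haveI := hqT
  let T := pullback π C.g
  let π' : T ⟶ C.Y := pullback.snd π C.g
  let Q : T.Modules := (Scheme.Modules.pullback (pullback.fst π C.g)).obj O1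
  have hQ : PicF.IsInvertible Q := BT.inv
  haveI : Flat π' := BT.flat
  haveI := TensorMod.QCohInv.isQCoh_of_isInvertible hQ
  have hKT := FP.Stalk.isCoh_pullback π' hK
  haveI := hKT.1
  let σ : (Scheme.Modules.pullback π').obj K ⟶ Q := (Scheme.Modules.pullback π').map ι ≫ qT
  have hQF : FlatMod.IsFinLocFree Q := TensorMod.LocFree.of_rank (TensorMod.LocFree.of_isInvertible hQ)
  let I := Modules.ZeroLocus.idealSheaf σ hQF
  let i : I.subscheme ⟶ T := I.subschemeι
  let U : T.Opens := ⟨(Set.range ⇑i)ᶜ, i.isClosedEmbedding.isClosed_range.isOpen_compl⟩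
  let j : (U : Scheme.{u}) ⟶ T := U.ι
  have hj : Set.range ⇑i = (Set.range ⇑j)ᶜ := by
    rw [Scheme.Opens.range_ι]
    exact (compl_compl _).symm
  have hZ := PP.SubSetup.isSetup i hT
  haveI := hZ.1
  have hjc := deltaCompat_restrict j (δ := δT)
  have hU := isSetup_of_deltaCompat j hT hjc
  haveI := hU.1
  -- the cover
  let g1 : (U : Scheme.{u}) ⟶ C.Y := j ≫ π'
  have hsh : FP.Main.Shift g1 (fun u => δT (j u)) C.δY (0 + (n : ℤ)) :=
    FibLen.shift_comp j π' _ δT C.δY 0 n (shift_restrict j) BT.shift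
  have hg1c : Cyc.DeltaCompat g1 (fun u => δT (j u)) C.δY := Residue.deltaCompat_comp hjc BT.compat
  let C1 : Cover C.Y C.δY :=
    { Y := U
      g := g1
      δY := fun u => δT (j u)
      d := n
      hX := C.hY
      hY := hU
      compat := hg1c
      hd := hasRelDim_of_shift g1 hg1c (fun x hx => by rw [hsh x hx, zero_add]) }
  -- the quotient on the zero scheme
  haveI : Epi p := hex.epi_g
  haveI : PreservesColimitsOfSize.{0, 0} (Scheme.Modules.pullback π') :=
    (Scheme.Modules.pullbackPushforwardAdjunction π').leftAdjoint_preservesColimits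
  haveI : (Scheme.Modules.pullback π').PreservesZeroMorphisms :=
    Functor.preservesZeroMorphisms_of_preserves_initial_object
  haveI : PreservesColimitsOfSize.{0, 0} (Scheme.Modules.pullback i) :=
    (Scheme.Modules.pullbackPushforwardAdjunction i).leftAdjoint_preservesColimits
  haveI : (Scheme.Modules.pullback i).PreservesZeroMorphisms :=
    Functor.preservesZeroMorphisms_of_preserves_initial_object
  have hσ0 : (Scheme.Modules.pullback i).map σ = 0 :=
    (Modules.ZeroLocus.factors_iff σ hQF i).1 ⟨𝟙 _, Category.id_comp _⟩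
  haveI : Epi (ShortComplex.mk ι p hip).g := hex.epi_g
  have hc1' := CokernelCofork.mapIsColimit _
    (CokernelCofork.mapIsColimit _ hex.gIsCokernel (Scheme.Modules.pullback π')) (Scheme.Modules.pullback i)
  obtain ⟨φ₀, hφ₀⟩ := CokernelCofork.IsColimit.desc' hc1' ((Scheme.Modules.pullback i).map qT)
    ((Functor.map_comp _ _ _).symm.trans hσ0)
  have hφ₀' : (Scheme.Modules.pullback i).map ((Scheme.Modules.pullback π').map p) ≫ φ₀ =
      (Scheme.Modules.pullback i).map qT := hφ₀
  let φ₁ : (Scheme.Modules.pullback i).obj ((Scheme.Modules.pullback π').obj F) ⟶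
      (Scheme.Modules.pullback i).obj Q := φ₀
  haveI : Epi φ₁ := epi_of_epi_fac (show (Scheme.Modules.pullback i).map
    ((Scheme.Modules.pullback π').map p) ≫ φ₁ = (Scheme.Modules.pullback i).map qT from hφ₀')
  let φ : (Scheme.Modules.pullback (i ≫ π')).obj F ⟶ (Scheme.Modules.pullback i).obj Q :=
    (Scheme.Modules.pullbackComp i π').inv.app F ≫ φ₁
  haveI : Epi φ := epi_comp _ _
  -- pullback to the open part is injective
  have hinj1 : C1.Inj := by
    intro x hx
    have h1 : pull hU.2.2 hT.2.2 j (shift_restrict j) (BT.pb x) = 0 := by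
      refine Eq.trans ?_ hx
      exact pull_comp hU.2.2 hT.2.2 j (shift_restrict j) C.hY.2.2 π' BT.shift g1 rfl C1.shift
        (zero_add _) x
    obtain ⟨y, hy⟩ := exists_push_of_pull_eq_zero j i hj hT.2.2 h1
    have h2 := congrArg (tailL δT BT.dimP Q (l.map (Scheme.Modules.pullback π').obj)) hy
    rw [← push_tailL i hT.2.2 hZ.2.2 (PP.SubSetup.deltaCompat i) π' hQ l hl.inv,
      hl.tailL_eq_zero hZ (i ≫ π') (PicLoc.isInvertible_pullback i hQ) φ, map_zero] at h2
    have h3 := (tailL_pb BT l hl.inv x).symm.trans h2.symm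
    rw [hlen] at h3
    let a : Fin (n + 1) → Tot C.Y C.δY := fun k =>
      if (k : ℕ) ≤ m then ((-1 : ℤ) ^ (m - (k : ℕ))) • esymL C.δY BT.dimX l (m - (k : ℕ)) x else 0
    have h0 : ∑ k : Fin (n + 1), BT.term (k : ℕ) (a k) = 0 := by
      refine Eq.trans ?_ h3
      rw [← Finset.sum_range_reflect _ (m + 1), Fin.sum_univ_eq_sum_range
        (fun k => BT.term k (if k ≤ m then ((-1 : ℤ) ^ (m - k)) • esymL C.δY BT.dimX l (m - k) x else 0))]
      refine (Finset.sum_subset (Finset.range_mono (Nat.succ_le_succ hm))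
        (fun k _ hk => ?_)).symm.trans (Finset.sum_congr rfl fun k hk => ?_)
      · rw [if_neg (fun hk' => hk (Finset.mem_range.2 (Nat.lt_succ_of_le hk'))), map_zero]
      · have hk' := Nat.le_of_lt_succ (Finset.mem_range.1 hk)
        rw [if_pos hk', map_zsmul, show m + 1 - 1 - k = m - k by omega, show m - (m - k) = k by omega]
    have h4 := BT.inj h0 ⟨m, Nat.lt_succ_of_le hm⟩
    simpa [a, esymL_zero] using h4
  -- the new stage
  have hτ : Epi ((Scheme.Modules.pullback j).map σ) := epi_pullback_of_surjective j σ fun u => by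
    refine surjective_of_notMem σ hQ hQF ?_
    intro hc
    exact u.2 hc
  let τ : (Scheme.Modules.pullback g1).obj K ⟶ (Scheme.Modules.pullback j).obj Q :=
    (Scheme.Modules.pullbackComp j π').inv.app K ≫ (Scheme.Modules.pullback j).map σ
  haveI : Epi τ := epi_comp _ _
  haveI : Flat g1 := inferInstance
  let eE : (Scheme.Modules.pullback g1).obj ((Scheme.Modules.pullback C.g).obj E) ≅
      (Scheme.Modules.pullback (g1 ≫ C.g)).obj E := (Scheme.Modules.pullbackComp g1 C.g).app E
  have hS := C1K.Pull.shortExact_pullback g1 hex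
  have hQ' := PicLoc.isInvertible_pullback j hQ
  haveI := TensorMod.QCohInv.isQCoh_of_isInvertible hQ'
  have hzero : (Scheme.Modules.pullback g1).map ι ≫ (Scheme.Modules.pullback g1).map p = 0 :=
    (ShortComplex.map (ShortComplex.mk ι p hip) (Scheme.Modules.pullback g1)).zero
  have hF' := (hl.pullback g1).cokernel_kernel ((Scheme.Modules.pullback g1).map ι ≫ eE.hom)
    (eE.inv ≫ (Scheme.Modules.pullback g1).map p)
    (by rw [Category.assoc, Iso.hom_inv_id_assoc, hzero])
    (ShortComplex.shortExact_of_iso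
      (S₁ := ShortComplex.mk ((Scheme.Modules.pullback g1).map ι) ((Scheme.Modules.pullback g1).map p) hzero)
      (ShortComplex.isoMk (Iso.refl _) eE (Iso.refl _) (by simp) (by simp)) hS) hQ' τ
  haveI : Mono ((Scheme.Modules.pullback g1).map ι) := hS.mono_f
  haveI : Mono ((Scheme.Modules.pullback g1).map ι ≫ eE.hom) := mono_comp _ _
  haveI : Mono (kernel.ι τ ≫ (Scheme.Modules.pullback g1).map ι ≫ eE.hom) := mono_comp _ _
  have hsm := Dev.Basic.shortExact_of_mono (kernel.ι τ ≫ (Scheme.Modules.pullback g1).map ι ≫ eE.hom)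
  have hKc := CohBasics.Closure.isCoh_kernel τ (FP.Stalk.isCoh_pullback g1 hK) inferInstance
  refine ⟨C.trans C1, kernel τ, _, kernel.ι τ ≫ (Scheme.Modules.pullback g1).map ι ≫ eE.hom,
    _, _, (Scheme.Modules.pullback j).obj Q :: l.map (Scheme.Modules.pullback g1).obj,
    C.inj_trans C1 hinj hinj1, hKc, hsm, hF', ?_⟩
  simp [hlen]

/-- The splitting principle. -/
theorem exists_split (B : Bdl π O1 n δP δ) (hX : Cyc.IsSetup X δ) (hP : Cyc.IsSetup P δP)
    {E : X.Modules} (hE : FlatMod.IsFinLocFreeOfRank (n + 1) E)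
    (q : (Scheme.Modules.pullback π).obj E ⟶ O1) [Epi q] :
    ∃ (C : Cover X δ) (l : List C.Y.Modules), C.Inj ∧ Filt ((Scheme.Modules.pullback C.g).obj E) l ∧
      l.length = n + 1 := by
  have h : ∀ m, m ≤ n + 1 → Stage δ E m := by
    intro m
    induction m with
    | zero => exact fun _ => stage_zero hX (TensorMod.LocFree.of_rank hE)
    | succ m ih => exact fun hm => stage_succ B hP q (by omega) (ih (by omega))
  obtain ⟨C, K, F, ι, p, hip, l, hinj, -, hex, hl, hlen⟩ := h (n + 1) le_rfl
  haveI : Epi p := hex.epi_g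
  haveI : Mono p := hex.exact.mono_g ((isZero_kernel_of_rank
    (TensorMod.LocFree.rank_pullback C.g hE) hl hlen ι p hip hex).eq_of_src _ _)
  haveI := isIso_of_mono_of_epi p
  exact ⟨C, l, hinj, hl.of_iso (asIso p).symm, hlen⟩

/-- On a cover splitting `E` the Chern operators become elementary symmetric operators. -/
theorem Cover.pl_ch (C : Cover X δ) (B : Bdl π O1 n δP δ) (hP : Cyc.IsSetup P δP) {E : X.Modules}
    (q : (Scheme.Modules.pullback π).obj E ⟶ O1) [Epi q] {l : List C.Y.Modules}
    (h : Filt ((Scheme.Modules.pullback C.g).obj E) l) (hl : l.length = n + 1) (j : ℕ) (x : Tot X δ) :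
    C.pl (B.ch j x) = esymL C.δY C.hY.2.2 l j (C.pl x) := by
  obtain ⟨δT, hT, qT, BT, hqT, hch⟩ := C.exists_bundle B hP q
  haveI := hT.1
  haveI := hqT
  rw [hch]
  exact BT.ch_eq_esymL qT h hl hT j _

end Main

end Groth.Agent.Lib.Cyc.CH
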