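import Groth.Agent.Lib.SymAlg.PE.Main
import Groth.Agent.S5732
import Groth.Agent.Lib.HProj.Proper
import Groth.Agent.Lib.HProj.Local
import Groth.Agent.Lib.TensorMod.QCohInv
import Groth.Agent.Lib.Modules.AffineSections
import Groth.Prelude.Def_KRR

/-!
# Projective bundles exist
-/

set_option autoImplicit false
set_option linter.style.haveILetI false
universe u

open CategoryTheory CategoryTheory.Limits AlgebraicGeometry Opposite

noncomputable section

namespace Groth.Agent.Lib.Cyc.CH.BdlExists

open Groth.Agent.Lib Groth.Agent.Lib.SymAlg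

variable {X P T : Scheme.{u}}

/-- Transposing along a composite. -/
theorem homEquiv_comp (r : T ⟶ P) (p : P ⟶ X) {g : T ⟶ X} (h : r ≫ p = g) {E : X.Modules}
    {O : P.Modules} {L : T.Modules} (a : (Scheme.Modules.pullback p).obj E ⟶ O)
    (τ : (Scheme.Modules.pullback r).obj O ⟶ L) :
    (Scheme.Modules.pullbackPushforwardAdjunction g).homEquiv E L
        ((Scheme.Modules.pullbackCongr h).inv.app E ≫ (Scheme.Modules.pullbackComp r p).inv.app E ≫
          (Scheme.Modules.pullback r).map a ≫ τ) =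
      (Scheme.Modules.pullbackPushforwardAdjunction p).homEquiv E O a ≫
        (Scheme.Modules.pushforward p).map
          ((Scheme.Modules.pullbackPushforwardAdjunction r).unit.app O ≫
            (Scheme.Modules.pushforward r).map τ) ≫
        (Scheme.Modules.pushforwardComp r p).hom.app L ≫ (Scheme.Modules.pushforwardCongr h).hom.app L := by
  subst h
  have e1 : (Scheme.Modules.pushforwardCongr (rfl : r ≫ p = r ≫ p)).hom.app L = 𝟙 _ := by
    refine Scheme.Modules.hom_ext _ _ fun U => ?_
    rw [Scheme.Modules.pushforwardCongr_hom_app_app]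
    simp
  have e2 : (Scheme.Modules.pullbackCongr (rfl : r ≫ p = r ≫ p)).inv.app E = 𝟙 _ := by
    simp [Scheme.Modules.pullbackCongr]
  rw [e1, e2, Category.id_comp, Category.comp_id]
  have key := unit_conjugateEquiv
    ((Scheme.Modules.pullbackPushforwardAdjunction p).comp (Scheme.Modules.pullbackPushforwardAdjunction r))
    (Scheme.Modules.pullbackPushforwardAdjunction (r ≫ p)) (Scheme.Modules.pullbackComp r p).inv E
  rw [Scheme.Modules.conjugateEquiv_pullbackComp_inv, Adjunction.comp_unit_app] at key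
  have n1 := (Scheme.Modules.pushforwardComp r p).hom.naturality
    ((Scheme.Modules.pullback r).map a ≫ τ)
  have n2 := (Scheme.Modules.pullbackPushforwardAdjunction r).unit.naturality a
  rw [Adjunction.homEquiv_unit, Adjunction.homEquiv_unit, Functor.map_comp, ← Category.assoc, ← key]
  dsimp only [Functor.comp_obj, Functor.comp_map, Functor.id_obj, Functor.id_map] at n1 n2 ⊢
  simp only [Category.assoc]
  rw [← n1]
  simp only [← Category.assoc]
  congr 1
  simp only [Category.assoc, ← Functor.map_comp]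
  congr 2
  rw [Functor.map_comp, ← Category.assoc, ← n2, Category.assoc]

theorem isFTDeg_one {E : X.Modules} (hE : Coh.IsQCoh E) {𝒮 : RelProj.QCGrAlg X}
    {j : E ⟶ 𝒮.toModule} (hj : RelProj.IsGrSymAlg E 𝒮 j) (hF : FlatMod.IsFinLocFree E) :
    𝒮.IsFTDeg 1 := fun U hU => by
  classical
  haveI := (Modules.AffineSections.finite_projective_sections hF hU).1
  obtain ⟨m, g, hg⟩ := Module.Finite.exists_fin (R := Γ(X, U)) (M := Γ(E, U))
  let b : Fin m → 𝒮.presheaf.obj (op U) := fun l => j.app U (g l)
  refine ⟨Finset.univ.image b, fun t ht => ?_, fun x hx => ?_⟩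
  · obtain ⟨l, -, rfl⟩ := Finset.mem_image.1 (Finset.mem_coe.1 ht)
    exact hj.2 U hU (g l)
  obtain ⟨e, rfl⟩ := Gen.deg_one hj hE hU hx
  have he : e ∈ Submodule.span Γ(X, U) (Set.range g) := hg ▸ Submodule.mem_top
  clear hx
  induction he using Submodule.span_induction with
  | mem v hv =>
    obtain ⟨l, rfl⟩ := hv
    refine ⟨fun t => if t = b l then 1 else 0, ?_⟩
    rw [Finset.sum_eq_single (b l) (fun t _ ht => by simp only; rw [if_neg ht, map_zero, zero_mul])
      fun h => absurd (Finset.mem_image_of_mem b (Finset.mem_univ l)) h]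
    simp only [if_true, map_one, one_mul]
    rfl
  | zero =>
    refine ⟨0, (map_zero (j.app U).hom).trans ?_⟩
    simp only [Pi.zero_apply, map_zero, zero_mul, Finset.sum_const_zero]
    rfl
  | add v w _ _ hv hw =>
    obtain ⟨c, hc⟩ := hv
    obtain ⟨c', hc'⟩ := hw
    refine ⟨c + c', ?_⟩
    simp only [Pi.add_apply, map_add, add_mul, Finset.sum_add_distrib]
    rw [← hc, ← hc']
    rfl
  | smul a v _ hv =>
    obtain ⟨c, hc⟩ := hv
    refine ⟨fun t => a * c t, ?_⟩
    simp only [map_mul, mul_assoc, ← Finset.mul_sum]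
    rw [← hc]
    exact Scheme.Modules.Hom.app_smul j a v

variable (E : X.Modules)

/-- Every quasi-coherent module has a projective bundle. -/
theorem exists_isProjBundle (hE : Coh.IsQCoh E) :
    ∃ (P : Scheme.{u}) (p : P ⟶ X) (O1 : P.Modules) (q : (Scheme.Modules.pullback p).obj E ⟶ O1),
      KRR.IsProjBundle p E O1 q ∧ (FlatMod.IsFinLocFree E → RelProj.IsProjective p) := by
  have : E.IsQuasicoherent := hE
  have hj := Exists.isGrSymAlg E
  let B : PE.Tw X := PE.Tw.ofAlg (Exists.grAlg E) (Gen.isGenDegOne hj hE)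
  let G : B.Gens := PE.Tw.Gens.ofSym B hE hj
  let p := B.p
  let q : (Scheme.Modules.pullback p).obj E ⟶ B.O1 :=
    ((Scheme.Modules.pullbackPushforwardAdjunction p).homEquiv E B.O1).symm G.canon
  have hq : (Scheme.Modules.pullbackPushforwardAdjunction p).homEquiv E B.O1 q = G.canon :=
    Equiv.apply_symm_apply _ _
  refine ⟨B.P, p, B.O1, q, ⟨TensorMod.LocFree.of_isInvertible B.isInvertible, ?_, fun T g L hL s hs => ?_⟩,
    fun hF => ⟨B.alg, B.P, B.p, B.chart, Iso.refl _, B.gen, isFTDeg_one hE hj hF, B.hP, Category.id_comp _⟩⟩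
  · refine S5732.result E hE B.alg (Exists.jmap E) hj B.p B.chart B.hP B.O1 B.lam B.hO G.canon
      fun U hU e y => ?_
    erw [G.canon_app hU e]
    exact (B.val_sec (G.mem U hU e) y).trans (Localization.mk_one_eq_algebraMap _)
  have := hs
  have hL' := TensorMod.LocFree.isInvertible_of_rank_one hL
  let v := (Scheme.Modules.pullbackPushforwardAdjunction g).homEquiv E L s
  have hv : PE.Generates v := fun x => by
    obtain ⟨V, hV, hxV, -⟩ := exists_isAffineOpen_mem_and_subset (X := X) (x := g x) (U := ⊤) trivial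
    obtain ⟨U, -, hU, e, he⟩ := PE.exists_mem_gloc_of_epi g hL' s hxV hV
    exact ⟨U, hU, e, he⟩
  obtain ⟨r, hr⟩ := PE.exists_isMapFor (B := B) (hE := hE) hj v hv
  obtain ⟨τ, hτ⟩ := PE.exists_tau (G := G) hv hr
  have hvOf : ∀ (r' : T ⟶ B.P) (hr' : r' ≫ B.p = g) (e : (Scheme.Modules.pullback r').obj B.O1 ≅ L),
      (Scheme.Modules.pullbackPushforwardAdjunction g).homEquiv E L
        ((Scheme.Modules.pullbackCongr hr').inv.app E ≫ (Scheme.Modules.pullbackComp r' p).inv.app E ≫
          (Scheme.Modules.pullback r').map q ≫ e.hom) = PE.vOf G r' hr' e := fun r' hr' e => by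
    rw [homEquiv_comp r' p hr' q e.hom, hq]
    rfl
  have hev : v = PE.vOf G r hr.hq τ := by
    refine ArtinFun.HomAffine.hom_ext_affine fun U e => ?_
    exact (hτ U.1 U.2 e).trans (PE.ev_vOf G r hr.hq τ U.2 e).symm
  refine ⟨r, ⟨hr.hq, τ, ((Scheme.Modules.pullbackPushforwardAdjunction g).homEquiv E L).injective
    ((hvOf r hr.hq τ).trans hev.symm)⟩, ?_⟩
  rintro r' ⟨hr', e, he⟩
  have h : v = PE.vOf G r' hr' e :=
    (congrArg ((Scheme.Modules.pullbackPushforwardAdjunction g).homEquiv E L) he).symm.trans (hvOf r' hr' e)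
  exact PE.IsMapFor.eq hv (h ▸ PE.isMapFor_vOf G r' hr' e) hr

/-- A finite locally free module has a proper, locally projective projective bundle. -/
theorem exists_proper (hF : FlatMod.IsFinLocFree E) :
    ∃ (P : Scheme.{u}) (p : P ⟶ X) (O1 : P.Modules) (q : (Scheme.Modules.pullback p).obj E ⟶ O1),
      KRR.IsProjBundle p E O1 q ∧ IsProper p ∧ RelProj.IsLocallyProjective p := by
  obtain ⟨P, p, O1, q, hP, hp⟩ :=
    exists_isProjBundle E (TensorMod.QCohInv.isQCoh_of_isFinLocFree hF)
  refine ⟨P, p, O1, q, hP, HProj.Proper.isProper_of_isProjective (hp hF),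
    (HProj.Local.isLocallyProjective_iff p).2 fun x => ?_⟩
  obtain ⟨V, hV, hxV, -⟩ := exists_isAffineOpen_mem_and_subset (X := X) (x := x) (U := ⊤) trivial
  exact ⟨V, hxV, HProj.Local.isHProjective_morphismRestrict_affine p (hp hF) hV⟩

end Groth.Agent.Lib.Cyc.CH.BdlExists
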