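import Mathlib.RingTheory.Polynomial.Vieta
import Mathlib.Algebra.Polynomial.Taylor
import Mathlib.Algebra.Polynomial.Eval.Degree
import Mathlib.Data.Multiset.Bind
import Mathlib.Tactic.LinearCombination
import Mathlib.Tactic.Ring

/-!
# Identities of elementary symmetric functions of multisets
-/

set_option autoImplicit false

open Polynomial

namespace Groth.Agent.Lib.Cyc.CH.Sym

variable {R : Type*} [CommRing R]

theorem esymm_zero (s : Multiset R) : s.esymm 0 = 1 := by
  simp [Multiset.esymm]

theorem esymm_nil (n : ℕ) : (0 : Multiset R).esymm (n + 1) = 0 := by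
  simp [Multiset.esymm]

theorem esymm_cons (a : R) (s : Multiset R) (n : ℕ) :
    (a ::ₘ s).esymm (n + 1) = s.esymm (n + 1) + a * s.esymm n := by
  simp [Multiset.esymm, Multiset.powersetCard_cons, Multiset.map_map, Multiset.sum_map_mul_left]

theorem esymm_eq_zero {s : Multiset R} {n : ℕ} (h : Multiset.card s < n) : s.esymm n = 0 := by
  rw [Multiset.esymm, Multiset.powersetCard_eq_empty n h]
  simp

theorem esymm_one (s : Multiset R) : s.esymm 1 = s.sum := by
  induction s using Multiset.induction_on with
  | empty => exact esymm_nil 0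
  | cons a s ih => rw [esymm_cons, ih, esymm_zero, mul_one, Multiset.sum_cons, add_comm]

theorem esymm_add (s t : Multiset R) (n : ℕ) :
    (s + t).esymm n = ∑ a ∈ Finset.range (n + 1), s.esymm a * t.esymm (n - a) := by
  induction s using Multiset.induction_on generalizing n with
  | empty =>
    rw [zero_add, Finset.sum_eq_single 0]
    · rw [esymm_zero, one_mul, Nat.sub_zero]
    · intro a _ ha
      obtain ⟨b, rfl⟩ := Nat.exists_eq_succ_of_ne_zero ha
      rw [esymm_nil, zero_mul]
    · simp
  | cons a s ih =>
    rcases n with _ | n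
    · simp [esymm_zero]
    · rw [Multiset.cons_add, esymm_cons, ih, ih, Finset.sum_range_succ' _ (n + 1),
        Finset.sum_range_succ' _ (n + 1)]
      simp only [esymm_zero, esymm_cons, Nat.add_sub_add_right, add_mul, Finset.sum_add_distrib,
        Finset.mul_sum, Nat.sub_zero, mul_assoc]
      ring

theorem esymm_add_fin (s t : Multiset R) {r₁ r₂ : ℕ} (hs : Multiset.card s = r₁)
    (ht : Multiset.card t = r₂) (j : ℕ) :
    (s + t).esymm j = ∑ a : Fin (r₁ + 1), ∑ b : Fin (r₂ + 1),
      if (a : ℕ) + (b : ℕ) = j then s.esymm a * t.esymm b else 0 := by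
  rw [esymm_add, Fin.sum_univ_eq_sum_range
    (fun a => ∑ b : Fin (r₂ + 1), if a + (b : ℕ) = j then s.esymm a * t.esymm b else 0)]
  have h : ∀ a, (∑ b : Fin (r₂ + 1), if a + (b : ℕ) = j then s.esymm a * t.esymm b else 0) =
      if a ≤ j then s.esymm a * t.esymm (j - a) else 0 := fun a => by
    rw [Fin.sum_univ_eq_sum_range (fun b => if a + b = j then s.esymm a * t.esymm b else 0)]
    split_ifs with ha
    · rw [Finset.sum_eq_single (j - a) (fun b _ hb => if_neg (by omega))
        (fun hb => by
          rw [Finset.mem_range] at hb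
          rw [if_pos (by omega), esymm_eq_zero (s := t) (n := j - a) (by omega), mul_zero]),
        if_pos (by omega)]
    · exact Finset.sum_eq_zero fun b _ => if_neg (by omega)
  rw [Finset.sum_congr rfl fun a _ => h a, ← Finset.sum_filter]
  symm
  refine Finset.sum_subset (fun a ha => ?_) fun a ha ha' => ?_
  · simp only [Finset.mem_filter, Finset.mem_range] at ha ⊢
    omega
  · simp only [Finset.mem_filter, Finset.mem_range] at ha ha'
    rw [esymm_eq_zero (s := s) (n := a) (by omega), zero_mul]

theorem esymm_neg (s : Multiset R) (n : ℕ) :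
    (s.map fun a => -a).esymm n = (-1 : R) ^ n * s.esymm n := by
  induction s using Multiset.induction_on generalizing n with
  | empty =>
    rcases n with _ | n
    · simp [esymm_zero]
    · simp [esymm_nil]
  | cons a s ih =>
    rcases n with _ | n
    · simp [esymm_zero]
    · rw [Multiset.map_cons, esymm_cons, esymm_cons, ih, ih]
      ring

theorem esymm_map_add (s : Multiset R) (c : R) {i : ℕ} (hi : i ≤ Multiset.card s) :
    (s.map fun a => a + c).esymm i = ∑ j ∈ Finset.range (i + 1),
      ((Multiset.card s - i + j).choose j : R) * (c ^ j * s.esymm (i - j)) := by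
  nontriviality R
  generalize hN : Multiset.card s = N at hi ⊢
  let p : R[X] := (s.map fun a => X + C a).prod
  have hp : taylor c p = ((s.map fun a => a + c).map fun a => X + C a).prod := by
    rw [← taylorAlgHom_apply, map_multiset_prod, Multiset.map_map, Multiset.map_map]
    congr 1
    refine Multiset.map_congr rfl fun a _ => ?_
    simp only [Function.comp_apply, taylorAlgHom_apply, map_add, taylor_X, taylor_C]
    ring
  have h := Multiset.prod_X_add_C_coeff (s.map fun a => a + c) (k := N - i) (by simp [hN])
  rw [← hp, taylor_coeff, Multiset.card_map, hN, show N - (N - i) = i by omega] at h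
  have hdeg : (hasseDeriv (N - i) p).natDegree < i + 1 := by
    refine Nat.lt_succ_of_le ((natDegree_hasseDeriv_le p (N - i)).trans ?_)
    have : p.natDegree ≤ N := by
      refine (natDegree_multiset_prod_le _).trans ?_
      rw [Multiset.map_map, ← hN]
      exact ((Multiset.sum_le_card_nsmul _ 1 fun x hx => by
        obtain ⟨a, -, rfl⟩ := Multiset.mem_map.1 hx
        exact (natDegree_X_add_C a).le).trans (by simp))
    omega
  rw [← h, eval_eq_sum_range' hdeg]
  refine Finset.sum_congr rfl fun j hj => ?_
  have hj' := Nat.le_of_lt_succ (Finset.mem_range.1 hj)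
  have hcoeff : p.coeff (j + (N - i)) = s.esymm (i - j) := by
    rw [Multiset.prod_X_add_C_coeff s (by omega), hN]
    congr 1
    omega
  rw [hasseDeriv_coeff, hcoeff, show j + (N - i) = N - i + j by omega, Nat.choose_symm_add]
  ring

theorem map_natCast_mul {M : Type*} [AddCommGroup M] (φ : R →+ M) (n : ℕ) (z : R) :
    φ ((n : R) * z) = (n : ℤ) • φ z := by
  rw [← nsmul_eq_mul, map_nsmul, natCast_zsmul]

theorem map_pred_mul {M : Type*} [AddCommGroup M] (φ : R →+ M) (r s : ℕ) (z : R) :
    φ (((r : R) * (s : R) - 1) * z) = (((r * s : ℕ) : ℤ) - 1) • φ z := by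
  rw [← map_zsmul, zsmul_eq_mul]
  push_cast
  rfl

theorem map_negOnePow_mul {M : Type*} [AddCommGroup M] (φ : R →+ M) (n : ℕ) (z : R) :
    φ ((-1 : R) ^ n * z) = ((-1 : ℤ) ^ n) • φ z := by
  rw [← map_zsmul, zsmul_eq_mul, Int.cast_pow, Int.cast_neg, Int.cast_one]

/-- All sums `a + b`. -/
def pairs (s t : Multiset R) : Multiset R := t.bind fun b => s.map fun a => a + b

theorem card_pairs (s t : Multiset R) :
    Multiset.card (pairs s t) = Multiset.card t * Multiset.card s := by
  simp [pairs, Multiset.card_bind]

theorem pairs_cons (s : Multiset R) (b : R) (t : Multiset R) :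
    pairs s (b ::ₘ t) = (s.map fun a => a + b) + pairs s t := Multiset.cons_bind _ _ _

theorem esymm_one_map_add (s : Multiset R) (b : R) :
    (s.map fun a => a + b).esymm 1 = s.esymm 1 + (Multiset.card s : R) * b := by
  rw [esymm_one, esymm_one, Multiset.sum_map_add, Multiset.map_id', Multiset.map_const',
    Multiset.sum_replicate, nsmul_eq_mul]

theorem esymm_two_map_add (s : Multiset R) (b : R) :
    (s.map fun a => a + b).esymm 2 = s.esymm 2 + ((Multiset.card s : R) - 1) * (b * s.esymm 1) +
      ((Multiset.card s).choose 2 : R) * (b * b) := by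
  induction s using Multiset.induction_on with
  | empty => simp [esymm_nil]
  | cons a s ih =>
    rw [Multiset.map_cons, esymm_cons, ih, esymm_one_map_add, esymm_cons, esymm_cons,
      Multiset.card_cons, Nat.choose_succ_succ, Nat.choose_one_right, esymm_zero]
    push_cast
    ring

theorem esymm_one_pairs (s t : Multiset R) :
    (pairs s t).esymm 1 = (Multiset.card s : R) * t.esymm 1 + (Multiset.card t : R) * s.esymm 1 := by
  induction t using Multiset.induction_on with
  | empty => simp [pairs, esymm_nil]
  | cons b t ih =>
    have h := esymm_one_map_add s b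
    rw [esymm_one] at h ih
    rw [pairs_cons, esymm_one, Multiset.sum_add, h, ih, esymm_cons, Multiset.card_cons, esymm_zero]
    push_cast
    ring

theorem esymm_two_add (s t : Multiset R) :
    (s + t).esymm 2 = t.esymm 2 + s.esymm 1 * t.esymm 1 + s.esymm 2 := by
  rw [esymm_add]
  simp [Finset.sum_range_succ, esymm_zero]

theorem esymm_two_pairs (s t : Multiset R) :
    (pairs s t).esymm 2 = (Multiset.card s : R) * t.esymm 2 + (Multiset.card t : R) * s.esymm 2 +
      ((Multiset.card s).choose 2 : R) * (t.esymm 1 * t.esymm 1) +
      ((Multiset.card s : R) * (Multiset.card t : R) - 1) * (s.esymm 1 * t.esymm 1) +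
      ((Multiset.card t).choose 2 : R) * (s.esymm 1 * s.esymm 1) := by
  induction t using Multiset.induction_on with
  | empty => simp [pairs, esymm_nil]
  | cons b t ih =>
    rw [pairs_cons, esymm_two_add, ih, esymm_two_map_add, esymm_one_map_add, esymm_one_pairs,
      esymm_cons, esymm_cons, Multiset.card_cons, Nat.choose_succ_succ (Multiset.card t),
      Nat.choose_one_right, esymm_zero]
    have h : (Multiset.card s : R) * (Multiset.card s : R) =
        (Multiset.card s : R) + 2 * ((Multiset.card s).choose 2 : R) := by
      generalize Multiset.card s = n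
      induction n with
      | zero => simp
      | succ n ih =>
        rw [Nat.choose_succ_succ, Nat.choose_one_right]
        push_cast
        linear_combination ih
    simp only [Nat.reduceAdd, zero_add, Nat.succ_eq_add_one]
    push_cast
    linear_combination (b * t.esymm 1) * h

end Groth.Agent.Lib.Cyc.CH.Sym
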