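import Groth.Agent.Lib.Cyc.CH.Split
import Groth.Agent.Lib.Cyc.CH.Sym
import Groth.Agent.Lib.Cyc.CH.SubLine

/-!
# Chern roots on splitting covers
-/

set_option autoImplicit false
set_option linter.style.haveILetI false
universe u

open CategoryTheory CategoryTheory.Limits AlgebraicGeometry

noncomputable section

namespace Groth.Agent.Lib.Cyc.CH

open Groth.Agent.Lib Groth.Agent.Lib.Cyc

section Ring

variable {X : Scheme.{u}} [IsLocallyNoetherian X] (δ : X → ℤ) (hδ : Cyc.IsDimFun X δ)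

theorem c1o_mul_comm (L M : X.Modules) : c1o δ hδ L * c1o δ hδ M = c1o δ hδ M * c1o δ hδ L := by
  by_cases hL : PicF.IsInvertible L
  · by_cases hM : PicF.IsInvertible M
    · rw [c1o_eq δ hδ hL, c1o_eq δ hδ hM]
      exact AddMonoidHom.ext fun x => c1_comm hδ hL hM x
    · simp [c1o, dif_neg hM]
  · simp [c1o, dif_neg hL]

/-- The operators generated by first Chern classes. -/
def opRing : Subring (AddMonoid.End (Tot X δ)) := Subring.closure (Set.range (c1o δ hδ))

instance : CommRing (opRing δ hδ) :=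
  Subring.closureCommRingOfComm fun _ hx _ hy => by
    obtain ⟨L, rfl⟩ := hx
    obtain ⟨M, rfl⟩ := hy
    exact c1o_mul_comm δ hδ L M

/-- A first Chern class as an element of the commutative ring of operators. -/
def root (L : X.Modules) : opRing δ hδ := ⟨c1o δ hδ L, Subring.subset_closure ⟨L, rfl⟩⟩

theorem coe_root (L : X.Modules) : (root δ hδ L : AddMonoid.End (Tot X δ)) = c1o δ hδ L := rfl

/-- The roots of a list. -/
def roots (l : List X.Modules) : Multiset (opRing δ hδ) := ((l.map (root δ hδ) : List _) : Multiset _)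

theorem card_roots (l : List X.Modules) : Multiset.card (roots δ hδ l) = l.length := by
  simp [roots]

theorem roots_append (l l' : List X.Modules) :
    roots δ hδ (l ++ l') = roots δ hδ l + roots δ hδ l' := by
  rw [roots, List.map_append, ← Multiset.coe_add]
  rfl

theorem esymL_eq : ∀ (l : List X.Modules) (q : ℕ),
    esymL δ hδ l q = (((roots δ hδ l).esymm q : opRing δ hδ) : AddMonoid.End (Tot X δ))
  | l, 0 => by rw [esymL_zero, Sym.esymm_zero]; rfl
  | [], q + 1 => by
    rw [show roots δ hδ [] = 0 from rfl, Sym.esymm_nil]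
    rfl
  | L :: l, q + 1 => by
    rw [show roots δ hδ (L :: l) = root δ hδ L ::ₘ roots δ hδ l from rfl, Sym.esymm_cons,
      mul_comm (root δ hδ L)]
    show esymL δ hδ l (q + 1) + esymL δ hδ l q * c1o δ hδ L =
      (((roots δ hδ l).esymm (q + 1) : opRing δ hδ) : AddMonoid.End (Tot X δ)) +
        (((roots δ hδ l).esymm q : opRing δ hδ) : AddMonoid.End (Tot X δ)) * c1o δ hδ L
    rw [← esymL_eq l, ← esymL_eq l]

variable {δ}

theorem root_congr {L M : X.Modules} (hL : PicF.IsInvertible L) (hM : PicF.IsInvertible M)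
    (e : L ≅ M) : root δ hδ L = root δ hδ M :=
  Subtype.ext (by rw [coe_root, coe_root, c1o_eq δ hδ hL, c1o_eq δ hδ hM, c1_congr hδ hL hM e])

theorem root_tensor (hX : Cyc.IsSetup X δ) {L M : X.Modules} (hL : PicF.IsInvertible L)
    (hM : PicF.IsInvertible M) :
    root δ hδ (CohB1.tensorMod L M) = root δ hδ L + root δ hδ M :=
  Subtype.ext (by
    show c1o δ hδ (CohB1.tensorMod L M) = c1o δ hδ L + c1o δ hδ M
    rw [c1o_eq δ hδ hL, c1o_eq δ hδ hM,
      c1o_eq δ hδ (TensorMod.Invertible.isInvertible_tensorMod hL hM), c1_tensor hδ hL hM _ hX])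

theorem root_structureModule (hX : Cyc.IsSetup X δ) : root δ hδ (Coh.structureModule X) = 0 :=
  Subtype.ext (by
    rw [coe_root, c1o_eq δ hδ (PicLoc.isInvertible_structureModule X), c1_structureModule hδ _ hX]
    rfl)

theorem root_eq_neg (hX : Cyc.IsSetup X δ) {L M : X.Modules} (hL : PicF.IsInvertible L)
    (hM : PicF.IsInvertible M) (e : CohB1.tensorMod L M ≅ Coh.structureModule X) :
    root δ hδ M = -root δ hδ L := by
  have h := root_congr hδ (TensorMod.Invertible.isInvertible_tensorMod hL hM)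
    (PicLoc.isInvertible_structureModule X) e
  rw [root_tensor hδ hX hL hM, root_structureModule hδ hX] at h
  exact eq_neg_of_add_eq_zero_right h

theorem op_zsmul (a : ℤ) (f : opRing δ hδ) (x : Tot X δ) :
    ((a • f : opRing δ hδ) : AddMonoid.End (Tot X δ)) x = a • (f : AddMonoid.End (Tot X δ)) x := rfl

/-- Evaluation of operators at a class, additive in the operator. -/
def evalAt (y : Tot X δ) : opRing δ hδ →+ Tot X δ :=
  AddMonoidHom.mk' (fun f => (f : AddMonoid.End (Tot X δ)) y) fun _ _ => rfl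

theorem evalAt_apply (y : Tot X δ) (f : opRing δ hδ) :
    evalAt hδ y f = (f : AddMonoid.End (Tot X δ)) y := rfl

theorem evalAt_mul (y : Tot X δ) (f g : opRing δ hδ) :
    evalAt hδ y (f * g) = (f : AddMonoid.End (Tot X δ)) (evalAt hδ y g) := rfl

theorem evalAt_pow (y : Tot X δ) (f : opRing δ hδ) (j : ℕ) :
    evalAt hδ y (f ^ j) = ((f : AddMonoid.End (Tot X δ)) ^ j) y := by
  induction j with
  | zero => rfl
  | succ j ih =>
    rw [pow_succ', pow_succ', evalAt_mul]
    exact congrArg (f : AddMonoid.End (Tot X δ)) ih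

end Ring

variable {X : Scheme.{u}} [IsLocallyNoetherian X] {δ : X → ℤ}

omit [IsLocallyNoetherian X] in
/-- Pullback of a filtration to a further cover. -/
theorem Cover.filt_trans (C : Cover X δ) (C' : Cover C.Y C.δY) {E : X.Modules} {l : List C.Y.Modules}
    (h : Filt ((Scheme.Modules.pullback C.g).obj E) l) :
    Filt ((Scheme.Modules.pullback (C.trans C').g).obj E) (l.map (Scheme.Modules.pullback C'.g).obj) :=
  (h.pullback C'.g).of_iso ((Scheme.Modules.pullbackComp C'.g C.g).app E)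

theorem Cover.pl_c1_pow (C : Cover X δ) {L : X.Modules} (hL : PicF.IsInvertible L) (j : ℕ) (x : Tot X δ) :
    C.pl ((c1 δ C.hX.2.2 hL ^ j) x) =
      evalAt C.hY.2.2 (C.pl x) (root C.δY C.hY.2.2 ((Scheme.Modules.pullback C.g).obj L) ^ j) := by
  rw [evalAt_pow, coe_root, c1o_eq C.δY C.hY.2.2 (PicLoc.isInvertible_pullback C.g hL)]
  induction j with
  | zero => rfl
  | succ j ih =>
    rw [pow_succ', pow_succ']
    exact (C.pl_c1 hL _).trans (congrArg _ ih)

/-- Operators computed by symmetric functions on every cover filtering `E`, and splitting covers. -/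
structure IsChern (E : X.Modules) (r : ℕ) (δ : X → ℤ) (ch : ℕ → AddMonoid.End (Tot X δ)) : Prop where
  split : ∀ C : Cover X δ, ∃ (C' : Cover C.Y C.δY) (l : List (C.trans C').Y.Modules), C'.Inj ∧
    Filt ((Scheme.Modules.pullback (C.trans C').g).obj E) l ∧ l.length = r
  pl_ch : ∀ (C : Cover X δ) (l : List C.Y.Modules), Filt ((Scheme.Modules.pullback C.g).obj E) l →
    l.length = r → ∀ (j : ℕ) (x : Tot X δ), C.pl (ch j x) = esymL C.δY C.hY.2.2 l j (C.pl x)

/-- Chern operators of a module with a projective bundle, in every rank. -/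
theorem exists_isChern (hX : Cyc.IsSetup X δ) {r : ℕ} {E : X.Modules}
    (hE : FlatMod.IsFinLocFreeOfRank r E) {P : Scheme.{u}} {p : P ⟶ X} {O1 : P.Modules}
    {q : (Scheme.Modules.pullback p).obj E ⟶ O1} (hP : KRR.IsProjBundle p E O1 q) [IsProper p]
    {δP : P → ℤ} (hPs : Cyc.IsSetup P δP) (hδ : Cyc.DeltaCompat p δP δ) :
    ∃ ch, IsChern E r δ ch ∧ ∀ {k : ℤ} {α : AlgebraicCycle X ℤ} {γ : Fin (r + 1) → AlgebraicCycle X ℤ}
      (hγ : Cyc.IsChernCap p δ δP O1 r k α γ) (hα : α ∈ Cyc.Zk X δ k) (j : Fin (r + 1)),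
      cls δ (k - (j : ℕ)) (γ j) (hγ.2.1 j) = ch (j : ℕ) (cls δ k α hα) := by
  haveI := hPs.1
  rcases r with _ | n
  · refine ⟨fun j => if j = 0 then 1 else 0, ⟨fun C => ?_, fun C l hl hlen j x => ?_⟩, ?_⟩
    · exact ⟨Cover.id C.hY, [], Cover.inj_id C.hY,
        .zero (isZero_of_rank_zero (TensorMod.LocFree.rank_pullback _ hE)), rfl⟩
    · obtain rfl := List.length_eq_zero_iff.1 hlen
      rcases j with _ | j
      · rfl
      · exact map_zero _
    · intro k α γ hγ hα j
      obtain rfl : j = 0 := Fin.ext (by have := j.2; omega)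
      exact cls_congr (by simp) (by rw [hγ.1])
  · haveI := hP.epi
    have B := Bdl.of_isProjBundle hX.2.2 hPs.2.2 hδ hP hE
    refine ⟨B.ch, ⟨fun C => ?_, fun C l hl hlen j x => C.pl_ch B hPs q hl hlen j x⟩,
      fun hγ hα j => B.cls_eq_ch hγ hα j⟩
    obtain ⟨δT, hT, qT, BT, hqT, -⟩ := C.exists_bundle B hPs q
    haveI := hT.1
    haveI := hqT
    obtain ⟨C', l, hinj, hl, hlen⟩ :=
      exists_split BT C.hY hT (TensorMod.LocFree.rank_pullback C.g hE) qT
    exact ⟨C', l, hinj, hl.of_iso ((Scheme.Modules.pullbackComp C'.g C.g).app E), hlen⟩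

namespace IsChern

variable {E F : X.Modules} {r s : ℕ} {ch ch' : ℕ → AddMonoid.End (Tot X δ)}

theorem exists_split_one (hX : Cyc.IsSetup X δ) (h : IsChern E r δ ch) :
    ∃ (C : Cover X δ) (l : List C.Y.Modules), C.Inj ∧
      Filt ((Scheme.Modules.pullback C.g).obj E) l ∧ l.length = r := by
  obtain ⟨C', l, hi, hl, hlen⟩ := h.split (Cover.id hX)
  exact ⟨(Cover.id hX).trans C', l, Cover.inj_trans _ _ (Cover.inj_id hX) hi, hl, hlen⟩

theorem exists_split_two (hX : Cyc.IsSetup X δ) (h : IsChern E r δ ch) (h' : IsChern F s δ ch') :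
    ∃ (C : Cover X δ) (l l' : List C.Y.Modules), C.Inj ∧
      Filt ((Scheme.Modules.pullback C.g).obj E) l ∧ l.length = r ∧
      Filt ((Scheme.Modules.pullback C.g).obj F) l' ∧ l'.length = s := by
  obtain ⟨C, l, hi, hl, hlen⟩ := h.exists_split_one hX
  obtain ⟨C', l', hi', hl', hlen'⟩ := h'.split C
  exact ⟨C.trans C', _, l', Cover.inj_trans _ _ hi hi', C.filt_trans C' hl,
    (List.length_map _).trans hlen, hl', hlen'⟩

theorem pl_eq (h : IsChern E r δ ch) (C : Cover X δ) {l : List C.Y.Modules}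
    (hl : Filt ((Scheme.Modules.pullback C.g).obj E) l) (hlen : l.length = r) (j : ℕ) (x : Tot X δ) :
    C.pl (ch j x) = (((roots C.δY C.hY.2.2 l).esymm j : opRing C.δY C.hY.2.2) :
      AddMonoid.End (Tot C.Y C.δY)) (C.pl x) := by
  rw [h.pl_ch C l hl hlen, esymL_eq]

theorem eq_zero (hX : Cyc.IsSetup X δ) (h : IsChern E r δ ch) {j : ℕ} (hj : r < j) : ch j = 0 := by
  obtain ⟨C, l, hi, hl, hlen⟩ := h.exists_split_one hX
  refine AddMonoidHom.ext fun x => hi _ ((h.pl_ch C l hl hlen j x).trans ?_)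
  rw [esymL_eq_zero C.δY C.hY.2.2 l j (by omega)]
  rfl

/-- The class of a component of a tuple, zero beyond the rank. -/
theorem exists_cls_dite (hX : Cyc.IsSetup X δ) (h : IsChern E r δ ch) {k : ℤ}
    {α : AlgebraicCycle X ℤ} {hα : α ∈ Cyc.Zk X δ k} {γ : Fin (r + 1) → AlgebraicCycle X ℤ}
    (hm : ∀ i : Fin (r + 1), γ i ∈ Cyc.Zk X δ (k - (i : ℕ)))
    (he : ∀ i : Fin (r + 1), cls δ (k - (i : ℕ)) (γ i) (hm i) = ch (i : ℕ) (cls δ k α hα)) (j : ℕ) :
    ∃ hj : (if h2 : j ≤ r then γ ⟨j, Nat.lt_succ_of_le h2⟩ else 0) ∈ Cyc.Zk X δ (k - j),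
      cls δ (k - j) (if h2 : j ≤ r then γ ⟨j, Nat.lt_succ_of_le h2⟩ else 0) hj =
        ch j (cls δ k α hα) := by
  by_cases h2 : j ≤ r
  · exact ⟨(dif_pos h2).symm ▸ hm ⟨j, Nat.lt_succ_of_le h2⟩,
      (cls_congr rfl (by rw [dif_pos h2])).trans (he ⟨j, Nat.lt_succ_of_le h2⟩)⟩
  · refine ⟨(dif_neg h2).symm ▸ mem_zero, ?_⟩
    rw [h.eq_zero hX (by omega)]
    exact (cls_congr rfl (by rw [dif_neg h2])).trans cls_zero

/-- Splitting covers determine the operators. -/
theorem ext (hX : Cyc.IsSetup X δ) (h : IsChern E r δ ch) (h' : IsChern E r δ ch') : ch = ch' := by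
  obtain ⟨C, l, hi, hl, hlen⟩ := h.exists_split_one hX
  exact funext fun j => AddMonoidHom.ext fun x => C.pl_cls_eq hi
    ((h.pl_ch C l hl hlen j x).trans (h'.pl_ch C l hl hlen j x).symm)

end IsChern

end Groth.Agent.Lib.Cyc.CH
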