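import Groth.Agent.Lib.Cyc.CH.Square
import Groth.Agent.Lib.Cyc.Gys.FlatPull
import Groth.Agent.Lib.Cyc.Gys.PullZero
import Groth.Agent.Lib.Cyc.Gys.Rat

/-!
# The Gysin operator of a divisor and the Chern operators
-/

set_option autoImplicit false
set_option linter.style.haveILetI false
universe u

open CategoryTheory CategoryTheory.Limits AlgebraicGeometry

noncomputable section

namespace Groth.Agent.Lib.Cyc.CH

open Groth.Agent.Lib Groth.Agent.Lib.Cyc

section Op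

variable {X D : Scheme.{u}} [IsLocallyNoetherian X] [IsLocallyNoetherian D] (i : D ⟶ X)
  [IsClosedImmersion i] {δ : X → ℤ} (hδ : Cyc.IsDimFun X δ) {L : X.Modules}
  (hL : PicF.IsInvertible L) {s : L.presheaf.obj (Opposite.op ⊤)} (hD : Cyc.IsZeroSchemeOf i L s)
  {w : (ξ : X) → Cyc.secFibre L ξ} (hw : ∀ ξ, w ξ ≠ 0)

include hδ hL hD hw in
omit [IsLocallyNoetherian D] in
theorem gys_cycleOp : CycleOp δ (fun d => δ (i d)) (-1) fun α d =>
    Cyc.c1CapFun δ L ⇑α (Cyc.gysinChoice L s w) (i d) where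
  ex k α hα := by
    have hα' : α ∈ Cyc.Zk X δ (k + -1 + 1) := by rwa [neg_add_cancel_right]
    obtain ⟨β, hβ⟩ := Gys.C1.exists_cap hδ hL hα' _ (Gys.Cycle.gysinChoice_ne_zero (s := s) hw)
    exact ⟨Gys.C1.pullCycle i β, fun d hd => Gys.C1.cap_mem hδ hα' _ β hβ (i d) hd,
      funext fun d => congrFun hβ (i d)⟩
  add α β d := Gys.C1.c1Cap_add α β _ (i d)
  rat k α hα h β hβ := Gys.Rat.ratEquivZero_gysin i hδ hL hD (k := k + -1)
    (by rwa [neg_add_cancel_right]) w hw β (fun d => congrFun hβ d)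

/-- The Gysin operator. -/
def gys : Tot X δ →+ Tot D (fun d => δ (i d)) :=
  (gys_cycleOp i hδ hL hD hw).op (Gys.Closed.isDimFun i hδ)

theorem gys_cls {k k' : ℤ} {α : AlgebraicCycle X ℤ} (hα : α ∈ Cyc.Zk X δ k) {β : AlgebraicCycle D ℤ}
    (hk : k' = k - 1) (hβ : β ∈ Cyc.Zk D (fun d => δ (i d)) k')
    (e : ∀ d, β d = Cyc.c1CapFun δ L ⇑α (Cyc.gysinChoice L s w) (i d)) :
    gys i hδ hL hD hw (cls δ k α hα) = cls (fun d => δ (i d)) k' β hβ :=
  (gys_cycleOp i hδ hL hD hw).op_cls (Gys.Closed.isDimFun i hδ) hα (by omega) hβ (funext e)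

omit [IsLocallyNoetherian D] in
include hδ hL hw in
theorem exists_gys_cycle {k : ℤ} {α : AlgebraicCycle X ℤ} (hα : α ∈ Cyc.Zk X δ k) :
    ∃ β : AlgebraicCycle D ℤ, β ∈ Cyc.Zk D (fun d => δ (i d)) (k - 1) ∧
      ∀ d, β d = Cyc.c1CapFun δ L ⇑α (Cyc.gysinChoice L s w) (i d) := by
  have hα' : α ∈ Cyc.Zk X δ (k - 1 + 1) := by rwa [sub_add_cancel]
  obtain ⟨β, hβ⟩ := Gys.C1.exists_cap hδ hL hα' _ (Gys.Cycle.gysinChoice_ne_zero (s := s) hw)
  exact ⟨Gys.C1.pullCycle i β, fun d hd => Gys.C1.cap_mem hδ hα' _ β hβ (i d) hd,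
    fun d => congrFun hβ (i d)⟩

theorem gys_c1 {N : X.Modules} (hN : PicF.IsInvertible N) (x : Tot X δ) :
    gys i hδ hL hD hw (c1 δ hδ hN x) =
      c1 (fun d => δ (i d)) (Gys.Closed.isDimFun i hδ) (PicLoc.isInvertible_pullback i hN)
        (gys i hδ hL hD hw x) := by
  obtain ⟨v, hv⟩ := exists_sections hN
  obtain ⟨t, ht⟩ := exists_sections (PicLoc.isInvertible_pullback i hN)
  refine DFunLike.congr_fun (hom_ext (A := (gys i hδ hL hD hw).comp (c1 δ hδ hN))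
    (B := AddMonoidHom.comp (c1 (fun d => δ (i d)) (Gys.Closed.isDimFun i hδ)
      (PicLoc.isInvertible_pullback i hN)) (gys i hδ hL hD hw)) fun k α hα => ?_) x
  show gys i hδ hL hD hw (c1 δ hδ hN _) =
    c1 (fun d => δ (i d)) (Gys.Closed.isDimFun i hδ) (PicLoc.isInvertible_pullback i hN)
      (gys i hδ hL hD hw _)
  obtain ⟨a, ha, a1, a2⟩ := exists_c1 hδ hN hα v hv
  obtain ⟨a', ha', a1'⟩ := exists_gys_cycle i hδ hL (s := s) hw ha
  obtain ⟨b, hb, b1⟩ := exists_gys_cycle i hδ hL (s := s) hw hα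
  obtain ⟨b', hb', b1', b2'⟩ := exists_c1 (Gys.Closed.isDimFun i hδ)
    (PicLoc.isInvertible_pullback i hN) hb t ht
  rw [a2, gys_cls i hδ hL hD hw ha rfl ha' a1', gys_cls i hδ hL hD hw hα rfl hb b1, b2',
    cls_eq_iff (Gys.Closed.isDimFun i hδ)]
  have := Gys.C1.ratEquiv_gysin_c1 (k := k - 1 - 1) i hδ hL hN hD
    (show α ∈ Cyc.Zk X δ (k - 1 - 1 + 1 + 1) by rwa [show k - 1 - 1 + 1 + 1 = k by ring])
    w hw v hv t ht a a1 _ rfl a' b' a1' (by rw [b1', show ⇑b = _ from funext b1])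
  exact this

end Op

section Pull

variable {X X' D : Scheme.{u}} [IsLocallyNoetherian X] [IsLocallyNoetherian X']
  [IsLocallyNoetherian D] (f : X' ⟶ X) [Flat f] (i : D ⟶ X) [IsClosedImmersion i]
  [IsLocallyNoetherian (pullback f i : Scheme.{u})]
  {δ : X → ℤ} (hδ : Cyc.IsDimFun X δ) {δ' : X' → ℤ} (hδ' : Cyc.IsDimFun X' δ') {c : ℤ}
  (hc : FP.Main.Shift f δ' δ c) {L : X.Modules}
  (hL : PicF.IsInvertible L) {s : L.presheaf.obj (Opposite.op ⊤)} (hD : Cyc.IsZeroSchemeOf i L s)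
  {s' : ((Scheme.Modules.pullback f).obj L).presheaf.obj (Opposite.op ⊤)}
  (hD' : Cyc.IsZeroSchemeOf (pullback.fst f i) ((Scheme.Modules.pullback f).obj L) s')
  {w : (ξ : X) → Cyc.secFibre L ξ} (hw : ∀ ξ, w ξ ≠ 0)
  {w' : (ξ : X') → Cyc.secFibre ((Scheme.Modules.pullback f).obj L) ξ} (hw' : ∀ ξ, w' ξ ≠ 0)

theorem gys_pull (x : Tot X δ) :
    gys (pullback.fst f i) hδ' (PicLoc.isInvertible_pullback f hL) hD' hw' (pull hδ' hδ f hc x) =
      pull (Gys.Closed.isDimFun (pullback.fst f i) hδ') (Gys.Closed.isDimFun i hδ) (pullback.snd f i)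
        (Gys.FlatPull.shift_snd f i hc) (gys i hδ hL hD hw x) := by
  have hδg := Gys.Closed.isDimFun (pullback.fst f i) hδ'
  have hδD := Gys.Closed.isDimFun i hδ
  refine DFunLike.congr_fun (hom_ext
    (A := (gys (pullback.fst f i) hδ' (PicLoc.isInvertible_pullback f hL) hD' hw').comp
      (pull hδ' hδ f hc))
    (B := (pull hδg hδD (pullback.snd f i) (Gys.FlatPull.shift_snd f i hc)).comp
      (gys i hδ hL hD hw)) fun k α hα => ?_) x
  show gys (pullback.fst f i) hδ' (PicLoc.isInvertible_pullback f hL) hD' hw'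
      (pull hδ' hδ f hc _) =
    pull hδg hδD (pullback.snd f i) (Gys.FlatPull.shift_snd f i hc) (gys i hδ hL hD hw _)
  obtain ⟨a, ha, a1⟩ := PullExists.exists_pullFun (δX := δ') f c hα
  obtain ⟨a', ha', a1'⟩ := exists_gys_cycle (pullback.fst f i) hδ'
    (PicLoc.isInvertible_pullback f hL) (s := s') hw' ha
  obtain ⟨b, hb, b1⟩ := exists_gys_cycle i hδ hL (s := s) hw hα
  obtain ⟨b', hb', b1'⟩ := PullExists.exists_pullFun (δX := fun z => δ' (pullback.fst f i z))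
    (pullback.snd f i) c hb
  have hb'' : b' ∈ Cyc.Zk _ (fun z => δ' (pullback.fst f i z)) (k + c - 1) := by
    rwa [show k + c - 1 = k - 1 + c by ring]
  rw [pull_cls hδ' hδ f hc hα rfl ha a1, gys_cls _ hδ' _ hD' hw' ha rfl ha' a1',
    gys_cls i hδ hL hD hw hα rfl hb b1,
    pull_cls hδg hδD (pullback.snd f i) (Gys.FlatPull.shift_snd f i hc) hb
      (show k + c - 1 = k - 1 + c by ring) hb'' b1', cls_eq_iff hδg]
  exact Gys.FlatPull.ratEquiv_gysin_pull f i hδ hδ' hc (show k - 1 + c = k + c - 1 by ring) hL hD hD'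
    (show α ∈ Cyc.Zk X δ (k - 1 + 1) by rwa [sub_add_cancel]) w hw w' hw' a' b'
    (fun z => by rw [a1', a1]) (by rw [b1', show ⇑b = _ from funext b1])

end Pull

section Bundle

variable {X P D PD : Scheme.{u}} [IsLocallyNoetherian X] [IsLocallyNoetherian P]
  [IsLocallyNoetherian D] [IsLocallyNoetherian PD] {π : P ⟶ X} [IsProper π] {pD : PD ⟶ D}
  [IsProper pD] {i' : PD ⟶ P} {O1 : P.Modules} {n : ℕ} {δP : P → ℤ} {δ : X → ℤ}
  (B : Bdl π O1 n δP δ) (i : D ⟶ X) [IsClosedImmersion i] {L : X.Modules}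
  (hL : PicF.IsInvertible L) {s : L.presheaf.obj (Opposite.op ⊤)} (hD : Cyc.IsZeroSchemeOf i L s)
  {w : (ξ : X) → Cyc.secFibre L ξ} (hw : ∀ ξ, w ξ ≠ 0)

/-- The Gysin operator commutes with the Chern operators. -/
theorem Bdl.gys_ch (hsq : IsPullback i' pD π i)
    (B' : Bdl pD ((Scheme.Modules.pullback i').obj O1) n (fun y => δP (i' y)) (fun d => δ (i d)))
    (j : ℕ) (x : Tot X δ) :
    gys i B.dimX hL hD hw (B.ch j x) = B'.ch j (gys i B.dimX hL hD hw x) := by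
  haveI := B.flat
  haveI := B'.flat
  haveI : IsLocallyNoetherian (pullback π i : Scheme.{u}) :=
    LocallyOfFiniteType.isLocallyNoetherian (pullback.fst π i)
  obtain ⟨e, he1, he2⟩ : ∃ e : PD ≅ pullback π i,
      e.hom ≫ pullback.fst π i = i' ∧ e.hom ≫ pullback.snd π i = pD :=
    ⟨hsq.isoPullback, hsq.isoPullback_hom_fst, hsq.isoPullback_hom_snd⟩
  subst he1 he2
  obtain ⟨s', hD'⟩ := Gys.PullZero.exists_zeroSection π i hL hD
  have hL' := PicLoc.isInvertible_pullback π hL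
  obtain ⟨w', hw'⟩ := exists_sections hL'
  have he : FP.Main.Shift e.hom (fun y => δP ((e.hom ≫ pullback.fst π i) y))
      (fun z => δP (pullback.fst π i z)) 0 := fun y _ => by
    rw [add_zero]
    rfl
  have hW := Gys.Closed.isDimFun (pullback.fst π i) B.dimP
  refine B.intertwine B' _ ((pull B'.dimP hW e.hom he).comp
    (gys (pullback.fst π i) B.dimP hL' hD' hw')) (fun z => ?_) (fun z => ?_) j x
  · show pull B'.dimP hW e.hom he (gys _ B.dimP hL' hD' hw' (c1 δP B.dimP B.inv z)) = _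
    rw [gys_c1, pull_c1]
    exact DFunLike.congr_fun (c1_congr B'.dimP _ B'.inv
      ((Scheme.Modules.pullbackComp e.hom (pullback.fst π i)).app O1)) _
  · show pull B'.dimP hW e.hom he
      (gys _ B.dimP hL' hD' hw' (pull B.dimP B.dimX π B.shift z)) = _
    rw [gys_pull π i B.dimX B.dimP B.shift hL hD hD' hw hw']
    exact pull_comp B'.dimP hW e.hom he B'.dimX (pullback.snd π i)
      (Gys.FlatPull.shift_snd π i B.shift) (e.hom ≫ pullback.snd π i) rfl B'.shift (zero_add _) _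

end Bundle

end Groth.Agent.Lib.Cyc.CH
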