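import Groth.Agent.Lib.Cyc.CH.BCLen

/-!
# Flat base change of proper pushforward of cycles
-/

set_option autoImplicit false
set_option linter.style.haveILetI false
universe u

open CategoryTheory CategoryTheory.Limits AlgebraicGeometry

noncomputable section

namespace Groth.Agent.Lib.Cyc.CH.BaseChange

open Groth.Agent.Lib Groth.Agent.Lib.Cyc

theorem exists_isMaxFib {X Y : Scheme.{u}} (f : X ⟶ Y) (x : X) :
    ∃ x', f x' = f x ∧ x' ⤳ x ∧ FibLen.IsMaxFib f x' := by
  obtain ⟨w, hw, hmax⟩ := DimFun.exists_isMaxPt_specializes (f.asFiber x)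
  refine ⟨f.fiberι (f x) w, FieldDim.apply_fiberι f (f x) w, ?_, (FieldDim.isMaxFib_iff f _ w).2 hmax⟩
  have := (FieldDim.fiber_specializes_iff f (f x) w _).1 hw
  rwa [f.fiberι_asFiber x] at this

theorem finite_fibre_support {X Y : Scheme.{u}} (f : Y ⟶ X) [QuasiCompact f] (α : AlgebraicCycle Y ℤ)
    (x : X) : (⇑f ⁻¹' {x} ∩ Function.support ⇑α).Finite :=
  α.locallyFiniteSupport.finite_inter_support_of_isCompact (f.isCompact_preimage_singleton x)

/-- `p^* f_* = f'_* q^*`. -/
theorem pullFun_map {X X' Y Y' : Scheme.{u}} {f : Y ⟶ X} {p : X' ⟶ X} {q : Y' ⟶ Y} {f' : Y' ⟶ X'}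
    [IsProper f] [IsProper f'] [Flat p] [IsLocallyNoetherian X'] [IsLocallyNoetherian Y'] (hsq : IsPullback f' q p f)
    {δ : X → ℤ} {δ' : X' → ℤ} {δY : Y → ℤ} {δY' : Y' → ℤ}
    (hX' : Cyc.IsDimFun X' δ') (hf : Cyc.DeltaCompat f δY δ) {c : ℤ}
    (hc : ∀ x', FibLen.IsMaxFib p x' → δ' x' = δ (p x') + c)
    (hcY : ∀ y', FibLen.IsMaxFib q y' → δY' y' = δY (q y') + c) {k : ℤ} {α : AlgebraicCycle Y ℤ}
    (hα : α ∈ Cyc.Zk Y δY k) (α' : AlgebraicCycle Y' ℤ)
    (hα' : ⇑α' = Cyc.pullFun q δY' δY c ⇑α) :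
    Cyc.pullFun p δ' δ c ⇑(AlgebraicCycle.map f δY δ α) = ⇑(AlgebraicCycle.map f' δY' δ' α') := by
  classical
  funext x'
  rw [FibLen.pullFun_apply, Push.map_apply, Push.map_apply]
  have hcomm : ∀ y', f (q y') = p (f' y') := fun y' => by
    rw [← Scheme.Hom.comp_apply, ← hsq.w, Scheme.Hom.comp_apply]
  by_cases hG : δ' x' = k + c ∧ δ (p x') = k ∧ FibLen.IsMaxFib p x'
  swap
  · have hR : ∑ᶠ y' ∈ ⇑f' ⁻¹' {x'}, α' y' * (AlgebraicCycle.mapCoeff f' δY' δ' y' : ℤ) = 0 := by
      refine finsum_mem_eq_zero_of_forall_eq_zero fun y' hy' => ?_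
      rw [hα', FibLen.pullFun_apply]
      by_contra hne
      have h1 := left_ne_zero_of_mul hne
      have h2 := right_ne_zero_of_mul hne
      split_ifs at h1 with h3
      swap
      · exact h1 rfl
      have hk : δY (q y') = k := by by_contra h; exact left_ne_zero_of_mul h1 (hα _ h)
      have hcoef : δY' y' = δ' (f' y') := by
        by_contra h; exact h2 (by rw [AlgebraicCycle.mapCoeff, if_neg h]; rfl)
      rw [show f' y' = x' from hy'] at hcoef
      have hle : δ (p x') ≤ k := by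
        have := Residue.deltaY_le hf (q y')
        rwa [hcomm, show f' y' = x' from hy', hk] at this
      obtain ⟨x'', hp'', hsp, hmax⟩ := exists_isMaxFib p x'
      have h4 := hc x'' hmax
      rw [hp''] at h4
      by_cases he : x'' = x'
      · exact hG ⟨by omega, by subst he; omega, he ▸ hmax⟩
      · have := (hX' x'' x' hsp he).1
        omega
    rw [hR]
    split_ifs with h
    swap
    · rfl
    by_contra hne
    refine hG ⟨?_, ?_, ?_⟩
    all_goals have hk : δ (p x') = k := by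
                by_contra hk
                refine left_ne_zero_of_mul hne (finsum_mem_eq_zero_of_forall_eq_zero fun y hy => ?_)
                rw [AlgebraicCycle.mapCoeff]
                split_ifs with h1
                · rw [hα y (fun e => hk (by rw [← e, h1, show f y = p x' from hy])), zero_mul]
                · simp
    · omega
    · exact hk
    · by_contra hm
      exact right_ne_zero_of_mul hne (by rw [FibLen.toNat_fibLen_eq_zero p x' hm]; rfl)
  obtain ⟨hx'k, hxk, hmax⟩ := hG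
  rw [if_pos (by omega)]
  let g : Y' → ℤ := fun y' => α (q y') * (((FibLen.fibLen q y').toNat : ℤ) * (f'.residueDegree y' : ℤ))
  have hterm : ∀ y' ∈ ⇑f' ⁻¹' {x'}, α' y' * (AlgebraicCycle.mapCoeff f' δY' δ' y' : ℤ) = g y' := by
    intro y' hy'
    rw [hα', FibLen.pullFun_apply]
    simp only [g]
    by_cases ha : α (q y') = 0
    · simp [ha]
    by_cases hm : FibLen.IsMaxFib q y'
    swap
    · simp [FibLen.toNat_fibLen_eq_zero q y' hm]
    have hk : δY (q y') = k := by by_contra h; exact ha (hα _ h)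
    have h1 := hcY y' hm
    rw [if_pos h1, AlgebraicCycle.mapCoeff, if_pos (by rw [show f' y' = x' from hy']; omega)]
    ring
  let S := (finite_fibre_support f α (p x')).toFinset
  have hres : ∀ y ∈ S, f y = p x' ∧ (f.residueFieldMap y).hom.Finite ∧
      (AlgebraicCycle.mapCoeff f δY δ y : ℤ) = f.residueDegree y := by
    intro y hy
    obtain ⟨hy1, hy2⟩ := (Set.Finite.mem_toFinset _).1 hy
    have hy1 : f y = p x' := hy1
    have hk : δY y = k := by by_contra h; exact hy2 (hα _ h)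
    have he : δY y = δ (f y) := by rw [hy1, hxk, hk]
    exact ⟨hy1, Residue.residueFieldMap_finite_of_trdeg_eq_zero y ((Residue.trdegAt_eq_zero_iff_eq hf y).2 he),
      by rw [AlgebraicCycle.mapCoeff, if_pos he]⟩

  have hkey : ∀ y ∈ S, _ := fun y hy =>
    BCLen.sum_fibLen hsq y (hres y hy).2.1 x' (hres y hy).1.symm hmax
  rw [finsum_mem_congr rfl hterm,
    finsum_mem_eq_sum_of_inter_support_eq (fun y => α y * (AlgebraicCycle.mapCoeff f δY δ y : ℤ))
      (t := S) ?_, Finset.sum_mul]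
  swap
  · refine Set.ext fun y => ⟨fun hy => ⟨(Set.Finite.mem_toFinset _).2 ⟨hy.1, left_ne_zero_of_mul hy.2⟩, hy.2⟩,
      fun hy => ⟨((Set.Finite.mem_toFinset _).1 hy.1).1, hy.2⟩⟩
  have hunion : ∑ᶠ y' ∈ ⇑f' ⁻¹' {x'}, g y' =
      ∑ᶠ y' ∈ ⋃ y ∈ (S : Set Y), {y' | f' y' = x' ∧ q y' = y}, g y' := by
    refine finsum_mem_inter_support_eq _ _ _ (Set.ext fun y' => ⟨fun hy' => ⟨?_, hy'.2⟩, fun hy' => ⟨?_, hy'.2⟩⟩)
    · refine Set.mem_biUnion (x := q y') ((Set.Finite.mem_toFinset _).2 ⟨?_, left_ne_zero_of_mul hy'.2⟩)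
        ⟨hy'.1, rfl⟩
      show f (q y') = p x'
      rw [hcomm, show f' y' = x' from hy'.1]
    · obtain ⟨y, -, hy, -⟩ := Set.mem_iUnion₂.1 hy'.1
      exact hy
  rw [hunion, finsum_mem_biUnion ?_ S.finite_toSet (fun y hy => (hkey y hy).1),
    finsum_mem_coe_finset]
  · refine Finset.sum_congr rfl fun y hy => ?_
    rw [(hres y hy).2.2, mul_assoc, ← (hkey y hy).2, mul_finsum_mem]
    refine finsum_mem_congr rfl fun y' hy' => ?_
    simp only [g, hy'.2]
  · intro a _ b _ hab
    exact Set.disjoint_left.2 fun y' h1 h2 => hab (h1.2.symm.trans h2.2)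

end Groth.Agent.Lib.Cyc.CH.BaseChange
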