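import Groth.Agent.Lib.Cyc.CH.Square
import Groth.Agent.Lib.Cyc.CH.BaseChange

/-!
# Chern operators and proper pushforward
-/

set_option autoImplicit false
set_option linter.style.haveILetI false
universe u

open CategoryTheory AlgebraicGeometry

noncomputable section

namespace Groth.Agent.Lib.Cyc.CH

open Groth.Agent.Lib Groth.Agent.Lib.Cyc

section BC

variable {X X' Y Y' : Scheme.{u}} {f : Y ⟶ X} {p : X' ⟶ X} {q : Y' ⟶ Y} {f' : Y' ⟶ X'}
  {δ : X → ℤ} {δ' : X' → ℤ} {δY : Y → ℤ} {δY' : Y' → ℤ}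
  [IsLocallyNoetherian X] [IsLocallyNoetherian X'] [IsLocallyNoetherian Y] [IsLocallyNoetherian Y']

/-- Base change as operators. -/
theorem pull_push (hX : Cyc.IsDimFun X δ) (hX' : Cyc.IsDimFun X' δ') (hY : Cyc.IsDimFun Y δY)
    (hY' : Cyc.IsDimFun Y' δY') [IsProper f] [IsProper f'] [Flat p] [Flat q] (hsq : IsPullback f' q p f)
    (hf : Cyc.DeltaCompat f δY δ) (hf' : Cyc.DeltaCompat f' δY' δ') {c : ℤ}
    (hc : FP.Main.Shift p δ' δ c) (hc' : FP.Main.Shift q δY' δY c) (x : Tot Y δY) :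
    pull hX' hX p hc (push hY hX f hf x) = push hY' hX' f' hf' (pull hY' hY q hc' x) := by
  refine DFunLike.congr_fun (hom_ext (A := (pull hX' hX p hc).comp (push hY hX f hf))
    (B := (push hY' hX' f' hf').comp (pull hY' hY q hc')) fun k α hα => ?_) x
  show pull hX' hX p hc (push hY hX f hf _) = push hY' hX' f' hf' (pull hY' hY q hc' _)
  obtain ⟨a, ha, a1⟩ := PullExists.exists_pullFun (δX := δY') q c hα
  obtain ⟨b, hb, b1⟩ := PullExists.exists_pullFun (δX := δ') p c (map_mem (δY := δ) f hα)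
  rw [push_cls hY hX f hf hα rfl (map_mem f hα), pull_cls hX' hX p hc (map_mem f hα) rfl hb b1,
    pull_cls hY' hY q hc' hα rfl ha a1, push_cls hY' hX' f' hf' ha rfl (map_mem f' ha)]
  exact cls_congr rfl (b1.trans (BaseChange.pullFun_map hsq hX' hf hc hc' hα a a1))

end BC

variable {X Y P P' : Scheme.{u}} {π : P ⟶ Y} {π' : P' ⟶ X} {f : X ⟶ Y} {f' : P' ⟶ P}
  {δP : P → ℤ} {δY : Y → ℤ} {δP' : P' → ℤ} {δ : X → ℤ}
  [IsLocallyNoetherian X] [IsLocallyNoetherian P] [IsLocallyNoetherian Y] [IsLocallyNoetherian P']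
  [IsProper π] [IsProper π'] {O1 : P.Modules} {n : ℕ} (B : Bdl π O1 n δP δY)

/-- Chern operators commute with proper pushforward. -/
theorem Bdl.push_ch [IsProper f] [IsProper f'] (hsq : IsPullback f' π' π f)
    (B' : Bdl π' ((Scheme.Modules.pullback f').obj O1) n δP' δ) (hf : Cyc.DeltaCompat f δ δY)
    (j : ℕ) (x : Tot X δ) :
    push B'.dimX B.dimX f hf (B'.ch j x) = B.ch j (push B'.dimX B.dimX f hf x) := by
  have hf' : Cyc.DeltaCompat f' δP' δP := deltaCompat_of_comm hsq.w B.compat B'.compat hf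
  have := B.flat
  have := B'.flat
  exact B'.intertwine B _ (push B'.dimP B.dimP f' hf') (fun z => push_c1 B'.dimP B.dimP f' hf' B.inv z)
    (fun z => (pull_push B.dimX B.dimP B'.dimX B'.dimP hsq hf hf' B.shift B'.shift z).symm) j x

end Groth.Agent.Lib.Cyc.CH
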