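import Groth.Agent.Lib.Cyc.CH.MovePt
import Groth.Agent.Lib.Cyc.CH.DegEquiv
import Groth.Agent.Lib.Cyc.CH.Setup
import Groth.Agent.Lib.Cyc.AffFib.Affine
import Groth.Agent.Lib.ProjSpace.Dim
import Groth.Agent.Lib.PointDim.Basic
import Groth.Agent.H34.SplitP1.Chart
import Groth.Agent.Lib.Cyc.KroneckerUnique
import Groth.Agent.S1863

/-!
# Closed points on rational curves are rationally equivalent as zero-cycles
-/

set_option autoImplicit false
set_option linter.style.haveILetI false
universe u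

open CategoryTheory AlgebraicGeometry IsLocalRing

noncomputable section

namespace Groth.Agent.Lib.Cyc.CH.RatConn

open Groth.Agent.Lib Groth.Agent.Lib.Cyc Groth.Agent.H34.SplitP1

variable {k : Type u} [Field k]

open scoped Classical in
/-- The cycle of a point. -/
def pc {X : Scheme.{u}} (x : X) : AlgebraicCycle X ℤ := Function.locallyFinsuppWithin.single x 1

theorem pc_apply {X : Scheme.{u}} (x z : X) : pc x z = Set.indicator {x} 1 z := by
  classical
  show (Pi.single x (1 : ℤ) : X → ℤ) z = _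
  by_cases h : z = x
  · subst h; simp
  · simp [h, Set.indicator_of_notMem (s := ({x} : Set X)) (a := z) h]

theorem pc_mem {X : Scheme.{u}} {δ : X → ℤ} {d : ℤ} {x : X} (h : δ x = d) : pc x ∈ Cyc.Zk X δ d :=
  fun z hz => by
    rw [pc_apply]
    exact Set.indicator_of_notMem (fun e => hz (by rw [Set.mem_singleton_iff.1 e]; exact h)) _

/-- Off the first chart of the projective line there is at most one point. -/
theorem eq_of_not_mem {x y : P1 k} (hx : x ∉ U k 0) (hy : y ∉ U k 0) : x = y := by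
  have hcov : ∀ z : P1 k, z ∉ U k 0 → z ∈ U k 1 := fun z hz => by
    have h : z ∈ ⨆ i : Fin 2, U k i := by
      have e := Groth.Agent.Lib.ProjSpace.Basic.iSup_basicOpen_X_eq_top 1 k
      change (⨆ i : Fin 2, U k i) = ⊤ at e
      rw [e]; trivial
    rw [TopologicalSpace.Opens.mem_iSup] at h
    obtain ⟨i, hi⟩ := h
    fin_cases i
    · exact absurd hi hz
    · exact hi
  have hU : IsAffineOpen (U k 1) := Groth.Agent.Lib.ProjSpace.Basic.isAffineOpen_basicOpen_X (R := k) 1
  let I : ∀ z : P1 k, z ∈ U k 1 → Ideal (Polynomial k) := fun z hz =>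
    (hU.primeIdealOf ⟨z, hz⟩).asIdeal.comap (φ k 1)
  have key : ∀ z (hz : z ∉ U k 0), I z (hcov z hz) = Ideal.span {Polynomial.X} := fun z hz => by
    haveI : (Ideal.span {(Polynomial.X : Polynomial k)}).IsMaximal :=
      PrincipalIdealRing.isMaximal_of_irreducible Polynomial.irreducible_X
    refine (Ideal.IsMaximal.eq_of_le inferInstance (Ideal.IsPrime.ne_top inferInstance)
      ((Ideal.span_singleton_le_iff_mem _).2 ?_)).symm
    refine (FieldDim.mem_primeIdealOf_iff hU (hcov z hz) _).2 ?_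
    by_contra hne
    have h := (Scheme.evaluation_ne_zero_iff_mem_basicOpen (P1 k) z (hcov z hz) _).1 hne
    rw [basicOpen_φ_X_eq_U01] at h
    exact hz h.1
  have hI : I x (hcov x hx) = I y (hcov y hy) := (key x hx).trans (key y hy).symm
  have h2 : hU.primeIdealOf ⟨x, hcov x hx⟩ = hU.primeIdealOf ⟨y, hcov y hy⟩ :=
    PrimeSpectrum.ext (Ideal.comap_injective_of_surjective (φ k 1) (φ_bijective k 1).2 hI)
  have := congrArg hU.fromSpec h2
  rwa [hU.fromSpec_primeIdealOf, hU.fromSpec_primeIdealOf] at this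

theorem delta_closed {X : Scheme.{u}} (f : X ⟶ Spec (CommRingCat.of k)) [LocallyOfFiniteType f]
    {x : X} (hx : FieldDim.fdelta f x = 0) : IsClosed ({x} : Set X) := by
  rw [← closure_eq_iff_isClosed]
  refine Set.Subset.antisymm (fun y hy => ?_) subset_closure
  by_contra hne
  have h1 := DimFun.lt_of_specializes (FieldDim.isDimFun_fdelta f) (specializes_iff_mem_closure.2 hy)
    fun e => hne e.symm
  have := FieldDim.fdelta_nonneg f y
  omega

theorem deltaCompat_fdelta {X : Scheme.{u}} (f : X ⟶ Spec (CommRingCat.of k)) [LocallyOfFiniteType f] :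
    Cyc.DeltaCompat f (FieldDim.fdelta f) fun _ => 0 := fun x =>
  ⟨(FieldDim.fdelta f x).toNat, FieldDim.trdegAt_eq_fdelta f x, by
    have := FieldDim.fdelta_nonneg f x
    show FieldDim.fdelta f x = 0 + _
    omega⟩

variable [IsAlgClosed k]

/-- Two closed points of the projective line are rationally equivalent. -/
theorem p1_ratEquiv {p q : P1 k} (hp : IsClosed ({p} : Set (P1 k))) (hq : IsClosed ({q} : Set (P1 k))) :
    Cyc.RatEquiv (FieldDim.fdelta (CohB1.ProjSpace.toSpec 1 k)) 0 (pc p) (pc q) := by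
  classical
  let t := CohB1.ProjSpace.toSpec 1 k
  haveI : IsProper t := Groth.Agent.Lib.ProjSpace.Basic.isProper_toSpec 1 k
  haveI : IsLocallyNoetherian (P1 k) := LocallyOfFiniteType.isLocallyNoetherian t
  let δ := FieldDim.fdelta t
  have hd : Cyc.IsDimFun (P1 k) δ := FieldDim.isDimFun_fdelta t
  have hδ : Cyc.DeltaCompat t δ fun _ => 0 := deltaCompat_fdelta t
  have hS : Cyc.IsSetup (P1 k) δ := isSetup_of_deltaCompat t (Kunneth.setup_pt (k := k)) hδ
  let V := U k 0
  have hV : IsAffineOpen V := Groth.Agent.Lib.ProjSpace.Basic.isAffineOpen_basicOpen_X (R := k) 0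
  haveI : IsAffine (V : Scheme.{u}) := hV
  haveI : CompactSpace (V : Scheme.{u}) := inferInstance
  haveI : IsLocallyNoetherian (V : Scheme.{u}) := LocallyOfFiniteType.isLocallyNoetherian (V.ι ≫ t)
  haveI : Nonempty (V : Scheme.{u}) := by
    by_contra h
    have hbot : V = ⊥ := le_bot_iff.1 fun x hx => (h ⟨⟨x, hx⟩⟩).elim
    haveI : Subsingleton Γ(P1 k, V) := by rw [hbot]; infer_instance
    exact Polynomial.X_ne_zero (R := k) ((φ_bijective k 0).1 (Subsingleton.elim (φ k 0 Polynomial.X) (φ k 0 0)))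
  haveI : IsPrincipalIdealRing Γ((V : Scheme.{u}), ⊤) :=
    IsPrincipalIdealRing.of_surjective ((V.topIso).inv.hom.comp (φ k 0))
      ((ConcreteCategory.bijective_of_isIso V.topIso.inv).2.comp (φ_bijective k 0).2)
  have hdV : Cyc.IsDimFun (V : Scheme.{u}) (fun u => δ (V.ι u)) := PP.OpenImm.isDimFun V.ι hd
  have key : ∀ r : P1 k, IsClosed ({r} : Set (P1 k)) → ∃ γ : AlgebraicCycle (P1 k) ℤ,
      (∀ x, x ∈ V → γ x = 0) ∧ γ ∈ Cyc.Zk (P1 k) δ 0 ∧ Cyc.RatEquiv δ 0 (pc r) γ := fun r hr => by
    have hr0 : δ r = 0 := FieldDim.fdelta_of_isClosed t r hr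
    let a : AlgebraicCycle (V : Scheme.{u}) ℤ := if h : r ∈ V then pc (⟨r, h⟩ : ↥(V : Scheme.{u})) else 0
    have ha : ∀ u : ↥(V : Scheme.{u}), a u = pc r (V.ι u) := fun u => by
      show (if h : r ∈ V then pc (⟨r, h⟩ : ↥(V : Scheme.{u})) else 0 : AlgebraicCycle (V : Scheme.{u}) ℤ) u = pc r u.1
      by_cases h : r ∈ V
      · let v : ↥(V : Scheme.{u}) := ⟨r, h⟩
        rw [dif_pos h, pc_apply, pc_apply]
        change Set.indicator {v} 1 u = _
        by_cases e : u.1 = r
        · rw [Set.indicator_of_mem (show u ∈ ({v} : Set ↥(V : Scheme.{u})) from Subtype.ext e),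
            Set.indicator_of_mem (show u.1 ∈ ({r} : Set (P1 k)) from e)]
          rfl
        · rw [Set.indicator_of_notMem (show u ∉ ({v} : Set ↥(V : Scheme.{u})) from fun e' => e (congrArg Subtype.val e')),
            Set.indicator_of_notMem (show u.1 ∉ ({r} : Set (P1 k)) from e)]
      · rw [dif_neg h, pc_apply, Set.indicator_of_notMem (show u.1 ∉ ({r} : Set (P1 k)) from
          fun (e : u.1 = r) => h (e ▸ u.2))]
        rfl
    have haZ : a ∈ Cyc.Zk (V : Scheme.{u}) (fun u => δ (V.ι u)) 0 := fun u hu => by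
      rw [ha u]
      exact pc_mem hr0 _ hu
    have hkill : Cyc.RatEquivZero (fun u : ↥(V : Scheme.{u}) => δ (V.ι u)) 0 a :=
      AffFib.Affine.ratEquivZero_of_killedAt hdV haZ fun u hu => by
        refine AffFib.Kill.killsAll_pid _ hdV u fun hmax => ?_
        have h1 : u.1 = r := by
          by_contra e
          rw [ha u] at hu
          exact hu (by rw [pc_apply]; exact Set.indicator_of_notMem (show u.1 ∉ ({r} : Set (P1 k)) from e) _)
        have h2 : u = genericPoint (V : Scheme.{u}) := (hmax _ (genericPoint_specializes u)).symm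
        have h3 : V.ι (genericPoint (V : Scheme.{u})) = genericPoint (P1 k) :=
          genericPoint_eq_of_isOpenImmersion V.ι
        have h4 : genericPoint (P1 k) = r := by rw [← h3, ← h2]; exact h1
        have h5 := FieldDim.topologicalKrullDim_closure t (genericPoint (P1 k))
        rw [show closure ({genericPoint (P1 k)} : Set (P1 k)) = Set.univ from genericPoint_spec _,
          IsHomeomorph.topologicalKrullDim_eq _ (Homeomorph.Set.univ _).isHomeomorph,
          ProjSpace.Dim.topologicalKrullDim_projSpace 1 k, ringKrullDim_eq_zero_of_field] at h5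
        rw [show FieldDim.fdelta t (genericPoint (P1 k)) = 0 from h4.symm ▸ hr0] at h5
        norm_num at h5
    obtain ⟨γ, hγZ, hγ, hrel⟩ := Groth.Agent.S1863.result (P1 k) δ hS V 0 (pc r) 0 (pc_mem hr0)
      (fun _ _ => rfl) a 0 ha (fun _ => rfl) (by
        show Cyc.RatEquivZero _ 0 (a - 0)
        rwa [sub_zero])
    rw [zero_add] at hrel
    exact ⟨γ, hγ, hγZ, hrel⟩
  have hdeg : ∀ (γ : AlgebraicCycle (P1 k) ℤ) (z : P1 k), γ ∈ Cyc.Zk (P1 k) δ 0 →
      (∀ x, x ≠ z → γ x = 0) → ChowOps.deg t δ γ = γ z := fun γ z hγ hz => by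
    haveI : Subsingleton ↥(Spec (CommRingCat.of k)) := inferInstanceAs (Subsingleton (PrimeSpectrum k))
    unfold ChowOps.deg
    rw [Push.map_apply, finsum_eq_single _ z fun x hx => by simp [hz x hx]]
    rw [finsum_eq_if]
    split_ifs with hm
    swap
    · exact absurd (Subsingleton.elim (α := ↥(Spec (CommRingCat.of k))) _ _) hm
    by_cases h0 : γ z = 0
    · rw [h0, zero_mul]
    · have hz0 : δ z = 0 := by
        by_contra e
        exact h0 (hγ z e)
      rw [AlgebraicCycle.mapCoeff, if_pos hz0, PointDim.Basic.residueDegree_of_isClosed t z (delta_closed t hz0)]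
      simp
  obtain ⟨γp, hp1, hp2, hp3⟩ := key p hp
  obtain ⟨γq, hq1, hq2, hq3⟩ := key q hq
  have hd1 : ∀ r, IsClosed ({r} : Set (P1 k)) → ChowOps.deg t δ (pc r) = 1 := fun r hr => by
    rw [hdeg _ r (pc_mem (FieldDim.fdelta_of_isClosed t r hr)) fun x hx => by
      rw [pc_apply]; exact Set.indicator_of_notMem (show x ∉ ({r} : Set (P1 k)) from hx) _, pc_apply]
    simp
  have heq : γp = γq := Function.locallyFinsuppWithin.ext fun x => by
    by_cases hx : x ∈ V
    · rw [hp1 x hx, hq1 x hx]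
    · have hone : ∀ γ : AlgebraicCycle (P1 k) ℤ, γ ∈ Cyc.Zk (P1 k) δ 0 → (∀ y, y ∈ V → γ y = 0) →
          ChowOps.deg t δ γ = γ x := fun γ h1 h2 => hdeg γ x h1 fun y hy => h2 y (by
        by_contra hy'
        exact hy (eq_of_not_mem hy' hx))
      rw [← hone γp hp2 hp1, ← hone γq hq2 hq1, ← deg_congr t hd hδ hp3, ← deg_congr t hd hδ hq3,
        hd1 p hp, hd1 q hq]
  subst heq
  exact Ord.ratEquiv_trans hp3 (Ord.ratEquiv_symm hd hq3)

/-- The image of a closed point under a morphism to a separated `k`-scheme. -/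
theorem map_pc {X Y : Scheme.{u}} (g : X ⟶ Y) (fY : Y ⟶ Spec (CommRingCat.of k)) [LocallyOfFiniteType fY]
    (f : X ⟶ Spec (CommRingCat.of k)) [LocallyOfFiniteType f] [IsProper g] (hg : g ≫ fY = f)
    {x : X} (hx : IsClosed ({x} : Set X)) :
    AlgebraicCycle.map g (FieldDim.fdelta f) (FieldDim.fdelta fY) (pc x) = pc (g x) := by
  classical
  have hy : IsClosed ({g x} : Set Y) := by
    rw [← Set.image_singleton]
    exact g.isClosedMap _ hx
  refine Function.locallyFinsuppWithin.ext fun y => ?_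
  rw [Push.map_apply, pc_apply, finsum_eq_single _ x fun z hz => by
    simp [pc_apply, Set.indicator_of_notMem (show z ∉ ({x} : Set X) from hz)]]
  rw [finsum_eq_if]
  by_cases e : y = g x
  · subst e
    rw [Set.indicator_of_mem (Set.mem_singleton _), if_pos (show x ∈ ⇑g ⁻¹' {g x} from rfl), pc_apply,
      Set.indicator_of_mem (Set.mem_singleton _), AlgebraicCycle.mapCoeff,
      if_pos ((FieldDim.fdelta_of_isClosed f x hx).trans (FieldDim.fdelta_of_isClosed fY (g x) hy).symm)]
    have hs : Function.Surjective (g.residueFieldMap x).hom := fun c => by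
      obtain ⟨a, ha⟩ := (PointDim.Basic.kToRes_bijective_of_isClosed f x hx).2 c
      rw [PointDim.Basic.kToRes_comp g fY f hg x] at ha
      exact ⟨_, ha⟩
    rw [Residue.residueDegree_eq_one_of_surjective x hs]
    rfl
  · rw [Set.indicator_of_notMem (show y ∉ ({g x} : Set Y) from e), if_neg (show x ∉ ⇑g ⁻¹' {y} from fun h => e (Eq.symm h))]

/-- Two closed points of a rational curve are rationally equivalent. -/
theorem curve_ratEquiv {X : Scheme.{u}} (fX : X ⟶ Spec (CommRingCat.of k)) [IsProper fX]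
    (g : P1 k ⟶ X) (hg : g ≫ fX = CohB1.ProjSpace.toSpec 1 k) {a b : X}
    (ha : IsClosed ({a} : Set X)) (hb : IsClosed ({b} : Set X))
    (har : a ∈ Set.range g) (hbr : b ∈ Set.range g) :
    Cyc.RatEquiv (FieldDim.fdelta fX) 0 (pc a) (pc b) := by
  haveI : IsProper (g ≫ fX) := by rw [hg]; exact Groth.Agent.Lib.ProjSpace.Basic.isProper_toSpec 1 k
  haveI : IsProper g := IsProper.of_comp g fX
  let t := CohB1.ProjSpace.toSpec 1 k
  haveI : IsProper t := Groth.Agent.Lib.ProjSpace.Basic.isProper_toSpec 1 k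
  haveI : CompactSpace (P1 k) := QuasiCompact.compactSpace_of_compactSpace t
  have hpre : ∀ c : X, IsClosed ({c} : Set X) → c ∈ Set.range g →
      ∃ c' : P1 k, IsClosed ({c'} : Set (P1 k)) ∧ g c' = c := fun c hc ⟨d, hd⟩ => by
    obtain ⟨c', hc1, hc2⟩ := (hc.preimage g.continuous).exists_closed_singleton ⟨d, hd⟩
    exact ⟨c', hc2, hc1⟩
  obtain ⟨a', ha', rfl⟩ := hpre a ha har
  obtain ⟨b', hb', rfl⟩ := hpre b hb hbr
  have hcomp : Cyc.DeltaCompat g (FieldDim.fdelta t) (FieldDim.fdelta fX) := fun x => by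
    have h1 := FieldDim.trdegAt_eq_fdelta t x
    have h2 := FieldDim.trdegAt_eq_fdelta fX (g x)
    rw [show Residue.trdegAt t x = Residue.trdegAt (g ≫ fX) x from FieldDim.trdegAt_congr hg.symm x,
      Residue.trdegAt_comp, h2] at h1
    obtain ⟨n, hn⟩ := Cardinal.lt_aleph0.1 (lt_of_le_of_lt (le_add_self (a := Residue.trdegAt g x)
      (b := ((FieldDim.fdelta fX (g x)).toNat : Cardinal))) (h1 ▸ Cardinal.natCast_lt_aleph0))
    refine ⟨n, hn, ?_⟩
    rw [hn] at h1
    have h3 : (FieldDim.fdelta fX (g x)).toNat + n = (FieldDim.fdelta t x).toNat := by exact_mod_cast h1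
    have := FieldDim.fdelta_nonneg fX (g x)
    have := FieldDim.fdelta_nonneg t x
    omega
  haveI : IsLocallyNoetherian (P1 k) := LocallyOfFiniteType.isLocallyNoetherian t
  haveI : IsLocallyNoetherian X := LocallyOfFiniteType.isLocallyNoetherian fX
  have h := PP.Main.ratEquivZero_map g (FieldDim.isDimFun_fdelta t) (FieldDim.isDimFun_fdelta fX) hcomp
    (p1_ratEquiv ha' hb')
  have e : AlgebraicCycle.map g (FieldDim.fdelta t) (FieldDim.fdelta fX) (pc a' - pc b') =
      pc (g a') - pc (g b') := Function.locallyFinsuppWithin.ext fun y => by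
    rw [PP.Div.map_sub_apply, map_pc g fX t hg ha', map_pc g fX t hg hb']
    rfl
  unfold Cyc.RatEquiv
  rwa [← e]

end Groth.Agent.Lib.Cyc.CH.RatConn
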