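import Groth.Agent.Lib.Cyc.CH.BlowPtFibre

/-!
# `CH₀` is unchanged by blowing up a closed point
-/

set_option autoImplicit false
set_option linter.style.haveILetI false
universe u

open CategoryTheory CategoryTheory.Limits AlgebraicGeometry TopologicalSpace

noncomputable section

namespace Groth.Agent.Lib.Cyc.CH.BlowPt

open Groth.Agent.Lib Groth.Agent.Lib.Cyc Groth.Agent.Lib.Cyc.CH.RatConn

variable {k : Type u} [Field k] [IsAlgClosed k] {X X' : Scheme.{u}}

/-- A finitely supported function as a cycle. -/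
def mkCyc (F : X → ℤ) (h : (Function.support F).Finite) : AlgebraicCycle X ℤ where
  toFun := F
  supportWithinDomain' := Set.subset_univ _
  supportLocallyFiniteWithinDomain' _ _ :=
    ⟨Set.univ, Filter.univ_mem, h.subset Set.inter_subset_right⟩

omit [IsAlgClosed k] in
theorem finite_support [CompactSpace X] (α : AlgebraicCycle X ℤ) : (Function.support ⇑α).Finite := by
  simpa using α.locallyFiniteSupport.finite_inter_support_of_isCompact isCompact_univ

omit [IsAlgClosed k] in
theorem finite_support_divFun [IsLocallyNoetherian X] [CompactSpace X] {δ : X → ℤ}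
    (hδ : Cyc.IsDimFun X δ) (ξ : X) (f : X.residueField ξ) :
    (Function.support (Cyc.divFun δ ξ f)).Finite := by
  choose U hU hxU hfin using Ord.exists_open_finite_divFun hδ ξ f
  obtain ⟨t, ht⟩ := isCompact_univ.elim_finite_subcover U hU fun x _ => Set.mem_iUnion.2 ⟨x, hxU x⟩
  refine (t.finite_toSet.biUnion fun x _ => hfin x).subset fun z hz => ?_
  obtain ⟨x, hx, hzx⟩ := Set.mem_iUnion₂.1 (ht (Set.mem_univ z))
  exact Set.mem_biUnion hx ⟨hzx, hz⟩

variable (pX : X ⟶ Spec (CommRingCat.of k)) [IsProper pX] [Smooth pX] [IsIntegral X] {x : X}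
  (hx : IsClosed ({x} : Set X)) (hne : genericPoint X ≠ x) (b : X' ⟶ X)
  (hb : BlowUp.IsBlowUp b (Scheme.IdealSheafData.vanishingIdeal ⟨{x}, hx⟩))

include pX hne hb in
theorem surjective : Function.Surjective ⇑b := by
  obtain ⟨hint, hgen⟩ := isIntegral_generic pX hx b hb hne
  haveI := isProper pX hx b hb
  intro y
  have h : closure {genericPoint X} ⊆ Set.range b :=
    b.isClosedMap.isClosed_range.closure_subset_iff.2 (Set.singleton_subset_iff.2 ⟨_, hgen⟩)
  exact h (specializes_iff_mem_closure.1 (genericPoint_specializes y))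

include hne hb in
/-- Every zero-cycle downstairs is a push-forward. -/
theorem exists_lift (α : AlgebraicCycle X ℤ) (hα : α ∈ Cyc.Zk X (FieldDim.fdelta pX) 0) [QuasiCompact b] :
    ∃ z : AlgebraicCycle X' ℤ, z ∈ Cyc.Zk X' (FieldDim.fdelta (b ≫ pX)) 0 ∧
      AlgebraicCycle.map b (FieldDim.fdelta (b ≫ pX)) (FieldDim.fdelta pX) z = α := by
  classical
  haveI := isProper pX hx b hb
  haveI : CompactSpace X := QuasiCompact.compactSpace_of_compactSpace pX
  have hpre : ∀ y : X, ∃ y' : X', b y' = y ∧ (IsClosed ({y} : Set X) → IsClosed ({y'} : Set X')) := by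
    intro y
    obtain ⟨y', hy'⟩ := surjective pX hx hne b hb y
    by_cases hy : IsClosed ({y} : Set X)
    · haveI : CompactSpace X' := QuasiCompact.compactSpace_of_compactSpace (b ≫ pX)
      obtain ⟨c, h1, h2⟩ := (hy.preimage b.continuous).exists_closed_singleton ⟨y', hy'⟩
      exact ⟨c, h1, fun _ => h2⟩
    · exact ⟨y', hy', fun h => absurd h hy⟩
  choose sec hsec hsecc using hpre
  have hcl : ∀ y, α y ≠ 0 → IsClosed ({y} : Set X) := fun y hy =>
    delta_closed pX (by by_contra h; exact hy (hα y h))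
  let F : X' → ℤ := fun y' => if sec (b y') = y' then α (b y') else 0
  have hF : (Function.support F).Finite := ((finite_support α).image sec).subset fun y' hy' => by
    by_cases h : sec (b y') = y'
    · exact ⟨b y', by simpa [F, h] using hy', h⟩
    · simp [F, h] at hy'
  have hzero : ∀ y' : X', F y' ≠ 0 → sec (b y') = y' ∧ α (b y') ≠ 0 := fun y' hy' => by
    by_cases h : sec (b y') = y'
    · exact ⟨h, by simpa [F, h] using hy'⟩
    · simp [F, h] at hy'
  refine ⟨mkCyc F hF, fun y' hy' => ?_, Function.locallyFinsuppWithin.ext fun y => ?_⟩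
  · by_contra h
    obtain ⟨h1, h2⟩ := hzero y' h
    exact hy' (FieldDim.fdelta_of_isClosed _ _ (h1 ▸ hsecc _ (hcl _ h2)))
  rw [Push.map_apply, finsum_eq_single _ (sec y) fun z hz => by
    rw [finsum_eq_if]
    split_ifs with hm
    · change F z * _ = 0
      rw [show F z = 0 from if_neg fun h => hz (by rw [← h, show b z = y from hm]), zero_mul]
    · rfl]
  rw [finsum_eq_if, if_pos (show sec y ∈ ⇑b ⁻¹' {y} from hsec y)]
  change F (sec y) * _ = _
  rw [show F (sec y) = α y from by simp [F, hsec y]]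
  by_cases h0 : α y = 0
  · rw [h0, zero_mul]
  have hy := hcl y h0
  have hs : Function.Surjective (b.residueFieldMap (sec y)).hom := fun c => by
    obtain ⟨a, ha⟩ := (PointDim.Basic.kToRes_bijective_of_isClosed (b ≫ pX) (sec y) (hsecc y hy)).2 c
    rw [PointDim.Basic.kToRes_comp b pX (b ≫ pX) rfl] at ha
    exact ⟨_, ha⟩
  rw [AlgebraicCycle.mapCoeff, if_pos ((FieldDim.fdelta_of_isClosed _ _ (hsecc y hy)).trans
    (FieldDim.fdelta_of_isClosed pX (b (sec y)) ((hsec y).symm ▸ hy)).symm),
    Residue.residueDegree_eq_one_of_surjective _ hs]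
  simp

include hne hb in
/-- A zero-cycle whose push-forward is rationally zero is rationally zero. -/
theorem ratEquivZero_of_map [QuasiCompact b] (z : AlgebraicCycle X' ℤ)
    (hz : z ∈ Cyc.Zk X' (FieldDim.fdelta (b ≫ pX)) 0)
    (h : Cyc.RatEquivZero (FieldDim.fdelta pX) 0
      (AlgebraicCycle.map b (FieldDim.fdelta (b ≫ pX)) (FieldDim.fdelta pX) z)) :
    Cyc.RatEquivZero (FieldDim.fdelta (b ≫ pX)) 0 z := by
  classical
  haveI := isProper pX hx b hb
  haveI : IsLocallyNoetherian X := LocallyOfFiniteType.isLocallyNoetherian pX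
  haveI : IsLocallyNoetherian X' := LocallyOfFiniteType.isLocallyNoetherian (b ≫ pX)
  haveI : CompactSpace X := QuasiCompact.compactSpace_of_compactSpace pX
  haveI : CompactSpace X' := QuasiCompact.compactSpace_of_compactSpace (b ≫ pX)
  let δ := FieldDim.fdelta pX
  let δ' := FieldDim.fdelta (b ≫ pX)
  have hd : Cyc.IsDimFun X δ := FieldDim.isDimFun_fdelta pX
  have hd' : Cyc.IsDimFun X' δ' := FieldDim.isDimFun_fdelta (b ≫ pX)
  obtain ⟨ι, ξ, f, hξ, hf, hlf, hsum⟩ := h
  haveI : Finite ι := by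
    choose U hU hxU hfin using hlf
    obtain ⟨t, ht⟩ := isCompact_univ.elim_finite_subcover U hU fun y _ => Set.mem_iUnion.2 ⟨y, hxU y⟩
    exact Set.finite_univ_iff.1 <| (t.finite_toSet.biUnion fun y _ => hfin y).subset fun n _ => by
      obtain ⟨y, hy, hyn⟩ := Set.mem_iUnion₂.1 (ht (Set.mem_univ (ξ n)))
      exact Set.mem_biUnion hy ⟨ξ n, subset_closure rfl, hyn⟩
  let U0 : X.Opens := (Scheme.IdealSheafData.vanishingIdeal ⟨{x}, hx⟩).support.compl
  have hU0 : ∀ y, y ∈ U0 ↔ y ≠ x := fun y => by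
    show y ∉ ((Scheme.IdealSheafData.vanishingIdeal ⟨{x}, hx⟩).support : Set X) ↔ _
    rw [Scheme.IdealSheafData.coe_support_vanishingIdeal]
    exact Iff.rfl
  haveI := Lib.Ideal.BlowUp.isIso_off_center hb
  let U' : X'.Opens := b ⁻¹ᵁ U0
  let j : (U' : Scheme.{u}) ⟶ X := U'.ι ≫ b
  haveI : IsOpenImmersion j := by
    show IsOpenImmersion (U'.ι ≫ b)
    rw [← morphismRestrict_ι]
    infer_instance
  haveI : IsLocallyNoetherian (U' : Scheme.{u}) := LocallyOfFiniteType.isLocallyNoetherian (U'.ι ≫ b ≫ pX)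
  have hjr : ∀ y, y ≠ x → ∃ u : ↥(U' : Scheme.{u}), j u = y := fun y hy => by
    obtain ⟨y', rfl⟩ := surjective pX hx hne b hb y
    exact ⟨⟨y', (hU0 _).2 hy⟩, rfl⟩
  have hres : ∀ u : ↥(U' : Scheme.{u}), Function.Bijective (j.residueFieldMap u).hom := PP.OpenImm.residue_bijective j
  have hres' : ∀ u : ↥(U' : Scheme.{u}), Function.Bijective (U'.ι.residueFieldMap u).hom :=
    PP.OpenImm.residue_bijective U'.ι
  have hδu : ∀ u : ↥(U' : Scheme.{u}), δ (j u) = δ' (U'.ι u) := fun u => by
    show ((Residue.trdegAt pX (b (U'.ι u))).toNat : ℤ) = ((Residue.trdegAt (b ≫ pX) (U'.ι u)).toNat : ℤ)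
    have h0 : Residue.trdegAt b (U'.ι u) = 0 := by
      have := Residue.trdegAt_comp U'.ι b u
      rw [FieldDim.trdegAt_eq_zero_of_surjective (f := U'.ι) u (hres' u).2, add_zero] at this
      rw [← this]
      exact FieldDim.trdegAt_eq_zero_of_surjective (f := j) u (hres u).2
    rw [Residue.trdegAt_comp, h0, add_zero]
  have hξx : ∀ n, ξ n ≠ x := fun n e => by
    have h1 := hξ n
    rw [e] at h1
    rw [FieldDim.fdelta_of_isClosed pX x hx] at h1
    omega
  choose v hv using fun n => hjr (ξ n) (hξx n)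
  have hlift : ∀ (u : ↥(U' : Scheme.{u})) (y : X) (g : X.residueField y), j u = y → g ≠ 0 →
      ∃ g' : X'.residueField (U'.ι u), g' ≠ 0 ∧
        ∀ w : ↥(U' : Scheme.{u}), Cyc.divFun δ' (U'.ι u) g' (U'.ι w) = Cyc.divFun δ y g (j w) := by
    rintro u _ g rfl hg
    obtain ⟨g', hg'⟩ := (hres' u).2 (j.residueFieldMap u g)
    refine ⟨g', fun e => hg ?_, fun w => ?_⟩
    · apply (hres u).1
      rw [← hg', e, map_zero]
      exact (map_zero _).symm
    · rw [← PP.OpenImm.divFun_map j hd (PP.OpenImm.isDimFun j hd) u g w,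
        ← PP.OpenImm.divFun_map U'.ι hd' (PP.OpenImm.isDimFun U'.ι hd') u g' w, hg']
      rw [show (fun a => δ' (U'.ι a)) = fun a => δ (j a) from funext fun a => (hδu a).symm]
  choose g hg hgdiv using fun n => hlift (v n) (ξ n) (f n) (hv n) (hf n)
  haveI : Fintype ι := Fintype.ofFinite ι
  let F : X' → ℤ := fun y => ∑ n, Cyc.divFun δ' (U'.ι (v n)) (g n) y
  have hF : (Function.support F).Finite :=
    (Set.finite_iUnion fun n => finite_support_divFun hd' (U'.ι (v n)) (g n)).subset fun y hy => by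
      obtain ⟨n, -, hn⟩ := Finset.exists_ne_zero_of_sum_ne_zero hy
      exact Set.mem_iUnion.2 ⟨n, hn⟩
  let D := mkCyc F hF
  have hD : Cyc.RatEquivZero δ' 0 D := ⟨ι, fun n => U'.ι (v n), g,
    fun n => by rw [← hδu, hv n]; exact hξ n, hg,
    fun y => ⟨Set.univ, isOpen_univ, trivial, Set.toFinite _⟩,
    fun y => by rw [finsum_eq_sum_of_fintype]; rfl⟩
  let γ := z - D
  have hγ0 : ∀ y, γ y ≠ 0 → IsClosed ({y} : Set X') := fun y hy => by
    refine delta_closed (b ≫ pX) ?_
    by_contra h
    refine hy ?_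
    show z y - (∑ n, Cyc.divFun δ' (U'.ι (v n)) (g n) y) = 0
    rw [hz y h, Finset.sum_eq_zero, sub_zero]
    intro n _
    by_contra hn
    have hn' : U'.ι (v n) ⤳ y ∧ δ' y + 1 = δ' (U'.ι (v n)) := by
      by_contra hc
      exact hn (dif_neg hc)
    have h1 : δ' (U'.ι (v n)) = 0 + 1 := by rw [← hδu, hv n]; exact hξ n
    refine h ?_
    have h2 : δ' y + 1 = δ' (U'.ι (v n)) := hn'.2
    show δ' y = 0
    omega
  have hmapz : ∀ w : ↥(U' : Scheme.{u}),
      AlgebraicCycle.map b δ' δ z (j w) = z (U'.ι w) := fun w => by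
    rw [Push.map_apply, finsum_eq_single _ (U'.ι w) fun t ht => by
      rw [finsum_eq_if]
      split_ifs with hm
      · exfalso
        have htx : b t ≠ x := by
          rw [show b t = j w from hm]; exact (hU0 _).1 w.2
        have : j ⟨t, (hU0 _).2 htx⟩ = j w := hm
        exact ht (congrArg U'.ι (j.isOpenEmbedding.injective this))
      · rfl]
    rw [finsum_eq_if, if_pos (show U'.ι w ∈ ⇑b ⁻¹' {j w} from rfl)]
    have hs : Function.Surjective (b.residueFieldMap (U'.ι w)).hom := fun c => by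
      obtain ⟨a, ha⟩ := (hres w).2 ((U'.ι.residueFieldMap w) c)
      rw [Scheme.residueFieldMap_comp U'.ι b w] at ha
      exact ⟨a, (hres' w).1 ha⟩
    rw [AlgebraicCycle.mapCoeff, if_pos (show δ' (U'.ι w) = δ (b (U'.ι w)) from (hδu w).symm), Residue.residueDegree_eq_one_of_surjective _ hs]
    simp
  have hγE : ∀ y, γ y ≠ 0 → b y = x := fun y hy => by
    by_contra h
    refine hy ?_
    let w : ↥(U' : Scheme.{u}) := ⟨y, (hU0 _).2 h⟩
    show z (U'.ι w) - F (U'.ι w) = 0
    rw [← hmapz, hsum, finsum_eq_sum_of_fintype]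
    show _ - (∑ n, Cyc.divFun δ' (U'.ι (v n)) (g n) (U'.ι w)) = 0
    exact sub_eq_zero.2 (Finset.sum_congr rfl fun n _ => (hgdiv n w).symm)
  obtain ⟨e0', he0'⟩ := surjective pX hx hne b hb x
  obtain ⟨e0, he0x, he0c⟩ := (hx.preimage b.continuous).exists_closed_singleton ⟨e0', he0'⟩
  have lin : ∀ (s : Finset X'), (∀ y ∈ s, IsClosed ({y} : Set X') ∧ b y = x) → ∀ c : X' → ℤ,
      Cyc.RatEquiv δ' 0 (∑ y ∈ s, c y • pc y) ((∑ y ∈ s, c y) • pc e0) := by
    intro s hs c
    induction s using Finset.induction_on with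
    | empty => simp only [Finset.sum_empty, zero_smul]; exact Ord.ratEquiv_refl _ _ _
    | @insert a s has ih =>
      have h1 := fibre_ratEquiv pX hx b hb hne (hs a (Finset.mem_insert_self a s)).1 he0c
        (hs a (Finset.mem_insert_self a s)).2 he0x
      have h2 := ih fun y hy => hs y (Finset.mem_insert_of_mem hy)
      rw [Finset.sum_insert has, Finset.sum_insert has, add_smul]
      unfold Cyc.RatEquiv at h1 h2 ⊢
      have e : c a • pc a + ∑ y ∈ s, c y • pc y - (c a • pc e0 + (∑ y ∈ s, c y) • pc e0) =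
          c a • (pc a - pc e0) + ((∑ y ∈ s, c y • pc y) - (∑ y ∈ s, c y) • pc e0) := by
        rw [smul_sub]; abel
      rw [e]
      refine Ord.ratEquivZero_add ?_ h2
      induction c a using Int.induction_on with
      | zero => rw [zero_smul]; exact Ord.ratEquivZero_zero _ _
      | succ n hn => rw [add_smul, one_smul]; exact Ord.ratEquivZero_add hn h1
      | pred n hn =>
        rw [sub_smul, one_smul, sub_eq_add_neg]
        exact Ord.ratEquivZero_add hn (Ord.ratEquivZero_neg hd' h1)
  have hfinγ := finite_support γ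
  have hγsum : γ = ∑ y ∈ hfinγ.toFinset, γ y • pc y := Function.locallyFinsuppWithin.ext fun y => by
    have ev : ∀ s : Finset X', (∑ t ∈ s, γ t • pc t : AlgebraicCycle X' ℤ) y =
        ∑ t ∈ s, γ t * Set.indicator {t} 1 y := fun s => by
      induction s using Finset.induction_on with
      | empty => simp
      | @insert a s has ih =>
        rw [Finset.sum_insert has, Finset.sum_insert has, Function.locallyFinsuppWithin.coe_add,
          Pi.add_apply, ih, Function.locallyFinsuppWithin.coe_zsmul, Pi.smul_apply, pc_apply, smul_eq_mul]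
    rw [ev, Finset.sum_eq_single y]
    · simp
    · exact fun t _ ht => by rw [Set.indicator_of_notMem (show y ∉ ({t} : Set X') from fun e => ht e.symm), mul_zero]
    · intro hy
      rw [Set.Finite.mem_toFinset, Function.mem_support, not_not] at hy
      rw [hy, zero_mul]
  set m := ∑ y ∈ hfinγ.toFinset, γ y with hm
  have hγe0 : Cyc.RatEquiv δ' 0 γ (m • pc e0) := by
    have := lin hfinγ.toFinset (fun y hy => by
      have hy' : γ y ≠ 0 := (Set.Finite.mem_toFinset _).1 hy
      exact ⟨hγ0 y hy', hγE y hy'⟩) ⇑γ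
    rwa [← hγsum] at this
  have hze : Cyc.RatEquiv δ' 0 z (m • pc e0) := by
    unfold Cyc.RatEquiv at hγe0 ⊢
    have e : z - m • pc e0 = D + (γ - m • pc e0) := by simp only [γ]; abel
    rw [e]
    exact Ord.ratEquivZero_add hD hγe0
  have hcomp : Cyc.DeltaCompat b δ' δ := fun y => by
    have h1 := FieldDim.trdegAt_eq_fdelta (b ≫ pX) y
    rw [Residue.trdegAt_comp, FieldDim.trdegAt_eq_fdelta pX (b y)] at h1
    obtain ⟨n, hn⟩ := Cardinal.lt_aleph0.1 (lt_of_le_of_lt (le_add_self (a := Residue.trdegAt b y)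
      (b := ((FieldDim.fdelta pX (b y)).toNat : Cardinal))) (h1 ▸ Cardinal.natCast_lt_aleph0))
    refine ⟨n, hn, ?_⟩
    rw [hn] at h1
    have h3 : (FieldDim.fdelta pX (b y)).toNat + n = (FieldDim.fdelta (b ≫ pX) y).toNat := by exact_mod_cast h1
    have := FieldDim.fdelta_nonneg pX (b y)
    have := FieldDim.fdelta_nonneg (b ≫ pX) y
    show FieldDim.fdelta (b ≫ pX) y = FieldDim.fdelta pX (b y) + n
    omega
  have hmap := PP.Main.ratEquivZero_map b hd' hd hcomp hze
  have hm0 : m = 0 := by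
    have e1 : AlgebraicCycle.map b δ' δ (m • pc e0) = m • pc x := Function.locallyFinsuppWithin.ext fun y => by
      have e0x := congrFun (congrArg DFunLike.coe (map_pc b pX (b ≫ pX) rfl he0c)) y
      rw [he0x, Push.map_apply] at e0x
      rw [Push.map_apply, Function.locallyFinsuppWithin.coe_zsmul, Function.locallyFinsuppWithin.coe_zsmul,
        Pi.smul_apply, ← e0x, smul_eq_mul, mul_finsum_mem]
      · exact finsum_mem_congr rfl fun t _ => by rw [Pi.smul_apply, smul_eq_mul, mul_assoc]
    have e2 : AlgebraicCycle.map b δ' δ (z - m • pc e0) = AlgebraicCycle.map b δ' δ z - m • pc x :=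
      Function.locallyFinsuppWithin.ext fun y => by
        rw [PP.Div.map_sub_apply, e1]; rfl
    rw [e2] at hmap
    have h2 : Cyc.RatEquiv δ 0 (m • pc x) 0 := by
      unfold Cyc.RatEquiv
      rw [sub_zero]
      have h3 := Ord.ratEquivZero_neg hd hmap
      have h4 := Ord.ratEquivZero_add ⟨ι, ξ, f, hξ, hf, hlf, hsum⟩ h3
      rwa [show AlgebraicCycle.map b δ' δ z + -(AlgebraicCycle.map b δ' δ z - m • pc x) = m • pc x by abel] at h4
    have h5 := deg_congr pX hd (deltaCompat_fdelta pX) h2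
    haveI : Subsingleton ↥(Spec (CommRingCat.of k)) := inferInstanceAs (Subsingleton (PrimeSpectrum k))
    unfold ChowOps.deg at h5
    rw [Push.map_apply, Push.map_apply, finsum_eq_single _ x fun t ht => by
      simp [pc_apply, Set.indicator_of_notMem (show t ∉ ({x} : Set X) from ht)], finsum_eq_if] at h5
    split_ifs at h5 with hm'
    · rw [AlgebraicCycle.mapCoeff, if_pos (show δ x = 0 from FieldDim.fdelta_of_isClosed pX x hx),
        PointDim.Basic.residueDegree_of_isClosed pX x hx] at h5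
      simpa [pc_apply] using h5
    · exact absurd (Subsingleton.elim (α := ↥(Spec (CommRingCat.of k))) _ _) hm'
  rw [hm0, zero_smul] at hze
  unfold Cyc.RatEquiv at hze
  rwa [sub_zero] at hze

end Groth.Agent.Lib.Cyc.CH.BlowPt
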