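import Groth.Agent.Lib.Cyc.CH.PushCh
import Groth.Agent.Lib.Cyc.CH.Gysin
import Groth.Agent.Lib.Cyc.CH.Restrict
import Groth.Agent.Lib.Cyc.Push

/-!
# Gysin operators in arbitrary cartesian squares
-/

set_option autoImplicit false
set_option linter.style.haveILetI false
universe u

open CategoryTheory CategoryTheory.Limits AlgebraicGeometry

noncomputable section

namespace Groth.Agent.Lib.Cyc.CH

open Groth.Agent.Lib Groth.Agent.Lib.Cyc

variable {X Y Z : Scheme.{u}} [IsLocallyNoetherian X] [IsLocallyNoetherian Y] [IsLocallyNoetherian Z]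
  {δ : X → ℤ} {δY : Y → ℤ} {δZ : Z → ℤ}

/-- Pushforward along a composite. -/
theorem push_comp (hX : Cyc.IsDimFun X δ) (hY : Cyc.IsDimFun Y δY) (hZ : Cyc.IsDimFun Z δZ) (f : X ⟶ Y)
    [IsProper f] (hf : Cyc.DeltaCompat f δ δY) (g : Y ⟶ Z) [IsProper g] (hg : Cyc.DeltaCompat g δY δZ)
    (h : X ⟶ Z) [IsProper h] (e : f ≫ g = h) (hh : Cyc.DeltaCompat h δ δZ) (x : Tot X δ) :
    push hY hZ g hg (push hX hY f hf x) = push hX hZ h hh x := by
  subst e
  refine DFunLike.congr_fun (hom_ext (A := (push hY hZ g hg).comp (push hX hY f hf))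
    (B := push hX hZ (f ≫ g) hh) fun k α hα => ?_) x
  show push hY hZ g hg (push hX hY f hf _) = _
  rw [push_cls hX hY f hf hα rfl (map_mem f hα), push_cls hY hZ g hg _ rfl (map_mem g (map_mem f hα)),
    push_cls hX hZ (f ≫ g) hh hα rfl (map_mem (f ≫ g) hα)]
  exact cls_congr rfl (congrArg (⇑) (Cyc.Push.map_map_apply f g δ δY δZ hf hg α))

section Iso

omit [IsLocallyNoetherian Z]

variable {D D' : Scheme.{u}} [IsLocallyNoetherian D] [IsLocallyNoetherian D'] (j : D' ⟶ X)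
  [IsClosedImmersion j] (hδ : Cyc.IsDimFun X δ) {L : X.Modules} (hL : PicF.IsInvertible L)
  {s : L.presheaf.obj (Opposite.op ⊤)} {w : (ξ : X) → Cyc.secFibre L ξ} (hw : ∀ ξ, w ξ ≠ 0)
  (i : D ⟶ X) [IsClosedImmersion i] (e : D' ⟶ D) [IsIso e]

omit [IsLocallyNoetherian X] [IsLocallyNoetherian D] [IsLocallyNoetherian D'] in
theorem isZeroSchemeOf_iso (he : e ≫ i = j) (hD : Cyc.IsZeroSchemeOf j L s) :
    Cyc.IsZeroSchemeOf i L s := by
  subst he
  refine ⟨?_, fun d => ?_⟩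
  · rw [← hD.1]
    ext x
    constructor
    · rintro ⟨d, rfl⟩
      exact ⟨inv e d, by rw [← Scheme.Hom.comp_apply, IsIso.inv_hom_id_assoc]⟩
    · rintro ⟨d, rfl⟩
      exact ⟨e d, rfl⟩
  · obtain ⟨d', rfl⟩ : ∃ d', e d' = d :=
      ⟨inv e d, by rw [← Scheme.Hom.comp_apply, IsIso.inv_hom_id]; rfl⟩
    obtain ⟨t, f, ht, hs, hker⟩ := hD.2 d'
    refine ⟨t, f, ht, hs, ?_⟩
    refine Eq.trans ?_ hker
    rw [Scheme.Hom.stalkMap_comp]
    show _ = RingHom.ker ((e.stalkMap d').hom.comp (i.stalkMap (e d')).hom)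
    exact (RingHom.ker_comp_of_injective (i.stalkMap (e d')).hom
      (ConcreteCategory.bijective_of_isIso (e.stalkMap d')).1).symm

theorem push_gys_iso (he : e ≫ i = j) (hDj : Cyc.IsZeroSchemeOf j L s) (hDi : Cyc.IsZeroSchemeOf i L s)
    (hc : Cyc.DeltaCompat e (fun d => δ (j d)) (fun d => δ (i d))) (x : Tot X δ) :
    push (Gys.Closed.isDimFun j hδ) (Gys.Closed.isDimFun i hδ) e hc (gys j hδ hL hDj hw x) =
      gys i hδ hL hDi hw x := by
  subst he
  refine DFunLike.congr_fun (hom_ext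
    (A := (push (Gys.Closed.isDimFun (e ≫ i) hδ) (Gys.Closed.isDimFun i hδ) e hc).comp
      (gys (e ≫ i) hδ hL hDj hw)) (B := gys i hδ hL hDi hw) fun k α hα => ?_) x
  show push (Gys.Closed.isDimFun (e ≫ i) hδ) (Gys.Closed.isDimFun i hδ) e hc (gys (e ≫ i) hδ hL hDj hw _) = _
  obtain ⟨β, hβ, eβ⟩ := exists_gys_cycle (e ≫ i) hδ hL (s := s) hw hα
  obtain ⟨γ, hγ, eγ⟩ := exists_gys_cycle i hδ hL (s := s) hw hα
  rw [gys_cls _ hδ hL hDj hw hα rfl hβ eβ, gys_cls i hδ hL hDi hw hα rfl hγ eγ,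
    push_cls (Gys.Closed.isDimFun (e ≫ i) hδ) (Gys.Closed.isDimFun i hδ) e hc hβ rfl (map_mem e hβ)]
  refine cls_congr rfl (funext fun d => ?_)
  obtain ⟨d', rfl⟩ : ∃ d', e d' = d :=
    ⟨inv e d, by rw [← Scheme.Hom.comp_apply, IsIso.inv_hom_id]; rfl⟩
  rw [eγ]
  exact (Gys.Closed.map_apply_image e (δ := fun d => δ (i d)) β d').trans (eβ d')

theorem pull_gys_iso (he : e ≫ i = j) (hDj : Cyc.IsZeroSchemeOf j L s) (hDi : Cyc.IsZeroSchemeOf i L s)
    (hc : FP.Main.Shift e (fun d => δ (j d)) (fun d => δ (i d)) 0) (x : Tot X δ) :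
    pull (Gys.Closed.isDimFun j hδ) (Gys.Closed.isDimFun i hδ) e hc (gys i hδ hL hDi hw x) =
      gys j hδ hL hDj hw x := by
  subst he
  refine DFunLike.congr_fun (hom_ext
    (A := (pull (Gys.Closed.isDimFun (e ≫ i) hδ) (Gys.Closed.isDimFun i hδ) e hc).comp
      (gys i hδ hL hDi hw)) (B := gys (e ≫ i) hδ hL hDj hw) fun k α hα => ?_) x
  show pull (Gys.Closed.isDimFun (e ≫ i) hδ) (Gys.Closed.isDimFun i hδ) e hc (gys i hδ hL hDi hw _) = _
  obtain ⟨β, hβ, eβ⟩ := exists_gys_cycle i hδ hL (s := s) hw hα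
  obtain ⟨γ, hγ, eγ⟩ := exists_gys_cycle (e ≫ i) hδ hL (s := s) hw hα
  rw [gys_cls i hδ hL hDi hw hα rfl hβ eβ, gys_cls _ hδ hL hDj hw hα rfl hγ eγ]
  refine pull_cls _ _ e hc hβ (by ring) hγ (funext fun d => ?_)
  rw [eγ]
  exact ((pullFun_restrict e (δ := fun d => δ (i d)) ⇑β d).trans (eβ _)).symm

end Iso

section Square

variable {X' D E : Scheme.{u}} [IsLocallyNoetherian X'] [IsLocallyNoetherian D] [IsLocallyNoetherian E]
  (f : X' ⟶ X) (i : D ⟶ X) [IsClosedImmersion i] (j : E ⟶ X') [IsClosedImmersion j] (q : E ⟶ D)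
  (hδ : Cyc.IsDimFun X δ) {δ' : X' → ℤ} (hδ' : Cyc.IsDimFun X' δ') {L : X.Modules}
  (hL : PicF.IsInvertible L) {s : L.presheaf.obj (Opposite.op ⊤)} (hD : Cyc.IsZeroSchemeOf i L s)
  {τ : ((Scheme.Modules.pullback f).obj L).presheaf.obj (Opposite.op ⊤)}
  (hE : Cyc.IsZeroSchemeOf j ((Scheme.Modules.pullback f).obj L) τ)
  {w : (ξ : X) → Cyc.secFibre L ξ} (hw : ∀ ξ, w ξ ≠ 0)
  {w' : (ξ : X') → Cyc.secFibre ((Scheme.Modules.pullback f).obj L) ξ} (hw' : ∀ ξ, w' ξ ≠ 0)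

omit [IsLocallyNoetherian Y] [IsLocallyNoetherian Z]

/-- Gysin maps commute with flat pullback in any cartesian square. -/
theorem gys_pull_square [Flat f] [Flat q] (hsq : IsPullback j q f i) {c : ℤ}
    (hc : FP.Main.Shift f δ' δ c) (hq : FP.Main.Shift q (fun z => δ' (j z)) (fun d => δ (i d)) c)
    (x : Tot X δ) :
    gys j hδ' (PicLoc.isInvertible_pullback f hL) hE hw' (pull hδ' hδ f hc x) =
      pull (Gys.Closed.isDimFun j hδ') (Gys.Closed.isDimFun i hδ) q hq (gys i hδ hL hD hw x) := by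
  haveI : IsLocallyNoetherian (pullback f i : Scheme.{u}) :=
    LocallyOfFiniteType.isLocallyNoetherian (pullback.fst f i)
  obtain ⟨e, he, he1, he2⟩ : ∃ (e : E ⟶ pullback f i) (_ : IsIso e),
      e ≫ pullback.fst f i = j ∧ e ≫ pullback.snd f i = q :=
    ⟨hsq.isoPullback.hom, inferInstance, hsq.isoPullback_hom_fst, hsq.isoPullback_hom_snd⟩
  have hD' := isZeroSchemeOf_iso j (pullback.fst f i) e he1 hE
  have hee : FP.Main.Shift e (fun z => δ' (j z)) (fun z => δ' (pullback.fst f i z)) 0 := fun y _ => by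
    rw [add_zero, ← he1]
    rfl
  rw [← pull_gys_iso j hδ' (PicLoc.isInvertible_pullback f hL) hw' (pullback.fst f i) e he1 hE hD' hee,
    gys_pull f i hδ hδ' hc hL hD hD' hw hw']
  exact pull_comp (Gys.Closed.isDimFun j hδ') (Gys.Closed.isDimFun (pullback.fst f i) hδ') e hee
    (Gys.Closed.isDimFun i hδ) (pullback.snd f i) (Gys.FlatPull.shift_snd f i hc) q he2 hq (zero_add _) _

/-- Gysin maps commute with proper pushforward in any cartesian square. -/
theorem gys_push_square [IsProper f] [IsProper q] (hsq : IsPullback j q f i)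
    (hc : Cyc.DeltaCompat f δ' δ) (hq : Cyc.DeltaCompat q (fun z => δ' (j z)) (fun d => δ (i d)))
    (x : Tot X' δ') :
    gys i hδ hL hD hw (push hδ' hδ f hc x) =
      push (Gys.Closed.isDimFun j hδ') (Gys.Closed.isDimFun i hδ) q hq
        (gys j hδ' (PicLoc.isInvertible_pullback f hL) hE hw' x) := by
  haveI : IsLocallyNoetherian (pullback f i : Scheme.{u}) :=
    LocallyOfFiniteType.isLocallyNoetherian (pullback.fst f i)
  obtain ⟨e, he, he1, he2⟩ : ∃ (e : E ⟶ pullback f i) (_ : IsIso e),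
      e ≫ pullback.fst f i = j ∧ e ≫ pullback.snd f i = q :=
    ⟨hsq.isoPullback.hom, inferInstance, hsq.isoPullback_hom_fst, hsq.isoPullback_hom_snd⟩
  have hD' := isZeroSchemeOf_iso j (pullback.fst f i) e he1 hE
  have hL' := PicLoc.isInvertible_pullback f hL
  have hs : Cyc.DeltaCompat (pullback.snd f i) (fun z => δ' (pullback.fst f i z)) (fun d => δ (i d)) :=
    deltaCompat_of_comm (π := i) (π' := pullback.fst f i) (f := f) pullback.condition.symm
      (PP.SubSetup.deltaCompat i) (PP.SubSetup.deltaCompat _) hc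
  have hee : Cyc.DeltaCompat e (fun z => δ' (j z)) (fun z => δ' (pullback.fst f i z)) := by
    have := PP.SubSetup.deltaCompat e (δ := fun z => δ' (pullback.fst f i z))
    simp only [← Scheme.Hom.comp_apply, he1] at this
    exact this
  have h1 : gys i hδ hL hD hw (push hδ' hδ f hc x) =
      push (Gys.Closed.isDimFun (pullback.fst f i) hδ') (Gys.Closed.isDimFun i hδ) (pullback.snd f i) hs
        (gys (pullback.fst f i) hδ' hL' hD' hw' x) := by
    refine DFunLike.congr_fun (hom_ext (A := (gys i hδ hL hD hw).comp (push hδ' hδ f hc))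
      (B := (push (Gys.Closed.isDimFun (pullback.fst f i) hδ') (Gys.Closed.isDimFun i hδ)
        (pullback.snd f i) hs).comp (gys (pullback.fst f i) hδ' hL' hD' hw')) fun k α hα => ?_) x
    show gys i hδ hL hD hw (push hδ' hδ f hc _) =
      push (Gys.Closed.isDimFun (pullback.fst f i) hδ') (Gys.Closed.isDimFun i hδ) (pullback.snd f i) hs
        (gys (pullback.fst f i) hδ' hL' hD' hw' _)
    obtain ⟨γ, hγ, eγ⟩ := exists_gys_cycle i hδ hL (s := s) hw (map_mem (δY := δ) f hα)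
    obtain ⟨γ', hγ', eγ'⟩ := exists_gys_cycle (pullback.fst f i) hδ' hL' (s := τ) hw' hα
    rw [push_cls hδ' hδ f hc hα rfl (map_mem f hα), gys_cls i hδ hL hD hw (map_mem f hα) rfl hγ eγ,
      gys_cls (pullback.fst f i) hδ' hL' hD' hw' hα rfl hγ' eγ',
      push_cls (Gys.Closed.isDimFun (pullback.fst f i) hδ') (Gys.Closed.isDimFun i hδ) _ hs hγ' rfl
        (map_mem _ hγ'), cls_eq_iff (Gys.Closed.isDimFun i hδ)]
    exact PP.GysPush.ratEquiv_gysin_map f i hδ hδ' hc hL hD hD'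
      (show α ∈ Cyc.Zk X' δ' (k - 1 + 1) by rwa [sub_add_cancel]) w hw w' hw' γ eγ γ' eγ'
  rw [h1, ← push_gys_iso j hδ' hL' hw' (pullback.fst f i) e he1 hE hD' hee x]
  exact push_comp (Gys.Closed.isDimFun j hδ') (Gys.Closed.isDimFun (pullback.fst f i) hδ')
    (Gys.Closed.isDimFun i hδ) e hee (pullback.snd f i) hs q he2 hq _

end Square

end Groth.Agent.Lib.Cyc.CH
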