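import Groth.Agent.Lib.Cyc.CH.SquareOps

/-!
# The Gysin operator depends only on the divisor and the class of the module
-/

set_option autoImplicit false
set_option linter.style.haveILetI false
universe u

open CategoryTheory CategoryTheory.Limits AlgebraicGeometry IsLocalRing

noncomputable section

namespace Groth.Agent.Lib.Cyc.CH

open Groth.Agent.Lib Groth.Agent.Lib.Cyc Modules.StalkModule

variable {X D : Scheme.{u}} {M N : X.Modules} (ψ : M ≅ N)

theorem stalkMapₗ_stalkSpecializes {ξ x : X} (h : ξ ⤳ x) (v : M.presheaf.stalk x) :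
    stalkMapₗ ψ.hom ξ (M.presheaf.stalkSpecializes h v) =
      N.presheaf.stalkSpecializes h (stalkMapₗ ψ.hom x v) := by
  obtain ⟨U, hx, m, rfl⟩ := TopCat.Presheaf.exists_germ_eq M.presheaf v
  rw [TopCat.Presheaf.germ_stalkSpecializes_apply, stalkMapₗ_germ, stalkMapₗ_germ,
    TopCat.Presheaf.germ_stalkSpecializes_apply]

theorem stalkMapₗ_inv_hom (x : X) (v : M.presheaf.stalk x) :
    stalkMapₗ ψ.inv x (stalkMapₗ ψ.hom x v) = v := by
  rw [← LinearMap.comp_apply, ← stalkMapₗ_comp, ψ.hom_inv_id, stalkMapₗ_id]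
  rfl

theorem span_stalkMap {x : X} {t : M.presheaf.stalk x}
    (ht : Submodule.span (X.presheaf.stalk x) {t} = ⊤) :
    Submodule.span (X.presheaf.stalk x) {stalkMapₗ ψ.hom x t} = ⊤ := by
  refine eq_top_iff.2 fun v _ => ?_
  obtain ⟨a, ha⟩ := Submodule.mem_span_singleton.1
    (show stalkMapₗ ψ.inv x v ∈ Submodule.span _ {t} by rw [ht]; trivial)
  exact Submodule.mem_span_singleton.2 ⟨a, by
    rw [← map_smul, ha]
    exact stalkMapₗ_inv_hom ψ.symm x v⟩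

/-- The map of fibres. -/
def fibMap (x : X) : Cyc.secFibre M x →ₗ[X.presheaf.stalk x] Cyc.secFibre N x :=
  Submodule.mapQ _ _ (stalkMapₗ ψ.hom x) (Submodule.smul_le.2 fun r hr v _ => by
    rw [Submodule.mem_comap, map_smul]
    exact Submodule.smul_mem_smul hr trivial)

theorem fibMap_mk (x : X) (v : M.presheaf.stalk x) :
    fibMap ψ x (Submodule.Quotient.mk v) = Submodule.Quotient.mk (stalkMapₗ ψ.hom x v) := rfl

theorem fibMap_ne_zero (x : X) {v : Cyc.secFibre M x} (h : v ≠ 0) : fibMap ψ x v ≠ 0 := by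
  obtain ⟨v, rfl⟩ := Submodule.Quotient.mk_surjective _ v
  intro h0
  have h1 := congrArg (fibMap ψ.symm x) h0
  rw [fibMap_mk, fibMap_mk, map_zero] at h1
  exact h ((congrArg Submodule.Quotient.mk (stalkMapₗ_inv_hom ψ x v)).symm.trans h1)

variable [IsLocallyNoetherian X] {δ : X → ℤ}

theorem secDivFun_iso (hδ : Cyc.IsDimFun X δ) (hM : PicF.IsInvertible M) (hN : PicF.IsInvertible N)
    (ξ : X) {v : Cyc.secFibre M ξ} (hv : v ≠ 0) (x : X) :
    Cyc.secDivFun δ N ξ (fibMap ψ ξ v) x = Cyc.secDivFun δ M ξ v x := by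
  by_cases h : ξ ⤳ x ∧ δ x + 1 = δ ξ
  swap
  · rw [Cyc.secDivFun, Cyc.secDivFun, dif_neg h, dif_neg h]
  rw [Cyc.secDivFun, Cyc.secDivFun, dif_pos h, dif_pos h]
  obtain ⟨t, ht, -⟩ := C1Indep.exists_free_gen hM x
  have hts := C1Indep.span_stalkSpecializes hM h.1 ht
  obtain ⟨r, rfl⟩ := Submodule.Quotient.mk_surjective _ v
  obtain ⟨φ, hφ⟩ := Submodule.mem_span_singleton.1
    (show r ∈ Submodule.span _ {M.presheaf.stalkSpecializes h.1 t} by rw [hts]; trivial)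
  have hφ' : (Submodule.Quotient.mk r : Cyc.secFibre M ξ) =
      φ • Submodule.Quotient.mk (M.presheaf.stalkSpecializes h.1 t) := by
    rw [← hφ]; rfl
  rw [C1Indep.secOrdAt_eq hδ hM x ξ h.1 h.2.ge _ hv t ht φ hφ',
    C1Indep.secOrdAt_eq hδ hN x ξ h.1 h.2.ge _ (fibMap_ne_zero ψ ξ hv) _ (span_stalkMap ψ ht) φ ?_]
  rw [hφ', map_smul, fibMap_mk, stalkMapₗ_stalkSpecializes]

theorem gysinChoice_iso (s : M.presheaf.obj (Opposite.op ⊤)) (w : (ξ : X) → Cyc.secFibre M ξ) (ξ : X) :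
    Cyc.gysinChoice N (ψ.hom.app ⊤ s) (fun ξ => fibMap ψ ξ (w ξ)) ξ =
      fibMap ψ ξ (Cyc.gysinChoice M s w ξ) := by
  have h : (Submodule.Quotient.mk (N.presheaf.germ ⊤ ξ trivial (ψ.hom.app ⊤ s)) : Cyc.secFibre N ξ) =
      fibMap ψ ξ (Submodule.Quotient.mk (M.presheaf.germ ⊤ ξ trivial s)) := by
    rw [fibMap_mk]
    exact congrArg Submodule.Quotient.mk (stalkMapₗ_germ ψ.hom (U := ⊤) trivial s).symm
  by_cases hs : (Submodule.Quotient.mk (M.presheaf.germ ⊤ ξ trivial s) : Cyc.secFibre M ξ) = 0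
  · rw [Cyc.gysinChoice, Cyc.gysinChoice, if_neg (not_not.2 hs), if_neg (not_not.2 (by rw [h, hs, map_zero]))]
  · rw [Cyc.gysinChoice, Cyc.gysinChoice, if_pos hs, if_pos (h ▸ fibMap_ne_zero ψ ξ hs)]
    exact h

variable [IsLocallyNoetherian D] (i : D ⟶ X) [IsClosedImmersion i] {s : M.presheaf.obj (Opposite.op ⊤)}

omit [IsLocallyNoetherian X] [IsLocallyNoetherian D] in
theorem isZeroSchemeOf_map (hD : Cyc.IsZeroSchemeOf i M s) :
    Cyc.IsZeroSchemeOf i N (ψ.hom.app ⊤ s) := by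
  refine ⟨hD.1.trans (Set.ext fun x => ?_), fun d => ?_⟩
  · show _ ↔ (Submodule.Quotient.mk (N.presheaf.germ ⊤ x trivial (ψ.hom.app ⊤ s)) : Cyc.secFibre N x) = 0
    rw [← stalkMapₗ_germ ψ.hom (U := ⊤) trivial s]
    exact ⟨fun h => (congrArg (fibMap ψ x) h).trans (map_zero _),
      fun h => by_contra fun hne => fibMap_ne_zero ψ x hne h⟩
  · obtain ⟨t, a, ht, hs, hker⟩ := hD.2 d
    exact ⟨_, a, span_stalkMap ψ ht,
      by rw [← stalkMapₗ_germ ψ.hom (U := ⊤) trivial s, hs, map_smul], hker⟩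

/-- Gysin operators of isomorphic data agree. -/
theorem gys_iso (hδ : Cyc.IsDimFun X δ) (hM : PicF.IsInvertible M) (hN : PicF.IsInvertible N)
    (hD : Cyc.IsZeroSchemeOf i M s) (hD' : Cyc.IsZeroSchemeOf i N (ψ.hom.app ⊤ s))
    {w : (ξ : X) → Cyc.secFibre M ξ} (hw : ∀ ξ, w ξ ≠ 0) (x : Tot X δ) :
    gys i hδ hN hD' (w := fun ξ => fibMap ψ ξ (w ξ)) (fun ξ => fibMap_ne_zero ψ ξ (hw ξ)) x =
      gys i hδ hM hD hw x := by
  refine DFunLike.congr_fun (hom_ext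
    (A := gys i hδ hN hD' (w := fun ξ => fibMap ψ ξ (w ξ)) (fun ξ => fibMap_ne_zero ψ ξ (hw ξ)))
    (B := gys i hδ hM hD hw) fun k α hα => ?_) x
  obtain ⟨β, hβ, e⟩ := exists_gys_cycle i hδ hM (s := s) hw hα
  rw [gys_cls i hδ hM hD hw hα rfl hβ e]
  refine gys_cls i hδ hN hD' _ hα rfl hβ fun d => (e d).trans ?_
  simp only [Cyc.c1CapFun, gysinChoice_iso]
  exact finsum_congr fun ξ => by
    rw [secDivFun_iso ψ hδ hM hN ξ (Gys.Cycle.gysinChoice_ne_zero (s := s) hw ξ)]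

omit [IsLocallyNoetherian D] in
theorem pull_id (hδ : Cyc.IsDimFun X δ) (hc : FP.Main.Shift (𝟙 X) δ δ 0) (x : Tot X δ) :
    pull hδ hδ (𝟙 X) hc x = x := by
  refine DFunLike.congr_fun (hom_ext (A := pull hδ hδ (𝟙 X) hc) (B := AddMonoidHom.id _)
    fun k α hα => ?_) x
  exact pull_cls hδ hδ (𝟙 X) hc hα (add_zero k).symm hα
    (funext fun z => (pullFun_restrict (𝟙 X) (δ := δ) ⇑α z).symm)

/-- The Gysin operator depends only on the divisor and the isomorphism class of the module. -/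
theorem gys_unique (e : M ≅ N) (hδ : Cyc.IsDimFun X δ) (hM : PicF.IsInvertible M) (hN : PicF.IsInvertible N)
    (hD : Cyc.IsZeroSchemeOf i M s) {s' : N.presheaf.obj (Opposite.op ⊤)}
    (hD' : Cyc.IsZeroSchemeOf i N s') {w : (ξ : X) → Cyc.secFibre M ξ} (hw : ∀ ξ, w ξ ≠ 0)
    {w' : (ξ : X) → Cyc.secFibre N ξ} (hw' : ∀ ξ, w' ξ ≠ 0) (x : Tot X δ) :
    gys i hδ hN hD' hw' x = gys i hδ hM hD hw x := by
  let ψ : N ≅ (Scheme.Modules.pullback (𝟙 X)).obj M := e.symm ≪≫ ((Scheme.Modules.pullbackId X).app M).symm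
  have hP := PicLoc.isInvertible_pullback (𝟙 X) hM
  have hsh : FP.Main.Shift (𝟙 X) δ δ 0 := fun y _ => by simp
  have hshD : FP.Main.Shift (𝟙 D) (fun d => δ (i d)) (fun d => δ (i d)) 0 := fun y _ => by simp
  have key := gys_pull_square (𝟙 X) i i (𝟙 D) hδ hδ hM hD (isZeroSchemeOf_map ψ i hD') hw
    (w' := fun ξ => fibMap ψ ξ (w' ξ)) (fun ξ => fibMap_ne_zero ψ ξ (hw' ξ))
    (IsPullback.of_vert_isIso ⟨by simp⟩) hsh hshD x
  rw [pull_id hδ hsh, pull_id (Gys.Closed.isDimFun i hδ) hshD] at key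
  exact (gys_iso ψ i hδ hN hP hD' _ hw' x).symm.trans key

end Groth.Agent.Lib.Cyc.CH
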