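import Groth.Agent.Lib.Cyc.CH.Tot
import Groth.Agent.Lib.Cyc.C1K.Comm
import Groth.Agent.Lib.Cyc.C1K.Pull
import Groth.Agent.Lib.Cyc.PP.C1Push
import Groth.Agent.Lib.Cyc.C1Tensor
import Groth.Agent.S6454
import Groth.Agent.S6455

/-!
# Commutation rules for the operators on the total Chow group
-/

set_option autoImplicit false
set_option linter.style.haveILetI false
universe u

open CategoryTheory AlgebraicGeometry

noncomputable section

namespace Groth.Agent.Lib.Cyc.CH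

open Groth.Agent.Lib Groth.Agent.Lib.Cyc
open Modules.StalkModule

section Iso

variable {X : Scheme.{u}}

theorem span_map_top {L L' : X.Modules} (e : L ≅ L') (x : X) {t : L.presheaf.stalk x}
    (ht : Submodule.span (X.presheaf.stalk x) {t} = ⊤) :
    Submodule.span (X.presheaf.stalk x) {stalkMapₗ e.hom x t} = ⊤ := by
  refine eq_top_iff.2 fun v _ => ?_
  have hv : stalkMapₗ e.hom x (stalkMapₗ e.inv x v) = v := by
    show (((TopCat.Presheaf.stalkFunctor _ x).map ((Scheme.Modules.toPresheaf X).map e.inv)) ≫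
      ((TopCat.Presheaf.stalkFunctor _ x).map ((Scheme.Modules.toPresheaf X).map e.hom))) v = v
    rw [← Functor.map_comp, ← Functor.map_comp, e.inv_hom_id, CategoryTheory.Functor.map_id,
      CategoryTheory.Functor.map_id]
    rfl
  obtain ⟨a, ha⟩ := Submodule.mem_span_singleton.1
    (show stalkMapₗ e.inv x v ∈ Submodule.span (X.presheaf.stalk x) {t} by rw [ht]; trivial)
  exact Submodule.mem_span_singleton.2 ⟨a, by rw [← map_smul, ha, hv]⟩

theorem stalkSpecializes_map {L L' : X.Modules} (φ : L ⟶ L') {x ξ : X} (h : ξ ⤳ x)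
    (t : L.presheaf.stalk x) :
    L'.presheaf.stalkSpecializes h (stalkMapₗ φ x t) = stalkMapₗ φ ξ (L.presheaf.stalkSpecializes h t) :=
  (ConcreteCategory.congr_hom
    (TopCat.Presheaf.stalkSpecializes_stalkFunctor_map ((Scheme.Modules.toPresheaf X).map φ) h) t).symm

/-- Isomorphic modules have the same caps, for matching sections. -/
theorem exists_matched [IsLocallyNoetherian X] {δ : X → ℤ} (hδ : Cyc.IsDimFun X δ) {L L' : X.Modules}
    (hL : PicF.IsInvertible L) (hL' : PicF.IsInvertible L') (e : L ≅ L') :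
    ∃ (s : (ξ : X) → Cyc.secFibre L ξ) (s' : (ξ : X) → Cyc.secFibre L' ξ),
      (∀ ξ, s ξ ≠ 0) ∧ (∀ ξ, s' ξ ≠ 0) ∧ ∀ α : X → ℤ, Cyc.c1CapFun δ L α s = Cyc.c1CapFun δ L' α s' := by
  choose t ht _ using C1Indep.exists_free_gen hL
  refine ⟨fun ξ => Submodule.Quotient.mk (t ξ), fun ξ => Submodule.Quotient.mk (stalkMapₗ e.hom ξ (t ξ)),
    fun ξ => C1Indep.mk_ne_zero hL ξ (ht ξ), fun ξ => C1Indep.mk_ne_zero hL' ξ (span_map_top e ξ (ht ξ)),
    fun α => funext fun x => finsum_congr fun ξ => congrArg (α ξ * ·) ?_⟩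
  simp only [Cyc.secDivFun]
  split_ifs with h
  · obtain ⟨φ, hφ⟩ := Submodule.mem_span_singleton.1
      (show t ξ ∈ Submodule.span (X.presheaf.stalk ξ) {L.presheaf.stalkSpecializes h.1 (t x)} by
        rw [C1Indep.span_stalkSpecializes hL h.1 (ht x)]; trivial)
    rw [C1Indep.secOrdAt_eq hδ hL x ξ h.1 h.2.ge _ (C1Indep.mk_ne_zero hL ξ (ht ξ)) (t x) (ht x) φ
        (by rw [← Submodule.Quotient.mk_smul, hφ]),
      C1Indep.secOrdAt_eq hδ hL' x ξ h.1 h.2.ge _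
        (C1Indep.mk_ne_zero hL' ξ (span_map_top e ξ (ht ξ))) _ (span_map_top e x (ht x)) φ
        (by rw [← Submodule.Quotient.mk_smul, stalkSpecializes_map, ← map_smul, hφ])]
  · rfl

end Iso

variable {X Y Z : Scheme.{u}} {δ : X → ℤ} {δY : Y → ℤ} {δZ : Z → ℤ}

theorem exists_c1 [IsLocallyNoetherian X] (hδ : Cyc.IsDimFun X δ) {L : X.Modules}
    (hL : PicF.IsInvertible L) {k : ℤ} {α : AlgebraicCycle X ℤ} (hα : α ∈ Cyc.Zk X δ k)
    (s : (ξ : X) → Cyc.secFibre L ξ) (hs : ∀ ξ, s ξ ≠ 0) :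
    ∃ β : AlgebraicCycle X ℤ, ∃ hβ : β ∈ Cyc.Zk X δ (k - 1), ⇑β = Cyc.c1CapFun δ L ⇑α s ∧
      c1 δ hδ hL (cls δ k α hα) = cls δ (k - 1) β hβ := by
  obtain ⟨β, hβ⟩ := Gys.C1.exists_cap hδ hL
    (show α ∈ Cyc.Zk X δ (k - 1 + 1) by rwa [sub_add_cancel]) s hs
  exact ⟨β, c1_mem δ hα s hβ hδ, hβ, c1_cls δ hδ hL hα rfl _ s hs hβ⟩

section C1

variable [IsLocallyNoetherian X] (hδ : Cyc.IsDimFun X δ) {L N : X.Modules}
  (hL : PicF.IsInvertible L) (hN : PicF.IsInvertible N)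

theorem c1_congr (e : L ≅ N) : c1 δ hδ hL = c1 δ hδ hN := by
  obtain ⟨s, s', hs, hs', h⟩ := exists_matched hδ hL hN e
  refine hom_ext fun k α hα => ?_
  obtain ⟨β, hβ, e1, e2⟩ := exists_c1 hδ hL hα s hs
  exact e2.trans (c1_cls δ hδ hN hα rfl hβ s' hs' (e1.trans (h _))).symm

theorem c1_comm (x : Tot X δ) : c1 δ hδ hL (c1 δ hδ hN x) = c1 δ hδ hN (c1 δ hδ hL x) := by
  obtain ⟨s, hs⟩ := exists_sections hL
  obtain ⟨t, ht⟩ := exists_sections hN
  refine DFunLike.congr_fun (hom_ext (A := AddMonoidHom.comp (c1 δ hδ hL) (c1 δ hδ hN))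
    (B := AddMonoidHom.comp (c1 δ hδ hN) (c1 δ hδ hL)) fun k α hα => ?_) x
  show c1 δ hδ hL (c1 δ hδ hN _) = c1 δ hδ hN (c1 δ hδ hL _)
  obtain ⟨a, ha, a1, a2⟩ := exists_c1 hδ hN hα t ht
  obtain ⟨a', ha', a1', a2'⟩ := exists_c1 hδ hL ha s hs
  obtain ⟨b, hb, b1, b2⟩ := exists_c1 hδ hL hα s hs
  obtain ⟨b', hb', b1', b2'⟩ := exists_c1 hδ hN hb t ht
  rw [a2, a2', b2, b2', cls_eq_iff hδ]
  exact C1K.Comm.ratEquiv_comm hδ hL hN
    (show α ∈ Cyc.Zk X δ (k - 1 - 1 + 1 + 1) by rwa [show k - 1 - 1 + 1 + 1 = k by ring])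
    s s t t hs hs ht ht a' b' (by rw [a1', a1]) (by rw [b1', b1])

theorem c1_tensor (hT : PicF.IsInvertible (CohB1.tensorMod L N)) (hX : Cyc.IsSetup X δ) :
    c1 δ hδ hT = c1 δ hδ hL + c1 δ hδ hN := by
  obtain ⟨s, hs⟩ := exists_sections hL
  obtain ⟨t, ht⟩ := exists_sections hN
  obtain ⟨r, hr⟩ := exists_sections hT
  refine hom_ext fun k α hα => ?_
  obtain ⟨a, ha, a1, a2⟩ := exists_c1 hδ hL hα s hs
  obtain ⟨b, hb, b1, b2⟩ := exists_c1 hδ hN hα t ht
  obtain ⟨c, hc, c1', c2⟩ := exists_c1 hδ hT hα r hr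
  show c1 δ hδ hT _ = c1 δ hδ hL _ + c1 δ hδ hN _
  rw [a2, b2, c2, ← cls_add, cls_eq_iff hδ]
  exact Ord.ratEquiv_symm hδ (S6454.result X δ hX L N hL hN (k - 1) α
    (by rwa [sub_add_cancel]) s hs t ht r hr a b c a1 b1 c1')

theorem c1_structureModule (hO : PicF.IsInvertible (Coh.structureModule X)) (hX : Cyc.IsSetup X δ) :
    c1 δ hδ hO = 0 := by
  obtain ⟨s, hs⟩ := exists_sections hO
  refine hom_ext fun k α hα => ?_
  obtain ⟨a, ha, a1, a2⟩ := exists_c1 hδ hO hα s hs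
  exact a2.trans ((cls_eq_zero_iff hδ ha).2
    (S6455.result X δ hX (k - 1) α (by rwa [sub_add_cancel]) s hs a a1))

end C1

section Pull

variable [IsLocallyNoetherian X] [IsLocallyNoetherian Y] (hX : Cyc.IsDimFun X δ)
  (hY : Cyc.IsDimFun Y δY) (f : X ⟶ Y) [Flat f] {c : ℤ} (hc : FP.Main.Shift f δ δY c)

theorem pull_c1 {L : Y.Modules} (hL : PicF.IsInvertible L) (x : Tot Y δY) :
    pull hX hY f hc (c1 δY hY hL x) =
      c1 δ hX (PicLoc.isInvertible_pullback f hL) (pull hX hY f hc x) := by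
  obtain ⟨v, hv⟩ := exists_sections hL
  obtain ⟨w, hw⟩ := exists_sections (PicLoc.isInvertible_pullback f hL)
  refine DFunLike.congr_fun (hom_ext (A := (pull hX hY f hc).comp (c1 δY hY hL))
    (B := AddMonoidHom.comp (c1 δ hX (PicLoc.isInvertible_pullback f hL)) (pull hX hY f hc))
    fun k α hα => ?_) x
  show pull hX hY f hc (c1 δY hY hL _) = c1 δ hX (PicLoc.isInvertible_pullback f hL) (pull hX hY f hc _)
  obtain ⟨a, ha, a1, a2⟩ := exists_c1 hY hL hα v hv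
  obtain ⟨b, hb, b1⟩ := PullExists.exists_pullFun (δX := δ) f c hα
  obtain ⟨a', ha', a1'⟩ := PullExists.exists_pullFun (δX := δ) f c ha
  obtain ⟨b', hb', b1', b2'⟩ := exists_c1 hX (PicLoc.isInvertible_pullback f hL) hb w hw
  have hb'' : b' ∈ Cyc.Zk X δ (k - 1 + c) := by rwa [show k - 1 + c = k + c - 1 by ring]
  rw [a2, pull_cls hX hY f hc ha rfl ha' a1', pull_cls hX hY f hc hα rfl hb b1, b2',
    cls_congr (h' := hb'') (show k + c - 1 = k - 1 + c by ring) rfl, cls_eq_iff hX]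
  exact C1K.Pull.ratEquiv_pull_c1 f hX hY hc hL rfl
    (show α ∈ Cyc.Zk Y δY (k - 1 + 1) by rwa [sub_add_cancel]) v hv w hw a' b' (by rw [a1', a1])
    (by rw [b1', b1])

/-- Pullback of a composite. -/
theorem pull_comp [IsLocallyNoetherian Z] (hZ : Cyc.IsDimFun Z δZ) (g : Y ⟶ Z) [Flat g] {c' : ℤ}
    (hc' : FP.Main.Shift g δY δZ c') (h : X ⟶ Z) [Flat h] (e : f ≫ g = h) {c'' : ℤ}
    (hc'' : FP.Main.Shift h δ δZ c'') (ec : c + c' = c'') (x : Tot Z δZ) :
    pull hX hY f hc (pull hY hZ g hc' x) = pull hX hZ h hc'' x := by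
  subst e ec
  refine DFunLike.congr_fun (hom_ext (A := (pull hX hY f hc).comp (pull hY hZ g hc'))
    (B := pull hX hZ (f ≫ g) hc'') fun k α hα => ?_) x
  show pull hX hY f hc (pull hY hZ g hc' _) = _
  obtain ⟨a, ha, a1⟩ := PullExists.exists_pullFun (δX := δY) g c' hα
  obtain ⟨b, hb, b1⟩ := PullExists.exists_pullFun (δX := δ) f c ha
  rw [pull_cls hY hZ g hc' hα rfl ha a1, pull_cls hX hY f hc ha rfl hb b1,
    pull_cls hX hZ (f ≫ g) hc'' hα (show k + c' + c = k + (c + c') by ring) hb ?_]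
  rw [b1, a1]
  exact FibLen.pullFun_comp f g δ δY δZ c c' hc hc' _

end Pull

section Push

variable [IsLocallyNoetherian X] [IsLocallyNoetherian Y] (hX : Cyc.IsDimFun X δ)
  (hY : Cyc.IsDimFun Y δY) (f : X ⟶ Y) [IsProper f] (hf : Cyc.DeltaCompat f δ δY)

/-- The projection formula. -/
theorem push_c1 {L : Y.Modules} (hL : PicF.IsInvertible L) (x : Tot X δ) :
    push hX hY f hf (c1 δ hX (PicLoc.isInvertible_pullback f hL) x) =
      c1 δY hY hL (push hX hY f hf x) := by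
  obtain ⟨v, hv⟩ := exists_sections hL
  obtain ⟨w, hw, hw'⟩ := PP.C1Push.exists_sections f hL v hv
  refine DFunLike.congr_fun (hom_ext
    (A := (push hX hY f hf).comp (c1 δ hX (PicLoc.isInvertible_pullback f hL)))
    (B := AddMonoidHom.comp (c1 δY hY hL) (push hX hY f hf)) fun k α hα => ?_) x
  show push hX hY f hf (c1 δ hX (PicLoc.isInvertible_pullback f hL) _) = c1 δY hY hL (push hX hY f hf _)
  obtain ⟨a, ha, a1, a2⟩ := exists_c1 hX (PicLoc.isInvertible_pullback f hL) hα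
    (fun ξ => PP.C1Push.pullSec f ξ (w (f ξ))) hw'
  rw [a2, push_cls hX hY f hf ha rfl (map_mem f ha), push_cls hX hY f hf hα rfl (map_mem f hα)]
  refine (c1_cls δY hY hL _ rfl _ v hv (funext fun y => ?_)).symm
  exact PP.C1Push.map_cap f hX hY hf hL
    (show α ∈ Cyc.Zk X δ (k - 1 + 1) by rwa [sub_add_cancel]) v hv w hw hw' a a1 y

end Push

end Groth.Agent.Lib.Cyc.CH
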