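import Groth.Agent.Lib.Cyc.PB.Univ

/-!
# A locally free module plus the structure module
-/

set_option autoImplicit false
universe u

open CategoryTheory CategoryTheory.Limits AlgebraicGeometry TopologicalSpace Opposite

noncomputable section

namespace Groth.Agent.Lib.Cyc.CH.AddLine

open Groth.Agent.Lib TensorMod TensorMod.Dual TensorMod.Gen TensorMod.Basis

variable {X : Scheme.{u}} {E : X.Modules} {U : X.Opens} {r : ℕ}

/-- A basis of `E` with the unit. -/
def frame (e : Fin r → Γ(E, U)) : Fin (r + 1) → Γ(E ⊞ Coh.structureModule X, U) :=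
  Fin.snoc (fun k => (biprod.inl : E ⟶ E ⊞ Coh.structureModule X).app U (e k))
    ((biprod.inr : Coh.structureModule X ⟶ E ⊞ Coh.structureModule X).app U (one X U))

theorem frame_castSucc (e : Fin r → Γ(E, U)) (k : Fin r) :
    frame e k.castSucc = (biprod.inl : E ⟶ E ⊞ Coh.structureModule X).app U (e k) :=
  Fin.snoc_castSucc ..

theorem frame_last (e : Fin r → Γ(E, U)) :
    frame e (Fin.last r) = (biprod.inr : Coh.structureModule X ⟶ E ⊞ Coh.structureModule X).app U (one X U) :=
  Fin.snoc_last ..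

theorem total (A B : X.Modules) (V : X.Opens) (x : Γ(A ⊞ B, V)) :
    (biprod.inl : A ⟶ A ⊞ B).app V ((biprod.fst : A ⊞ B ⟶ A).app V x) +
      (biprod.inr : B ⟶ A ⊞ B).app V ((biprod.snd : A ⊞ B ⟶ B).app V x) = x :=
  congr(Scheme.Modules.Hom.app $(biprod.total (X := A) (Y := B)) V x)

theorem isBasis_frame {e : Fin r → Γ(E, U)} (he : IsBasis e) : IsBasis (frame e) := by
  intro V hV
  set O := Coh.structureModule X
  set iE : E ⟶ E ⊞ O := biprod.inl
  set iO : O ⟶ E ⊞ O := biprod.inr
  set pE : E ⊞ O ⟶ E := biprod.fst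
  set pO : E ⊞ O ⟶ O := biprod.snd
  have hg := Ample.GenLocus.isGen_one (X := X) U V hV
  have key : ∀ a : Fin (r + 1) → Γ(X, V), comb (frame e) hV a =
      iE.app V (comb e hV fun k => a k.castSucc) + iO.app V (a (Fin.last r) • rs O hV (one X U)) := by
    intro a
    rw [app_comb, Scheme.Modules.Hom.app_smul, ← HomGlue.rs_app]
    simp only [comb]
    rw [Fin.sum_univ_castSucc]
    simp only [frame_castSucc, frame_last]
    rfl
  have hEE : ∀ z, pE.app V (iE.app V z) = z := fun z =>
    congr(Scheme.Modules.Hom.app $(biprod.inl_fst (X := E) (Y := O)) V z)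
  have hOO : ∀ z, pO.app V (iO.app V z) = z := fun z =>
    congr(Scheme.Modules.Hom.app $(biprod.inr_snd (X := E) (Y := O)) V z)
  have hEO : ∀ z, pO.app V (iE.app V z) = 0 := fun z =>
    congr(Scheme.Modules.Hom.app $(biprod.inl_snd (X := E) (Y := O)) V z)
  have hOE : ∀ z, pE.app V (iO.app V z) = 0 := fun z =>
    congr(Scheme.Modules.Hom.app $(biprod.inr_fst (X := E) (Y := O)) V z)
  refine ⟨fun a b hab => ?_, fun x => ?_⟩
  · rw [key, key] at hab
    have h1 := congrArg (pE.app V) hab
    have h2 := congrArg (pO.app V) hab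
    rw [map_add, map_add, hEE, hEE, hOE, hOE, add_zero, add_zero] at h1
    rw [map_add, map_add, hOO, hOO, hEO, hEO, zero_add, zero_add] at h2
    funext k
    refine Fin.lastCases ?_ (fun k => ?_) k
    · exact hg.1 h2
    · exact congrFun ((he V hV).1 h1) k
  · obtain ⟨a, ha⟩ := (he V hV).2 (pE.app V x)
    obtain ⟨b, hb⟩ := hg.2 (pO.app V x)
    refine ⟨Fin.snoc a b, ?_⟩
    rw [key]
    simp only [Fin.snoc_castSucc, Fin.snoc_last]
    rw [ha, show b • rs O hV (one X U) = pO.app V x from hb]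
    exact total E O V x

theorem rank (hE : FlatMod.IsFinLocFreeOfRank r E) :
    FlatMod.IsFinLocFreeOfRank (r + 1) (E ⊞ Coh.structureModule X) := fun x => by
  obtain ⟨U, hxU, ⟨i⟩⟩ := hE x
  obtain ⟨e, he⟩ := exists_basis_of_iso i
  exact ⟨U, hxU, exists_iso_of_basis (isBasis_frame he)⟩

end Groth.Agent.Lib.Cyc.CH.AddLine
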