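import Groth.Agent.H46.FiberStalk
import Groth.Agent.Lib.Cyc.PP.FinStalk
import Groth.Agent.Lib.AlgSpRed.Stalk
import Groth.Agent.Lib.Cyc.FieldDim
import Groth.Agent.Lib.Cyc.C1
import Groth.Agent.Lib.Snapper.Twist
import Groth.Agent.Lib.Unram.SepDegreeEtale

/-!
# Multiplicities of flat base change over finite residue field extensions
-/

set_option autoImplicit false
set_option linter.style.haveILetI false
universe u

open CategoryTheory CategoryTheory.Limits AlgebraicGeometry IsLocalRing

noncomputable section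

namespace Groth.Agent.Lib.Cyc.CH.BCLen

open Groth.Agent.Lib Groth.Agent.Lib.Cyc

theorem length_eq_of_ringEquiv {R S : Type u} [CommRing R] [CommRing S] (e : R ≃+* S) :
    Module.length R R = Module.length S S := by
  letI := e.toRingHom.toAlgebra
  exact (LinearEquiv.ofBijective (Algebra.linearMap R S) e.bijective).length_eq.trans
    (Module.length_eq_of_surjective e.surjective)

/-- The multiplicity is the length of the stalk of the fibre. -/
theorem fibLen_fiberι {X Y : Scheme.{u}} (f : X ⟶ Y) (y : Y) (z : f.fiber y) :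
    FibLen.fibLen f (f.fiberι y z) =
      Module.length ((f.fiber y).presheaf.stalk z) ((f.fiber y).presheaf.stalk z) := by
  refine (Module.length_eq_of_surjective (S := X.presheaf.stalk (f.fiberι y z))
    (R := X.presheaf.stalk (f.fiberι y z) ⧸
      (maximalIdeal (Y.presheaf.stalk (f (f.fiberι y z)))).map (f.stalkMap (f.fiberι y z)).hom)
    Ideal.Quotient.mk_surjective).trans ?_
  exact length_eq_of_ringEquiv ((Ideal.quotEquivOfEq (H46.FiberStalk.ker_stalkMap_fiberι f y z).symm).trans
    (RingHom.quotientKerEquivOfSurjective ((f.fiberι y).stalkMap_surjective z)))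

/-- A flat preimmersion is bijective on stalks. -/
theorem bijective_stalkMap {X Y : Scheme.{u}} (j : X ⟶ Y) [IsPreimmersion j] [Flat j] (t : X) :
    Function.Bijective (j.stalkMap t).hom := by
  refine ⟨?_, j.stalkMap_surjective t⟩
  letI := (j.stalkMap t).hom.toAlgebra
  haveI : IsLocalHom (algebraMap (Y.presheaf.stalk (j t)) (X.presheaf.stalk t)) :=
    inferInstanceAs (IsLocalHom (j.stalkMap t).hom)
  haveI : Module.Flat (Y.presheaf.stalk (j t)) (X.presheaf.stalk t) := Flat.stalkMap j t
  haveI : Module.FaithfullyFlat (Y.presheaf.stalk (j t)) (X.presheaf.stalk t) :=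
    Module.FaithfullyFlat.of_flat_of_isLocalHom
  exact FaithfulSMul.algebraMap_injective (Y.presheaf.stalk (j t)) (X.presheaf.stalk t)

theorem length_stalk {X Y : Scheme.{u}} (j : X ⟶ Y) [IsPreimmersion j] [Flat j] (t : X) :
    Module.length (X.presheaf.stalk t) (X.presheaf.stalk t) =
      Module.length (Y.presheaf.stalk (j t)) (Y.presheaf.stalk (j t)) :=
  (length_eq_of_ringEquiv (RingEquiv.ofBijective _ (bijective_stalkMap j t))).symm

theorem degree_preimmersion {X Y : Scheme.{u}} (j : X ⟶ Y) [IsPreimmersion j] (t : X) :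
    j.residueDegree t = 1 :=
  Residue.residueDegree_eq_one_of_surjective t (FieldDim.residueFieldMap_surjective j t)

/-- On a one-point scheme germs at the point are bijective. -/
theorem germ_bijective {S : Scheme.{u}} [Subsingleton S] {C : Type*} [Category C] {FC : C → C → Type*}
    {CC : C → Type u} [∀ A B, FunLike (FC A B) (CC A) (CC B)] [ConcreteCategory C FC] [HasColimits C]
    [PreservesFilteredColimits (CategoryTheory.forget C)] (F : TopCat.Presheaf C S.toPresheafedSpace.carrier)
    (s : S) : Function.Bijective (F.germ ⊤ s trivial) := by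
  have htop : ∀ W : S.Opens, s ∈ W → W = ⊤ := fun W hW =>
    TopologicalSpace.Opens.ext (Set.eq_univ_of_forall fun z => by rwa [Subsingleton.elim z s])
  refine ⟨fun a b h => ?_, fun v => ?_⟩
  · obtain ⟨W, hW, iW, iW', e⟩ := TopCat.Presheaf.germ_eq F (U := ⊤) (V := ⊤) s trivial trivial a b h
    obtain rfl := htop W hW
    rw [Subsingleton.elim iW (𝟙 _), Subsingleton.elim iW' (𝟙 _), op_id, F.map_id] at e
    simpa using e
  · obtain ⟨W, hW, m, rfl⟩ := TopCat.Presheaf.exists_germ_eq F v
    obtain rfl := htop W hW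
    exact ⟨m, rfl⟩

/-- Finite morphisms to a point with free direct image. -/
theorem sum_length {T S : Scheme.{u}} (r : T ⟶ S) [IsFinite r] [Subsingleton S] [IsLocallyNoetherian S]
    (s : S) (d : ℕ) (hB : letI := r.appTop.hom.toAlgebra
      Module.length Γ(S, ⊤) Γ(T, ⊤) = d * Module.length Γ(S, ⊤) Γ(S, ⊤)) :
    ∃ hf : (Set.univ : Set T).Finite,
      ∑ t ∈ hf.toFinset, Module.length (T.presheaf.stalk t) (T.presheaf.stalk t) * (r.residueDegree t : ℕ∞) =
        d * Module.length (S.presheaf.stalk s) (S.presheaf.stalk s) := by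
  haveI : IsLocallyNoetherian T := LocallyOfFiniteType.isLocallyNoetherian r
  have hpre : ∀ t, r t = s := fun t => Subsingleton.elim _ _
  have hfin0 : (⇑r ⁻¹' {s}).Finite := r.finite_preimage_singleton s
  have hd : Cyc.IsDimFun T fun _ => (0 : ℤ) := fun a b h hne => by
    exfalso
    haveI := (r.isDiscrete_preimage_singleton s).to_subtype
    have hab : (⟨a, hpre a⟩ : ⇑r ⁻¹' {s}) ⤳ ⟨b, hpre b⟩ :=
      Topology.IsInducing.subtypeVal.specializes_iff.1 h
    exact hne (congrArg Subtype.val hab.eq)
  have hfinres : ∀ t, (r.residueFieldMap t).hom.Finite := fun t =>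
    Unram.SepDegreeEtale.residueFieldMap_finite_of_quasiFiniteAt r t
      (Scheme.Hom.quasiFiniteAt r t)
  have hδ : Cyc.DeltaCompat r (fun _ => (0 : ℤ)) (fun _ => (0 : ℤ)) := fun t =>
    ⟨0, by simpa [Residue.trdegAt] using Residue.trdegAt_eq_zero_of_finite t (hfinres t), by simp⟩
  have hF : Cyc.CohLe (fun _ : T => (0 : ℤ)) 0 (Coh.structureModule T) :=
    ⟨Snapper.Twist.isCoh_structureModule T, fun _ _ => le_rfl⟩
  have key := PP.FinStalk.length_push r (Coh.structureModule T) hd hδ hF (y := s) rfl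
  refine ⟨(hfin0.subset fun t _ => hpre t), ?_⟩
  have hstalk : ∀ t, Module.length (T.presheaf.stalk t) ((Coh.structureModule T).presheaf.stalk t) =
      Module.length (T.presheaf.stalk t) (T.presheaf.stalk t) := fun t => by
    have h1 : Function.Bijective (LinearMap.toSpanSingleton (T.presheaf.stalk t)
        ((Coh.structureModule T).presheaf.stalk t) (C1.one t)) :=
      ⟨(injective_iff_map_eq_zero _).2 fun a ha => C1.eq_zero_of_smul_one_eq_zero ha, fun v => by
        obtain ⟨a, ha⟩ := Submodule.mem_span_singleton.1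
          (show v ∈ Submodule.span _ {C1.one t} by rw [C1.span_one]; trivial)
        exact ⟨a, ha⟩⟩
    exact (LinearEquiv.ofBijective _ h1).length_eq.symm
  have hnt : ∀ t : T, Nontrivial ((Coh.structureModule T).presheaf.stalk t) := fun t => by
    rw [← not_subsingleton_iff_nontrivial, ← Module.length_eq_zero_iff (R := T.presheaf.stalk t), hstalk,
      Module.length_eq_zero_iff]
    exact not_subsingleton _
  refine Eq.trans (Finset.sum_congr ?_ fun t _ => by rw [hstalk]) (key.symm.trans ?_)
  · ext t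
    simp only [Set.Finite.mem_toFinset, Set.mem_univ, true_iff]
    exact ⟨hpre t, hnt t⟩
  letI := r.appTop.hom.toAlgebra
  let e : Γ(S, ⊤) ≃+* S.presheaf.stalk s :=
    RingEquiv.ofBijective (S.presheaf.germ ⊤ s trivial).hom (germ_bijective S.presheaf s)
  let M := ((Coh.push r).obj (Coh.structureModule T)).presheaf.stalk s
  letI : Module Γ(S, ⊤) M := Module.compHom _ e.toRingHom
  have h1 : Module.length (S.presheaf.stalk s) M = Module.length Γ(S, ⊤) M := by
    letI := e.toRingHom.toAlgebra
    haveI : IsScalarTower Γ(S, ⊤) (S.presheaf.stalk s) M :=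
      ⟨fun a b m => by show (e a * b) • m = e a • b • m; rw [mul_smul]⟩
    exact (Module.length_eq_of_surjective (S := Γ(S, ⊤)) (R := S.presheaf.stalk s) (M := M) e.surjective).symm
  let g : Γ(T, ⊤) →ₗ[Γ(S, ⊤)] M :=
    { toFun := fun b => ((Coh.push r).obj (Coh.structureModule T)).presheaf.germ ⊤ s trivial b
      map_add' := fun a b => map_add (((Coh.push r).obj (Coh.structureModule T)).presheaf.germ ⊤ s trivial).hom a b
      map_smul' := fun a b =>
        Modules.StalkModule.germ_smul (M := (Coh.push r).obj (Coh.structureModule T)) (U := ⊤) trivial a b }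
  have h2 : Function.Bijective g := germ_bijective ((Coh.push r).obj (Coh.structureModule T)).presheaf s
  rw [h1, ← (LinearEquiv.ofBijective g h2).length_eq, hB, length_eq_of_ringEquiv e]

variable {X X' Y Y' : Scheme.{u}} {f : Y ⟶ X} {p : X' ⟶ X} {q : Y' ⟶ Y} {f' : Y' ⟶ X'}

/-- `Σ_{y' ↦ (x', y)} length(O_{q⁻¹y, y'}) [κ(y') : κ(x')] = [κ(y) : κ(x)] length(O_{p⁻¹x, x'})`. -/
theorem sum_fibLen [Flat p] [IsLocallyNoetherian X'] (hsq : IsPullback f' q p f) (y : Y)
    (hfin : (f.residueFieldMap y).hom.Finite) (x' : X') (hx' : p x' = f y)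
    (hmax : FibLen.IsMaxFib p x') :
    {y' : Y' | f' y' = x' ∧ q y' = y}.Finite ∧ ∑ᶠ y' ∈ {y' : Y' | f' y' = x' ∧ q y' = y},
        ((FibLen.fibLen q y').toNat : ℤ) * (f'.residueDegree y' : ℤ) =
      (f.residueDegree y : ℤ) * ((FibLen.fibLen p x').toNat : ℤ) := by
  classical
  obtain ⟨z0, rfl⟩ := FieldDim.exists_fiberι_eq p x' (f y) hx'
  let σ := Spec.map (f.residueFieldMap y)
  haveI : IsFinite σ := (IsFinite.SpecMap_iff _).2 hfin
  have hq : IsPullback (q.fiberι y) (q.fiberToSpecResidueField y) q (Y.fromSpecResidueField y) :=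
    IsPullback.of_hasPullback _ _
  have hp : IsPullback (p.fiberι (f y)) (p.fiberToSpecResidueField (f y)) p
      (X.fromSpecResidueField (f y)) := IsPullback.of_hasPullback _ _
  have houter : IsPullback (q.fiberι y ≫ f') (q.fiberToSpecResidueField y) p
      (σ ≫ X.fromSpecResidueField (f y)) := by
    have := hq.paste_horiz hsq
    rwa [← f.SpecMap_residueFieldMap_fromSpecResidueField y] at this
  let φ := hp.lift (q.fiberι y ≫ f') (q.fiberToSpecResidueField y ≫ σ)
    (by rw [houter.w, Category.assoc])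
  have hφ1 : φ ≫ p.fiberι (f y) = q.fiberι y ≫ f' := hp.lift_fst _ _ _
  have hφ2 : φ ≫ p.fiberToSpecResidueField (f y) = q.fiberToSpecResidueField y ≫ σ := hp.lift_snd _ _ _
  have hsqφ : IsPullback φ (q.fiberToSpecResidueField y) (p.fiberToSpecResidueField (f y)) σ :=
    IsPullback.of_right (by rwa [hφ1]) hφ2 hp
  haveI : IsFinite φ := MorphismProperty.of_isPullback hsqφ.flip inferInstance
  let ι0 := (p.fiber (f y)).fromSpecStalk z0
  haveI : Flat ι0 := AlgSpRed.Stalk.flat_fromSpecStalk _ z0
  let r := pullback.fst ι0 φ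
  let j := pullback.snd ι0 φ
  have hsqT : IsPullback r j ι0 φ := IsPullback.of_hasPullback ι0 φ
  haveI : IsFinite r := MorphismProperty.of_isPullback hsqT.flip inferInstance
  haveI : Flat j := MorphismProperty.of_isPullback hsqT inferInstance
  haveI : IsPreimmersion j := MorphismProperty.of_isPullback hsqT inferInstance
  have hzmax := (FieldDim.isMaxFib_iff p (f y) z0).1 hmax
  haveI hsub : Subsingleton (Spec ((p.fiber (f y)).presheaf.stalk z0) : Scheme.{u}) := ⟨fun a b => by
    have h : ∀ c, ι0 c = z0 := fun c => hzmax _ (by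
      have := Set.mem_range_self (f := ι0) c
      rwa [Scheme.range_fromSpecStalk] at this)
    exact ι0.isEmbedding.injective ((h a).trans (h b).symm)⟩
  haveI : IsNoetherianRing ((p.fiber (f y)).presheaf.stalk z0) :=
    isNoetherianRing_of_surjective _ _ _ ((p.fiberι (f y)).stalkMap_surjective z0)
  let s : (Spec ((p.fiber (f y)).presheaf.stalk z0) : Scheme.{u}) := closedPoint _
  have hs : ι0 s = z0 := Scheme.fromSpecStalk_closedPoint
  have hd : letI := r.appTop.hom.toAlgebra
      Module.length Γ(Spec ((p.fiber (f y)).presheaf.stalk z0), ⊤) Γ(pullback ι0 φ, ⊤) =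
        f.residueDegree y * Module.length Γ(Spec ((p.fiber (f y)).presheaf.stalk z0), ⊤)
          Γ(Spec ((p.fiber (f y)).presheaf.stalk z0), ⊤) := by
    have hbase : IsPullback r (j ≫ q.fiberToSpecResidueField y) (ι0 ≫ p.fiberToSpecResidueField (f y)) σ :=
      hsqT.paste_vert hsqφ
    have po := isPushout_appTop_of_isPullback hbase
    let eK := (Scheme.ΓSpecIso (X.residueField (f y))).commRingCatIsoToRingEquiv
    let eL := (Scheme.ΓSpecIso (Y.residueField y)).commRingCatIsoToRingEquiv
    algebraize [σ.appTop.hom, (ι0 ≫ p.fiberToSpecResidueField (f y)).appTop.hom, r.appTop.hom,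
      (j ≫ q.fiberToSpecResidueField y).appTop.hom,
      r.appTop.hom.comp (ι0 ≫ p.fiberToSpecResidueField (f y)).appTop.hom]
    haveI : IsScalarTower Γ(Spec (X.residueField (f y)), ⊤) Γ(Spec (Y.residueField y), ⊤) Γ(pullback ι0 φ, ⊤) :=
      IsScalarTower.of_algebraMap_eq' (congrArg CommRingCat.Hom.hom po.w)
    haveI hpo : Algebra.IsPushout Γ(Spec (X.residueField (f y)), ⊤)
        Γ(Spec ((p.fiber (f y)).presheaf.stalk z0), ⊤) Γ(Spec (Y.residueField y), ⊤) Γ(pullback ι0 φ, ⊤) :=
      CommRingCat.isPushout_iff_isPushout.1 po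
    letI : Field Γ(Spec (X.residueField (f y)), ⊤) := (MulEquiv.isField (Field.toIsField _) eK.toMulEquiv).toField
    letI := (f.residueFieldMap y).hom.toAlgebra
    haveI : Module.Finite (X.residueField (f y)) (Y.residueField y) := hfin
    have hnat : ∀ a, eL (algebraMap _ Γ(Spec (Y.residueField y), ⊤) a) =
        algebraMap (X.residueField (f y)) (Y.residueField y) (eK a) := fun a =>
      ConcreteCategory.congr_hom (Scheme.ΓSpecIso_naturality (f.residueFieldMap y)) a
    haveI : Module.Finite Γ(Spec (X.residueField (f y)), ⊤) Γ(Spec (Y.residueField y), ⊤) :=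
      Module.Finite.of_equiv_equiv eK.symm eL.symm (RingHom.ext fun a => eL.injective (by simp [hnat]))
    haveI : Nontrivial Γ(Spec ((p.fiber (f y)).presheaf.stalk z0), ⊤) :=
      (Scheme.ΓSpecIso ((p.fiber (f y)).presheaf.stalk z0)).commRingCatIsoToRingEquiv.toEquiv.nontrivial
    have hrk : Module.finrank Γ(Spec (X.residueField (f y)), ⊤) Γ(Spec (Y.residueField y), ⊤) =
        f.residueDegree y :=
      Algebra.finrank_eq_of_equiv_equiv eK eL (RingHom.ext fun a => (hnat a).symm)
    rw [← (Algebra.IsPushout.equiv Γ(Spec (X.residueField (f y)), ⊤)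
        Γ(Spec ((p.fiber (f y)).presheaf.stalk z0), ⊤) Γ(Spec (Y.residueField y), ⊤)
        Γ(pullback ι0 φ, ⊤)).toLinearEquiv.length_eq,
      Module.length_of_free_of_finite, ← hrk, Module.finrank_baseChange]
  obtain ⟨hT, hsum⟩ := sum_length r s (f.residueDegree y) hd
  have hℓ : Module.length ((Spec ((p.fiber (f y)).presheaf.stalk z0)).presheaf.stalk s)
      ((Spec ((p.fiber (f y)).presheaf.stalk z0)).presheaf.stalk s) =
        FibLen.fibLen p (p.fiberι (f y) z0) := by
    rw [length_stalk ι0 s, hs, fibLen_fiberι]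
  have hterm : ∀ t : (pullback ι0 φ : Scheme.{u}),
      FibLen.fibLen q (q.fiberι y (j t)) = Module.length ((pullback ι0 φ : Scheme.{u}).presheaf.stalk t)
        ((pullback ι0 φ : Scheme.{u}).presheaf.stalk t) ∧
      f'.residueDegree (q.fiberι y (j t)) = r.residueDegree t := fun t => by
    refine ⟨by rw [fibLen_fiberι, length_stalk j t], ?_⟩
    have e : (j ≫ q.fiberι y) ≫ f' = r ≫ ι0 ≫ p.fiberι (f y) := by
      rw [Category.assoc, ← hφ1, ← Category.assoc, ← hsqT.w, Category.assoc]
    have := congrArg (fun g => Scheme.Hom.residueDegree g t) e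
    simpa only [Residue.residueDegree_comp, degree_preimmersion, mul_one, one_mul,
      Scheme.Hom.comp_apply] using this
  have hset : {y' : Y' | f' y' = p.fiberι (f y) z0 ∧ q y' = y} =
      (fun t => q.fiberι y (j t)) '' Set.univ := by
    ext y'
    constructor
    · rintro ⟨h1, h2⟩
      obtain ⟨w, rfl⟩ := FieldDim.exists_fiberι_eq q y' y h2
      have hw : φ w = z0 := (p.fiberι (f y)).isEmbedding.injective (by
        rw [← Scheme.Hom.comp_apply, hφ1, Scheme.Hom.comp_apply, h1])
      obtain ⟨t, rfl⟩ : w ∈ Set.range j := by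
        rw [Scheme.Pullback.range_snd]
        exact ⟨s, hs.trans hw.symm⟩
      exact ⟨t, trivial, rfl⟩
    · rintro ⟨t, -, rfl⟩
      refine ⟨?_, FieldDim.apply_fiberι q y (j t)⟩
      rw [← Scheme.Hom.comp_apply, ← hφ1, Scheme.Hom.comp_apply, ← Scheme.Hom.comp_apply j φ,
        ← hsqT.w, Scheme.Hom.comp_apply, Subsingleton.elim (r t) s, hs]
  refine ⟨hset ▸ hT.image _, ?_⟩
  rw [hset, finsum_mem_image (g := fun t => q.fiberι y (j t))
      ((q.fiberι y).isEmbedding.injective.comp j.isEmbedding.injective).injOn,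
    finsum_mem_eq_finite_toFinset_sum _ hT]
  have hne : ∀ t ∈ hT.toFinset, Module.length ((pullback ι0 φ : Scheme.{u}).presheaf.stalk t)
      ((pullback ι0 φ : Scheme.{u}).presheaf.stalk t) * (r.residueDegree t : ℕ∞) ≠ ⊤ := by
    have htop : (f.residueDegree y : ℕ∞) * FibLen.fibLen p (p.fiberι (f y) z0) ≠ ⊤ :=
      WithTop.mul_ne_top (WithTop.natCast_ne_top _) ((FibLen.fibLen_ne_top_iff _ _).2 hmax)
    rw [← hℓ, ← hsum] at htop
    exact fun t ht => WithTop.sum_ne_top.1 htop t ht
  have e := congrArg ENat.toNat hsum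
  rw [PP.FinStalk.toNat_sum _ _ hne, hℓ, ENat.toNat_mul, ENat.toNat_natCast] at e
  rw [← Nat.cast_mul, ← e, Nat.cast_sum]
  refine Finset.sum_congr rfl fun t _ => ?_
  rw [(hterm t).1, (hterm t).2, ENat.toNat_mul, ENat.toNat_natCast, Nat.cast_mul]

end Groth.Agent.Lib.Cyc.CH.BCLen
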