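import Groth.Agent.Lib.Cyc.CH.FrameBC
import Groth.Agent.Lib.Cyc.PP.GysPush

/-!
# Base change of projective bundles
-/

set_option autoImplicit false
universe u

open CategoryTheory AlgebraicGeometry

noncomputable section

namespace Groth.Agent.Lib.Cyc.CH

open Groth.Agent.Lib Groth.Agent.Lib.Cyc

variable {X Y P P' : Scheme.{u}} {π : P ⟶ X} {π' : P' ⟶ Y} {f : Y ⟶ X} {f' : P' ⟶ P}

theorem Bdl.baseChange {O1 : P.Modules} {n : ℕ} {δP : P → ℤ} {δ : X → ℤ} (B : Bdl π O1 n δP δ)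
    (hsq : IsPullback f' π' π f) {δP' : P' → ℤ} {δY : Y → ℤ} (hY : Cyc.IsDimFun Y δY)
    (hP' : Cyc.IsDimFun P' δP') (hδ : Cyc.DeltaCompat π' δP' δY) :
    Bdl π' ((Scheme.Modules.pullback f').obj O1) n δP' δY :=
  ⟨hY, hP', hδ, PicLoc.isInvertible_pullback f' B.inv,
    fun η => FrameBC.nonempty_frame hsq η (B.frames (f η))⟩

end Groth.Agent.Lib.Cyc.CH
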