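import Groth.Agent.Lib.Cyc.CH.P1Extend
import Groth.Agent.H26.BlowSmooth
import Groth.Agent.S9787
import Groth.Agent.S2421
import Groth.Agent.Lib.BlowUpExists.Proper
import Groth.Agent.S2348

/-!
# The exceptional fibre of the blow-up of a smooth variety at a closed point
-/

set_option autoImplicit false
set_option linter.style.haveILetI false
universe u

open CategoryTheory CategoryTheory.Limits AlgebraicGeometry TopologicalSpace
open Groth.Agent.H26

noncomputable section

namespace Groth.Agent.Lib.Cyc.CH.BlowPt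

open Groth.Agent.Lib Groth.Agent.Lib.Cyc Groth.Agent.Lib.Cyc.CH.RatConn

variable {k : Type u} [Field k] [IsAlgClosed k] {X X' : Scheme.{u}}

/-- Parameters at a closed point: generators of its ideal on an affine open, with the evaluation. -/
theorem exists_params (pX : X ⟶ Spec (CommRingCat.of k)) [Smooth pX] [IsSeparated pX] {x : X}
    (hx : IsClosed ({x} : Set X)) :
    ∃ (U : X.affineOpens) (c : ℕ) (a : Fin c → Γ(X, U.1)) (q : Γ(X, U.1) →+* k), x ∈ U.1 ∧
      CAlgX.IsQuasiRegular a ∧
      (Scheme.IdealSheafData.vanishingIdeal ⟨{x}, hx⟩).ideal U = Ideal.span (Set.range a) ∧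
      (∀ r ∈ Ideal.span (Set.range a), q r = 0) ∧
      Spec.map (CommRingCat.ofHom q) ≫ U.2.fromSpec = pointOfClosedPoint pX x hx := by
  let i := pointOfClosedPoint pX x hx
  have hi : i ≫ pX = 𝟙 _ := pointOfClosedPoint_comp pX x hx
  haveI : IsClosedImmersion (i ≫ pX) := by rw [hi]; infer_instance
  haveI : IsClosedImmersion i := IsClosedImmersion.of_comp i pX
  haveI : Smooth (i ≫ pX) := by rw [hi]; infer_instance
  obtain ⟨-, U, -, c, a, hzU, ha, hI, -⟩ :=
    Groth.Agent.S9787.exists_local_data pX i (IsLocalRing.closedPoint k)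
  have hxU : x ∈ U.1 := by
    rwa [show i (IsLocalRing.closedPoint k) = x from pointOfClosedPoint_apply pX x hx _] at hzU
  have htop : (⊤ : (Spec (CommRingCat.of k)).Opens) ≤ i ⁻¹ᵁ U.1 := fun z _ => by
    show i z ∈ U.1
    rwa [show i z = x from pointOfClosedPoint_apply pX x hx z]
  let q : Γ(X, U.1) →+* k := (i.appLE U.1 ⊤ htop ≫ (Scheme.ΓSpecIso (CommRingCat.of k)).hom).hom
  have hqs : Spec.map (CommRingCat.ofHom q) ≫ U.2.fromSpec = i := by
    rw [show CommRingCat.ofHom q = i.appLE U.1 ⊤ htop ≫ (Scheme.ΓSpecIso (CommRingCat.of k)).hom from rfl,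
      Spec.map_comp, Category.assoc,
      IsAffineOpen.SpecMap_appLE_fromSpec i U.2 (isAffineOpen_top _) htop, IsAffineOpen.fromSpec_top]
    simp [Scheme.isoSpec_Spec_inv]
  have hker : i.ker.ideal U = RingHom.ker q := by
    rw [Scheme.Hom.ker_apply]
    ext r
    have hinj : Function.Injective ((Spec (CommRingCat.of k)).presheaf.map (homOfLE htop).op ≫
        (Scheme.ΓSpecIso (CommRingCat.of k)).hom).hom := by
      haveI : IsIso (homOfLE htop) := ⟨homOfLE le_top, Subsingleton.elim _ _, Subsingleton.elim _ _⟩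
      exact (ConcreteCategory.bijective_of_isIso _).1
    rw [RingHom.mem_ker, RingHom.mem_ker]
    exact ⟨fun h => by
      show ((Spec (CommRingCat.of k)).presheaf.map (homOfLE htop).op ≫ _).hom ((i.app U.1).hom r) = 0
      rw [h, map_zero], fun h => hinj (by rw [map_zero]; exact h)⟩
  have hsurj : Function.Surjective q := fun z => by
    refine ⟨(pX.appLE ⊤ U.1 le_top).hom ((Scheme.ΓSpecIso (CommRingCat.of k)).inv.hom z), ?_⟩
    show ((Scheme.ΓSpecIso (CommRingCat.of k)).inv ≫ pX.appLE ⊤ U.1 le_top ≫ i.appLE U.1 ⊤ htop ≫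
      (Scheme.ΓSpecIso (CommRingCat.of k)).hom).hom z = z
    rw [Scheme.Hom.appLE_comp_appLE_assoc]
    simp only [hi]
    simp [Scheme.Hom.appLE]
  haveI : (RingHom.ker q).IsMaximal := RingHom.ker_isMaximal_of_surjective q hsurj
  have hle : i.ker ≤ Scheme.IdealSheafData.vanishingIdeal ⟨{x}, hx⟩ := by
    rw [← Scheme.IdealSheafData.le_support_iff_le_vanishingIdeal]
    intro z (hz : z = x)
    rw [hz, ← show i (IsLocalRing.closedPoint k) = x from pointOfClosedPoint_apply pX x hx _]
    exact i.range_subset_ker_support ⟨_, rfl⟩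
  have hV : (Scheme.IdealSheafData.vanishingIdeal ⟨{x}, hx⟩).ideal U = RingHom.ker q := by
    refine (Ideal.IsMaximal.eq_of_le inferInstance (fun h => ?_) (hker ▸ hle U)).symm
    have hxs : x ∈ (Scheme.IdealSheafData.vanishingIdeal ⟨{x}, hx⟩).support := by
      rw [← SetLike.mem_coe, Scheme.IdealSheafData.coe_support_vanishingIdeal]; rfl
    rw [Scheme.IdealSheafData.mem_support_iff_of_mem hxU, h, Scheme.mem_zeroLocus_iff] at hxs
    exact hxs 1 Submodule.mem_top (by rw [Scheme.basicOpen_of_isUnit _ isUnit_one]; exact hxU)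
  exact ⟨U, c, a, q, hxU, H1Quasi.isQuasiRegular ha, hV.trans (hker.symm.trans hI),
    fun r hr => by rw [← RingHom.mem_ker, ← hker, hI]; exact hr, hqs⟩

/-- An affine space covering a chart of the fibre over the blown-up point. -/
theorem exists_piece (pX : X ⟶ Spec (CommRingCat.of k)) [Smooth pX] [IsSeparated pX] {x : X}
    (hx : IsClosed ({x} : Set X)) (b : X' ⟶ X)
    (hb : BlowUp.IsBlowUp b (Scheme.IdealSheafData.vanishingIdeal ⟨{x}, hx⟩)) [IsProper (b ≫ pX)]
    (z : X') (hz : b z = x) :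
    ∃ D : X'.Opens, z ∈ D ∧ ∀ e e' : X', e ∈ D → e' ∈ D → b e = x → b e' = x →
      IsClosed ({e} : Set X') → IsClosed ({e'} : Set X') →
        Cyc.RatEquiv (FieldDim.fdelta (b ≫ pX)) 0 (pc e) (pc e') := by
  classical
  obtain ⟨U, c, a, q, hxU, ha, hI, hq, hqs⟩ := exists_params pX hx
  obtain ⟨j, D, hD, hDU, e₀, hzD, he⟩ := BlowSmooth.exists_chart hb z (U := U) (hz ▸ hxU) a hI
  refine ⟨D, hzD, fun e e' heD he'D hex he'x hec he'c => ?_⟩
  let θ : MvPolynomial {i : Fin c // i ≠ j} Γ(X, U.1) →+* Γ(X', D) :=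
    e₀.toRingHom.comp (BlowChart.evalChart a j).toRingHom
  have hθs : Function.Surjective θ := e₀.surjective.comp (BlowChart.evalChart_surjective a j)
  have hθk : RingHom.ker θ ≤ RingHom.ker (MvPolynomial.map q) := fun f hf => by
    have h0 : e₀ (BlowChart.evalChart a j f) = 0 := hf
    refine BlowChart.map_eq_zero_of_mem ha q hq f ?_
    rw [e₀.map_eq_zero_iff.1 h0]
    exact zero_mem _
  let H : Γ(X', D) →+* MvPolynomial {i : Fin c // i ≠ j} k :=
    θ.liftOfSurjective hθs ⟨MvPolynomial.map q, hθk⟩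
  have hH : ∀ f, H (θ f) = MvPolynomial.map q f := fun f =>
    RingHom.liftOfRightInverse_comp_apply θ _ _ ⟨MvPolynomial.map q, hθk⟩ f
  have hβ : ∀ r, θ (MvPolynomial.C r) = b.appLE U.1 D hDU r := fun r => by
    rw [← he r]
    simp [θ]
  let h : Spec (CommRingCat.of (MvPolynomial {i : Fin c // i ≠ j} k)) ⟶ X' :=
    Spec.map (CommRingCat.ofHom H) ≫ hD.fromSpec
  have hh : h ≫ b ≫ pX = Spec.map (CommRingCat.ofHom (MvPolynomial.C)) := by
    have hc : b.appLE U.1 D hDU ≫ CommRingCat.ofHom H =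
        CommRingCat.ofHom q ≫ CommRingCat.ofHom MvPolynomial.C :=
      CommRingCat.hom_ext (RingHom.ext fun r => by
        show H (b.appLE U.1 D hDU r) = MvPolynomial.C (q r)
        rw [← hβ, hH, MvPolynomial.map_C])
    rw [Category.assoc, ← reassoc_of% IsAffineOpen.SpecMap_appLE_fromSpec b U.2 hD hDU,
      ← Spec.map_comp_assoc, hc, Spec.map_comp_assoc, reassoc_of% hqs, pointOfClosedPoint_comp,
      Category.comp_id]
  have key : ∀ y : X', y ∈ D → b y = x → IsClosed ({y} : Set X') → ∃ v : {i : Fin c // i ≠ j} → k,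
      h (Spec.map (CommRingCat.ofHom (MvPolynomial.eval v)) (IsLocalRing.closedPoint k)) = y := by
    intro y hyD hyx hyc
    let P := pointOfClosedPoint (b ≫ pX) y hyc
    have hr : Set.range P ⊆ Set.range hD.fromSpec := by
      rintro _ ⟨w, rfl⟩
      rw [show P w = y from pointOfClosedPoint_apply (b ≫ pX) y hyc w, hD.range_fromSpec]
      exact hyD
    let L := IsOpenImmersion.lift hD.fromSpec P hr
    let χ : Γ(X', D) →+* k := (Spec.preimage L).hom
    have hχ : Spec.map (CommRingCat.ofHom χ) ≫ hD.fromSpec = P := by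
      rw [show CommRingCat.ofHom χ = Spec.preimage L from rfl, Spec.map_preimage]
      exact IsOpenImmersion.lift_fac _ _ _
    have hPb : P ≫ b = pointOfClosedPoint pX x hx := by
      refine ext_of_apply_closedPoint_eq pX ?_ (pointOfClosedPoint_comp pX x hx) ?_
      · rw [Category.assoc]; exact pointOfClosedPoint_comp (b ≫ pX) y hyc
      · rw [Scheme.Hom.comp_apply, pointOfClosedPoint_apply, pointOfClosedPoint_apply, hyx]
    have hc : b.appLE U.1 D hDU ≫ CommRingCat.ofHom χ = CommRingCat.ofHom q := by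
      refine Spec.map_injective ((cancel_mono U.2.fromSpec).1 ?_)
      rw [Spec.map_comp, Category.assoc, IsAffineOpen.SpecMap_appLE_fromSpec b U.2 hD hDU,
        ← Category.assoc, hχ, hPb, hqs]
    refine ⟨fun i => χ (θ (MvPolynomial.X i)), ?_⟩
    have e1 : (MvPolynomial.eval fun i => χ (θ (MvPolynomial.X i))).comp H = χ := by
      refine RingHom.ext fun d => ?_
      obtain ⟨f, rfl⟩ := hθs d
      rw [RingHom.comp_apply, hH]
      refine DFunLike.congr_fun (MvPolynomial.ringHom_ext (f := ((MvPolynomial.eval fun i =>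
        χ (θ (MvPolynomial.X i))).comp (MvPolynomial.map q))) (g := χ.comp θ) (fun r => ?_) fun i => ?_) f
      · simp only [RingHom.comp_apply, MvPolynomial.map_C, MvPolynomial.eval_C, hβ]
        exact (congrArg (fun g => g.hom r) hc).symm
      · simp
    show (Spec.map (CommRingCat.ofHom H) ≫ hD.fromSpec) _ = y
    rw [← Scheme.Hom.comp_apply, ← Spec.map_comp_assoc, ← CommRingCat.ofHom_comp, e1, hχ]
    exact pointOfClosedPoint_apply (b ≫ pX) y hyc _
  obtain ⟨v, hv⟩ := key e heD hex hec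
  obtain ⟨w, hw⟩ := key e' he'D he'x he'c
  exact affine_ratEquiv (b ≫ pX) h hh v w hec he'c hv hw

end Groth.Agent.Lib.Cyc.CH.BlowPt
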