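import Groth.Agent.Lib.Cyc.CH.BlowPtConn
import Groth.Agent.Lib.Cyc.SmoothReg
import Groth.Agent.Lib.Regular.UFD
import Groth.Agent.Lib.Ideal.BlowUp
import Groth.Agent.S2348
import Groth.Agent.S2421

/-!
# Closed points of the exceptional fibre are rationally equivalent
-/

set_option autoImplicit false
set_option linter.style.haveILetI false
universe u

open CategoryTheory CategoryTheory.Limits AlgebraicGeometry TopologicalSpace

noncomputable section

namespace Groth.Agent.Lib.Cyc.CH.BlowPt

open Groth.Agent.Lib Groth.Agent.Lib.Cyc Groth.Agent.Lib.Cyc.CH.RatConn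

variable {k : Type u} [Field k] [IsAlgClosed k] {X X' : Scheme.{u}}
  (pX : X ⟶ Spec (CommRingCat.of k)) [IsProper pX] {x : X} (hx : IsClosed ({x} : Set X))
  (b : X' ⟶ X) (hb : BlowUp.IsBlowUp b (Scheme.IdealSheafData.vanishingIdeal ⟨{x}, hx⟩))

include pX hb in
theorem isProper : IsProper b := by
  haveI : IsLocallyNoetherian X := LocallyOfFiniteType.isLocallyNoetherian pX
  exact BlowUpExists.isProper_of_isBlowUp hb fun U => by
    haveI : IsNoetherianRing Γ(X, U.1) := IsLocallyNoetherian.component_noetherian U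
    exact IsNoetherian.noetherian _

variable [Smooth pX] [IsIntegral X] (hne : genericPoint X ≠ x)

omit [IsAlgClosed k] in
include pX hb hne in
theorem isIntegral_generic : ∃ (_ : IsIntegral X'), b (genericPoint X') = genericPoint X := by
  have hI : Scheme.IdealSheafData.vanishingIdeal ⟨{x}, hx⟩ ≠ ⊥ := fun h => by
    have h1 : (Scheme.IdealSheafData.vanishingIdeal ⟨{x}, hx⟩).support = ⊤ := by
      rw [h, Scheme.IdealSheafData.support_bot]
    have h2 : genericPoint X ∈ ((Scheme.IdealSheafData.vanishingIdeal ⟨{x}, hx⟩).support : Set X) := by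
      rw [h1]; trivial
    rw [Scheme.IdealSheafData.coe_support_vanishingIdeal] at h2
    exact hne h2
  obtain ⟨h, hg, -⟩ := Groth.Agent.S2348.result _ hI b hb
  exact ⟨h, hg⟩

include pX hb hne in
theorem isPreconnected_fibre : _root_.IsPreconnected (⇑b ⁻¹' {x}) := by
  obtain ⟨hint, hgen⟩ := isIntegral_generic pX hx b hb hne
  haveI := hint
  haveI := isProper pX hx b hb
  haveI : IsLocallyNoetherian X := LocallyOfFiniteType.isLocallyNoetherian pX
  haveI : IsLocallyNoetherian X' := LocallyOfFiniteType.isLocallyNoetherian b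
  have h : b.base (genericPoint X') ⤳ x := hgen ▸ genericPoint_specializes x
  haveI : IsRegularLocalRing (X.presheaf.stalk x) := Cyc.SmoothReg.isRegularLocalRing_stalk pX x
  haveI : IsIntegrallyClosed (X.presheaf.stalk x) := Regular.UFD.isIntegrallyClosed _
  have hoff : genericPoint X' ∉ ((Scheme.IdealSheafData.vanishingIdeal ⟨{x}, hx⟩).comap b).support := by
    rw [← SetLike.mem_coe, Scheme.IdealSheafData.support_comap]
    intro h'
    change b (genericPoint X') ∈ ((Scheme.IdealSheafData.vanishingIdeal ⟨{x}, hx⟩).support : Set X) at h'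
    rw [Scheme.IdealSheafData.coe_support_vanishingIdeal, hgen] at h'
    exact hne h'
  have hbij := Lib.Ideal.BlowUp.bijective_stalkMap_off hb _ hoff
  let ψ := CohIII.stalkToFunctionField b x h
  letI := ψ.toAlgebra
  have hin : ∀ y : X'.functionField, IsIntegral (X.presheaf.stalk x) y → y ∈ Set.range ψ := by
    intro y hy
    have key : ∀ (g : X) (hg : g = genericPoint X) (hgx : g ⤳ x) (φ : X.presheaf.stalk g →+* X'.functionField),
        Function.Bijective φ → φ.comp (X.presheaf.stalkSpecializes hgx).hom = ψ →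
        y ∈ Set.range ψ := by
      rintro g rfl hgx φ hφ hφψ
      let eqv := RingEquiv.ofBijective φ hφ
      have h1 : IsIntegral (X.presheaf.stalk x) (eqv.symm y) := by
        let f : X'.functionField →ₐ[X.presheaf.stalk x] X.functionField :=
          { eqv.symm.toRingHom with
            commutes' := fun r => eqv.symm_apply_eq.2 (RingHom.congr_fun hφψ r).symm }
        exact hy.map f
      obtain ⟨r, hr⟩ := (IsIntegrallyClosed.isIntegral_iff (K := X.functionField)).1 h1
      exact ⟨r, by rw [← hφψ]; exact eqv.eq_symm_apply.1 hr⟩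
    exact key _ hgen h (b.stalkMap (genericPoint X')).hom hbij rfl
  let S := CohIII.integralClosureStalk b x h
  let ψS : X.presheaf.stalk x →+* S := ψ.codRestrict S fun r => isIntegral_algebraMap
  have hs : Function.Surjective ψS := fun s => by
    obtain ⟨r, hr⟩ := hin s.1 s.2
    exact ⟨r, Subtype.ext hr⟩
  haveI : Nontrivial S := inferInstance
  haveI : IsLocalRing S := IsLocalRing.of_surjective' ψS hs
  haveI : Subsingleton (MaximalSpectrum S) := ⟨fun p q => MaximalSpectrum.ext
    ((IsLocalRing.eq_maximalIdeal p.isMaximal).trans (IsLocalRing.eq_maximalIdeal q.isMaximal).symm)⟩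
  have hc := Groth.Agent.S2421.result b hgen x h
  haveI : Subsingleton (_root_.ConnectedComponents (b.fiber x)) :=
    Cardinal.le_one_iff_subsingleton.1 (hc.trans (Cardinal.le_one_iff_subsingleton.2 inferInstance))
  haveI : PreconnectedSpace (b.fiber x) := ⟨isPreconnected_of_forall_pair fun p _ q _ =>
    ⟨connectedComponent p, Set.subset_univ _, mem_connectedComponent,
      by
        rw [ConnectedComponents.coe_eq_coe.1 (Subsingleton.elim (p : _root_.ConnectedComponents (b.fiber x)) q)]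
        exact mem_connectedComponent, isPreconnected_connectedComponent⟩⟩
  have := isPreconnected_range (f := b.fiberι x) (b.fiberι x).continuous
  rwa [Scheme.Hom.range_fiberι] at this

include hb hne in
/-- Any two closed points over the blown-up point are rationally equivalent. -/
theorem fibre_ratEquiv {e e' : X'} (hec : IsClosed ({e} : Set X')) (he'c : IsClosed ({e'} : Set X'))
    (hex : b e = x) (he'x : b e' = x) :
    Cyc.RatEquiv (FieldDim.fdelta (b ≫ pX)) 0 (pc e) (pc e') := by
  haveI := isProper pX hx b hb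
  haveI : IsLocallyNoetherian X' := LocallyOfFiniteType.isLocallyNoetherian (b ≫ pX)
  haveI : JacobsonSpace X' := LocallyOfFiniteType.jacobsonSpace (b ≫ pX)
  have hd := FieldDim.isDimFun_fdelta (b ≫ pX)
  choose D hD hDr using fun z : (⇑b ⁻¹' {x} : Set X') => exists_piece pX hx b hb z.1 z.2
  let T : Set X' := ⇑b ⁻¹' {x}
  have hT : IsClosed T := hx.preimage b.continuous
  let good : T → Prop := fun z => ∃ y, y ∈ D z ∧ b y = x ∧ IsClosed ({y} : Set X') ∧
    Cyc.RatEquiv (FieldDim.fdelta (b ≫ pX)) 0 (pc e) (pc y)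
  let O1 : Set X' := ⋃ z ∈ {z : T | good z}, (D z : Set X')
  let O2 : Set X' := ⋃ z ∈ {z : T | ¬ good z}, (D z : Set X')
  by_cases hg : good ⟨e', he'x⟩
  · obtain ⟨y, hy, hyx, hyc, hr⟩ := hg
    exact Ord.ratEquiv_trans hr (hDr ⟨e', he'x⟩ y e' hy (hD _) hyx he'x hyc he'c)
  exfalso
  obtain ⟨y, hyT, hy1, hy2⟩ := isPreconnected_fibre pX hx b hb hne O1 O2
    (isOpen_biUnion fun z _ => (D z).isOpen) (isOpen_biUnion fun z _ => (D z).isOpen)
    (fun z hz => by
      by_cases h : good ⟨z, hz⟩
      · exact Or.inl (Set.mem_biUnion (show (⟨z, hz⟩ : T) ∈ {z : T | good z} from h) (hD ⟨z, hz⟩))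
      · exact Or.inr (Set.mem_biUnion (show (⟨z, hz⟩ : T) ∈ {z : T | ¬ good z} from h) (hD ⟨z, hz⟩)))
    ⟨e, hex, Set.mem_biUnion (show (⟨e, hex⟩ : T) ∈ {z : T | good z} from
      ⟨e, hD _, hex, hec, Ord.ratEquiv_refl _ _ _⟩) (hD ⟨e, hex⟩)⟩
    ⟨e', he'x, Set.mem_biUnion (show (⟨e', he'x⟩ : T) ∈ {z : T | ¬ good z} from hg) (hD ⟨e', he'x⟩)⟩
  obtain ⟨z₁, hz₁, hyz₁⟩ := Set.mem_iUnion₂.1 hy1
  obtain ⟨z₂, hz₂, hyz₂⟩ := Set.mem_iUnion₂.1 hy2
  obtain ⟨w, ⟨hwT, hw1, hw2⟩, hwc⟩ := nonempty_inter_closedPoints (Z := T ∩ ((D z₁ : Set X') ∩ (D z₂ : Set X')))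
    ⟨y, hyT, hyz₁, hyz₂⟩ (hT.isLocallyClosed.inter ((D z₁).isOpen.inter (D z₂).isOpen).isLocallyClosed)
  obtain ⟨v, hv, hvx, hvc, hr⟩ := hz₁
  exact hz₂ ⟨w, hw2, hwT, hwc, Ord.ratEquiv_trans hr (hDr z₁ v w hv hw1 hvx hwT hvc hwc)⟩

end Groth.Agent.Lib.Cyc.CH.BlowPt
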