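import Groth.Agent.Lib.Cyc.CH.Square
import Groth.Agent.Lib.Cyc.PP.P1Graph
import Groth.Agent.Lib.Cyc.InducedDimFun

/-!
# Chern operators commute
-/

set_option autoImplicit false
set_option linter.style.haveILetI false
universe u

open CategoryTheory CategoryTheory.Limits AlgebraicGeometry

noncomputable section

namespace Groth.Agent.Lib.Cyc.CH

open Groth.Agent.Lib Groth.Agent.Lib.Cyc

variable {X P Q : Scheme.{u}} [IsLocallyNoetherian X] [IsLocallyNoetherian P] [IsLocallyNoetherian Q]
  {π : P ⟶ X} {π' : Q ⟶ X} [IsProper π] [IsProper π'] {δ : X → ℤ} {δP : P → ℤ} {δQ : Q → ℤ}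
  {O1 : P.Modules} {O1' : Q.Modules} {n m : ℕ} (B : Bdl π O1 n δP δ) (B' : Bdl π' O1' m δQ δ)

include B in
/-- Chern operators commute with `c₁`. -/
theorem Bdl.ch_c1 {L : X.Modules} (hL : PicF.IsInvertible L) (j : ℕ) (x : Tot X δ) :
    c1 δ B.dimX hL (B.ch j x) = B.ch j (c1 δ B.dimX hL x) := by
  haveI := B.flat
  exact B.intertwine B (c1 δ B.dimX hL) (c1 δP B.dimP (PicLoc.isInvertible_pullback π hL))
    (fun z => c1_comm B.dimP _ _ z) (fun z => (pull_c1 B.dimP B.dimX π B.shift hL z).symm) j x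

include B B' in
/-- Chern operators of two bundles commute. -/
theorem Bdl.ch_comm (hPuc : ∀ t : P, CAlg.IsUniversallyCatenary (P.presheaf.stalk t)) (i j : ℕ)
    (x : Tot X δ) : B.ch i (B'.ch j x) = B'.ch j (B.ch i x) := by
  have sq : IsPullback (pullback.snd π π') (pullback.fst π π') π' π :=
    (IsPullback.of_hasPullback π π').flip
  haveI : IsLocallyNoetherian (pullback π π') :=
    LocallyOfFiniteType.isLocallyNoetherian (pullback.fst π π')
  obtain ⟨δW, hW⟩ := PP.P1Graph.exists_deltaCompat (pullback.fst π π') δP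
  have hWd : Cyc.IsDimFun (pullback π π' : Scheme.{u}) δW :=
    InducedDimFun.isDimFun (pullback.fst π π') B.dimP hPuc hW
  haveI := B.flat
  haveI := B'.flat
  have hW' : Cyc.DeltaCompat (pullback.snd π π') δW δQ :=
    deltaCompat_of_comm sq.w B'.compat hW B.compat
  have Bq := B'.baseChange sq B.dimP hWd hW
  have Bp := B.baseChange sq.flip B'.dimP hWd hW'
  have := Bp.flat
  refine (B.intertwine B (B'.ch j) (Bq.ch j) (fun z => ?_) (fun z => ?_) i x).symm
  · exact (Bq.ch_c1 B.inv j z).symm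
  · exact (B'.pull_ch sq Bq B.shift Bp.shift j z).symm

end Groth.Agent.Lib.Cyc.CH
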