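import Groth.Agent.Lib.Cyc.CH.AddLine
import Groth.Agent.Lib.Cyc.CH.BdlUniq
import Groth.Agent.Lib.Modules.ZeroLocus
import Groth.Agent.Lib.SymAlg.Sections
import Groth.Agent.Lib.QCAlgPush.Basic
import Groth.Agent.Lib.TensorMod.QCohInv
import Mathlib.LinearAlgebra.SymmetricAlgebra.Basis

/-!
# A vector bundle is open in its projective completion
-/

set_option autoImplicit false
set_option linter.style.haveILetI false
universe u

open CategoryTheory CategoryTheory.Limits AlgebraicGeometry TopologicalSpace Opposite MvPolynomial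
open ZarCoh.FlatBC.PullbackSections

noncomputable section

namespace Groth.Agent.Lib.Cyc.CH.Completion

open Groth.Agent.Lib TensorMod TensorMod.Dual TensorMod.Gen TensorMod.Basis Groth.Agent.Lib.Cyc
  PB PB.Univ PB.Sect AddLine

variable {X P : Scheme.{u}} {E : X.Modules} {π : P ⟶ X} {O1 : P.Modules}
  (q : (Scheme.Modules.pullback π).obj (E ⊞ Coh.structureModule X) ⟶ O1) {r : ℕ}

/-- The section at infinity, as a map of modules. -/
def inf : (Scheme.Modules.pullback π).obj (Coh.structureModule X) ⟶ O1 :=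
  (Scheme.Modules.pullback π).map biprod.inr ≫ q

theorem inf_app {U : X.Opens} (e : Fin r → Γ(E, U)) {V : P.Opens} (hV : V ≤ π ⁻¹ᵁ U) :
    (inf q).app V (pbRes π (Coh.structureModule X) hV (one X U)) =
      rs O1 hV (sec q (frame e) (Fin.last r)) := by
  rw [sec, HomGlue.rs_app, rs_pbRes, frame_last, ← DescAlg.PbSec.pbRes_natural π _ _]
  rfl

section Zero

variable [E.IsQuasicoherent] (hinv : PicF.IsInvertible O1)

include hinv in
/-- The zero locus of the section at infinity misses exactly the last charts. -/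
theorem exists_zeroLocus : ∃ (W : Scheme.{u}) (ι : W ⟶ P) (_ : IsClosedImmersion ι),
    (Scheme.Modules.pullback ι).map (inf q) = 0 ∧
      ∀ (U : X.Opens) (e : Fin r → Γ(E, U)) (x : P), π x ∈ U →
        (x ∉ Set.range ι ↔ x ∈ locus q (frame e) (Fin.last r)) := by
  haveI : O1.IsQuasicoherent := TensorMod.QCohInv.isQCoh_of_isInvertible hinv
  have hO : PicF.IsInvertible ((Scheme.Modules.pullback π).obj (Coh.structureModule X)) :=
    PicLoc.isInvertible_pullback π (TensorMod.LocFree.isInvertible_of_rank_one (rank_one_structure X))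
  haveI : ((Scheme.Modules.pullback π).obj (Coh.structureModule X)).IsQuasicoherent :=
    TensorMod.QCohInv.isQCoh_of_isInvertible hO
  have hF := TensorMod.LocFree.of_rank (TensorMod.LocFree.of_isInvertible hinv)
  let I := Modules.ZeroLocus.idealSheaf (inf q) hF
  refine ⟨I.subscheme, I.subschemeι, inferInstance,
    (Modules.ZeroLocus.factors_iff (inf q) hF I.subschemeι).1 ⟨𝟙 _, Category.id_comp _⟩, ?_⟩
  intro U e x hx
  obtain ⟨W₀, g₀, hxW₀, hg₀⟩ := isInvertible_iff.1 hinv x
  obtain ⟨V, hV, hxV, hVW⟩ := exists_isAffineOpen_mem_and_subset (X := P) (x := x)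
    (U := W₀ ⊓ π ⁻¹ᵁ U) ⟨hxW₀, hx⟩
  have hVU : V ≤ π ⁻¹ᵁ U := hVW.trans inf_le_right
  set g := rs O1 (hVW.trans inf_le_left) g₀
  have hg : IsGen O1 V g := hg₀.res _
  obtain ⟨a, ha⟩ : ∃ a : Γ(P, V), a • g = rs O1 hVU (sec q (frame e) (Fin.last r)) := by
    obtain ⟨a, ha⟩ := (hg V le_rfl).2 (rs O1 hVU (sec q (frame e) (Fin.last r)))
    exact ⟨a, by simpa only [rs_self] using ha⟩
  have hloc : x ∈ locus q (frame e) (Fin.last r) ↔ x ∈ P.basicOpen a := by
    constructor
    · intro hl
      have hlg := (isGen_locus (q := q) (frame e) (Fin.last r)).res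
        (inf_le_left : locus q (frame e) (Fin.last r) ⊓ V ≤ _)
      rw [rs_rs, ← rs_rs O1 hVU inf_le_right, ← ha, rs_smul] at hlg
      have hu := Ample.GenLocus.isUnit_of_isGen_smul (hg.res inf_le_right) hlg
      have hb := P.basicOpen_of_isUnit hu
      have : x ∈ P.basicOpen (rf (inf_le_right : locus q (frame e) (Fin.last r) ⊓ V ≤ V) a) := by
        rw [hb]; exact ⟨hl, hxV⟩
      rw [rf, Scheme.basicOpen_res] at this
      exact this.2
    · intro hb
      refine Opens.mem_sSup.2 ⟨P.basicOpen a, ⟨(P.basicOpen_le a).trans hVU, ?_⟩, hb⟩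
      rw [← rs_rs O1 hVU (P.basicOpen_le a), ← ha, rs_smul]
      exact GenLocal.isGen_smul (hg.res _) (RingedSpace.isUnit_res_basicOpen _ a)
  have hI : I.ideal ⟨V, hV⟩ = Ideal.span {a} := by
    have h1 : I.ideal ⟨V, hV⟩ = Ideal.span (Modules.ZeroLocus.vals (inf q) V) := rfl
    rw [h1]
    have hone := isGen_pbRes π (Ample.GenLocus.isGen_one (X := X) U) hVU
    refine le_antisymm (Ideal.span_le.2 ?_) ((Ideal.span_singleton_le_iff_mem _).2 (Ideal.subset_span ?_))
    · rintro _ ⟨φ, m, rfl⟩
      obtain ⟨c, hc⟩ := (hone V le_rfl).2 m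
      simp only [rs_self] at hc
      refine Ideal.mem_span_singleton'.2 ⟨c * φ g, ?_⟩
      rw [← hc, Scheme.Modules.Hom.app_smul, inf_app q e hVU, ← ha, map_smul, map_smul, smul_eq_mul,
        smul_eq_mul]
      ring
    · let co : Γ(P, V) →ₗ[Γ(P, V)] Γ(O1, V) := LinearMap.toSpanSingleton _ _ g
      have hco : Function.Bijective co := by
        have := hg V le_rfl
        simp only [rs_self] at this
        exact this
      refine ⟨(LinearEquiv.ofBijective co hco).symm.toLinearMap,
        pbRes π (Coh.structureModule X) hVU (one X U), ?_⟩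
      rw [inf_app q e hVU, ← ha]
      exact (LinearEquiv.symm_apply_eq _).2 rfl
  rw [hloc, I.range_subschemeι, SetLike.mem_coe,
    Scheme.IdealSheafData.mem_support_iff_of_mem (U := ⟨V, hV⟩) hxV, hI, Scheme.zeroLocus_span,
    Scheme.mem_zeroLocus_iff]
  simp

end Zero

section Embedding

variable [E.IsQuasicoherent] (A : RelSpec.QCAlg X) (j : E ⟶ A.toModule)

/-- The module of the direct image algebra. -/
def toPush : (RelSpec.QCAlg.directImage A.π).toModule ⟶
    (Scheme.Modules.pushforward A.π).obj (Coh.structureModule A.spec) :=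
  ⟨letI := (RelSpec.QCAlg.directImage A.π).moduleSect;
    PresheafOfModules.homMk
      { app := fun U => AddCommGrpCat.ofHom (AddMonoidHom.id _)
        naturality := fun _ _ _ => rfl }
      (fun _ _ _ => rfl)⟩

/-- The tautological functions. -/
def taut : E ⊞ Coh.structureModule X ⟶
    (Scheme.Modules.pushforward A.π).obj (Coh.structureModule A.spec) :=
  biprod.desc (j ≫ RelSpec.QCAlg.Hom.toModuleMap (QCAlgPush.gammaIso A).inv ≫ toPush A)
    (Modules.Free.unitHom _ (one A.spec (A.π ⁻¹ᵁ ⊤)))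

/-- The tautological quotient on the vector bundle. -/
def quo : (Scheme.Modules.pullback A.π).obj (E ⊞ Coh.structureModule X) ⟶ Coh.structureModule A.spec :=
  ((Scheme.Modules.pullbackPushforwardAdjunction A.π).homEquiv _ _).symm (taut A j)

theorem quo_app {U : X.Opens} (m : Γ(E ⊞ Coh.structureModule X, U)) :
    (quo A j).app (A.π ⁻¹ᵁ U) (pbRes A.π (E ⊞ Coh.structureModule X) le_rfl m) = (taut A j).app U m := by
  have h : (Scheme.Modules.pullbackPushforwardAdjunction A.π).homEquiv _ _ (quo A j) = taut A j :=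
    Equiv.apply_symm_apply _ _
  rw [Adjunction.homEquiv_unit] at h
  refine Eq.trans (congrArg ((quo A j).app (A.π ⁻¹ᵁ U)) ?_) congr(Scheme.Modules.Hom.app $h U m)
  show ((Scheme.Modules.pullback A.π).obj _).presheaf.map (homOfLE le_rfl).op _ = _
  rw [show (homOfLE (le_refl (A.π ⁻¹ᵁ U))).op = 𝟙 (op (A.π ⁻¹ᵁ U)) from rfl, CategoryTheory.Functor.map_id]
  rfl

theorem taut_one (U : X.Opens) :
    (taut A j).app U ((biprod.inr : Coh.structureModule X ⟶ E ⊞ Coh.structureModule X).app U (one X U)) =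
      one A.spec (A.π ⁻¹ᵁ U) := by
  set c := Modules.Free.unitHom ((Scheme.Modules.pushforward A.π).obj (Coh.structureModule A.spec))
    (one A.spec (A.π ⁻¹ᵁ ⊤))
  have h : biprod.inr ≫ taut A j = c := biprod.inr_desc _ _
  refine congr(Scheme.Modules.Hom.app $h U (one X U)).trans ?_
  refine (congrArg (c.app U) (map_one (X.presheaf.map (homOfLE (le_top : U ≤ ⊤)).op).hom).symm).trans ?_
  refine (HomGlue.rs_app c le_top (one X ⊤)).symm.trans ?_
  show rs (Coh.structureModule A.spec) (A.π.preimage_mono le_top) (c.app ⊤ (one X ⊤)) = _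
  rw [Modules.Free.unitHom_app_one]
  exact map_one (A.spec.presheaf.map (homOfLE (A.π.preimage_mono le_top)).op).hom

theorem taut_gen {U : X.Opens} (x : Γ(E, U)) :
    (taut A j).app U ((biprod.inl : E ⟶ E ⊞ Coh.structureModule X).app U x) =
      (QCAlgPush.gammaIso A).inv.hom.app (op U) (j.app U x) := by
  have h : biprod.inl ≫ taut A j = j ≫ RelSpec.QCAlg.Hom.toModuleMap (QCAlgPush.gammaIso A).inv ≫ toPush A :=
    biprod.inl_desc _ _
  exact congr(Scheme.Modules.Hom.app $h U x).trans rfl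

theorem quo_last {U : X.Opens} (e : Fin r → Γ(E, U)) :
    sec (quo A j) (frame e) (Fin.last r) = one A.spec (A.π ⁻¹ᵁ U) := by
  rw [sec, quo_app, frame_last, taut_one]

theorem epi_quo : Epi (quo A j) :=
  epi_of_app_eq _ (isGen_one' A.spec) (y := pbRes A.π (E ⊞ Coh.structureModule X)
      (show (⊤ : A.spec.Opens) ≤ A.π ⁻¹ᵁ ⊤ from le_top)
    ((biprod.inr : Coh.structureModule X ⟶ E ⊞ Coh.structureModule X).app ⊤ (one X ⊤)))
    ((quo_app A j _).trans (taut_one A j ⊤))

theorem locus_quo {U : X.Opens} (e : Fin r → Γ(E, U)) :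
    locus (quo A j) (frame e) (Fin.last r) = A.π ⁻¹ᵁ U := by
  refine le_antisymm (locus_le _ _) (le_sSup ⟨le_rfl, ?_⟩)
  rw [rs_self, quo_last]
  exact Ample.GenLocus.isGen_one _

variable {A j}

/-- A basis of sections as a basis of the module of sections. -/
theorem exists_basis {U : X.Opens} {e : Fin r → Γ(E, U)} (he : IsBasis e) :
    ∃ b : Module.Basis (Fin r) Γ(X, U) Γ(E, U), ∀ k, b k = e k := by
  have hl : Function.Bijective (Fintype.linearCombination Γ(X, U) e) := by
    have h := he U le_rfl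
    refine (iff_of_eq (congrArg Function.Bijective (funext fun a => ?_))).1 h
    simp only [comb, rs_self]
    exact (Fintype.linearCombination_apply _ _ _).symm
  refine ⟨Module.Basis.ofEquivFun (LinearEquiv.ofBijective _ hl).symm, fun k => ?_⟩
  classical
  rw [Module.Basis.coe_ofEquivFun]
  simp [Fintype.linearCombination_apply]

theorem isIso_coordMap_quo (hA : RelSpec.IsSymAlg E A j) {U : X.Opens} (hU : IsAffineOpen U)
    {e : Fin r → Γ(E, U)} (he : IsBasis e) :
    IsIso (coordMap (q := quo A j) (frame e) (Fin.last r)) := by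
  obtain ⟨b, hb⟩ := exists_basis he
  set l := Fin.last r with hl
  set L := locus (quo A j) (frame e) l
  have hL : L = A.π ⁻¹ᵁ U := locus_quo A j e
  have hLa : IsAffineOpen L := hL ▸ hU.preimage A.π
  let ev : Var l ≃ Fin r :=
    { toFun := fun k => k.1.castPred k.2
      invFun := fun k => ⟨k.castSucc, Fin.castSucc_ne_last k⟩
      left_inv := fun k => Subtype.ext (Fin.castSucc_castPred k.1 k.2)
      right_inv := fun k => Fin.castPred_castSucc }
  let b' := b.reindex ev.symm
  letI : Algebra Γ(X, U) (A.presheaf.obj (op U)) := (A.str.app (op U)).hom.toAlgebra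
  let θ : MvPolynomial (Var l) Γ(X, U) →+* A.presheaf.obj (op U) :=
    (SymAlg.Sections.cmp A j U).comp (SymmetricAlgebra.equivMvPolynomial b').symm.toRingHom
  have hθ : Function.Bijective θ :=
    (SymAlg.Sections.cmp_bijective hA hU).comp (SymmetricAlgebra.equivMvPolynomial b').symm.bijective
  let γ : A.presheaf.obj (op U) ⟶ Γ(A.spec, A.π ⁻¹ᵁ U) := (QCAlgPush.gammaIso A).inv.hom.app (op U)
  have hγ : Function.Bijective γ := by
    refine Function.bijective_iff_has_inverse.2 ⟨(QCAlgPush.gammaIso A).hom.hom.app (op U), fun a => ?_, fun a => ?_⟩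
    · exact congr(($((QCAlgPush.gammaIso A).inv_hom_id)).hom.app (op U) a)
    · exact congr(($((QCAlgPush.gammaIso A).hom_inv_id)).hom.app (op U) a)
  have hr : Function.Bijective (A.spec.presheaf.map (homOfLE hL.le).op) := by
    haveI : IsIso (homOfLE hL.le) := ⟨homOfLE hL.ge, rfl, rfl⟩
    exact ConcreteCategory.bijective_of_isIso _
  have hψ : psi (q := quo A j) (frame e) l =
      (A.spec.presheaf.map (homOfLE hL.le).op).hom.comp (γ.hom.comp θ) := by
    refine MvPolynomial.ringHom_ext (fun a => ?_) fun k => ?_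
    · rw [psi_C]
      have h1 : θ (C a) = A.str.app (op U) a := by
        show SymAlg.Sections.cmp A j U ((SymmetricAlgebra.equivMvPolynomial b').symm (C a)) = _
        rw [← MvPolynomial.algebraMap_eq, AlgEquiv.commutes, SymAlg.Sections.cmp_algebraMap]
      show _ = A.spec.presheaf.map (homOfLE hL.le).op (γ (θ (C a)))
      rw [h1]
      exact congrArg (A.spec.presheaf.map (homOfLE hL.le).op)
        congr(($((QCAlgPush.gammaIso A).inv.comm)).app (op U) a).symm
    · rw [psi, eval₂Hom_X']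
      have h1 : θ (MvPolynomial.X k) = j.app U (e (ev k)) := by
        show SymAlg.Sections.cmp A j U ((SymmetricAlgebra.equivMvPolynomial b').symm (MvPolynomial.X k)) = _
        rw [SymmetricAlgebra.equivMvPolynomial_symm_X, SymAlg.Sections.cmp_ι]
        simp only [b', Module.Basis.reindex_apply, Equiv.symm_symm, hb]
      show _ = A.spec.presheaf.map (homOfLE hL.le).op (γ (θ (MvPolynomial.X k)))
      rw [h1]
      refine ((isGen_locus (q := quo A j) (frame e) l L le_rfl).1 ?_)
      show _ • rs _ _ _ = _ • rs _ _ _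
      rw [rs_self, coef_spec, quo_last]
      have hk : sec (quo A j) (frame e) k.1 = γ (j.app U (e (ev k))) := by
        rw [sec, quo_app, ← Fin.castSucc_castPred k.1 k.2, frame_castSucc]
        exact taut_gen A j _
      rw [hk]
      refine Eq.symm ?_
      show (A.spec.presheaf.map (homOfLE hL.le).op (γ _) : Γ(A.spec, L)) *
          (A.spec.presheaf.map (homOfLE hL.le).op 1 : Γ(A.spec, L)) = A.spec.presheaf.map (homOfLE hL.le).op (γ _)
      rw [map_one, mul_one]
  haveI : IsIso (CommRingCat.ofHom (psi (q := quo A j) (frame e) l)) :=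
    (ConcreteCategory.isIso_iff_bijective _).2 (hψ ▸ hr.comp (hγ.comp hθ))
  haveI : IsIso L.toSpecΓ := hLa.isoSpec.isIso_hom
  rw [coordMap]
  infer_instance

/-- The vector bundle is the complement of the divisor at infinity. -/
theorem exists_openImmersion (hE : FlatMod.IsFinLocFreeOfRank r E) (hA : RelSpec.IsSymAlg E A j)
    (hP : KRR.IsProjBundle π (E ⊞ Coh.structureModule X) O1 q) {W : Scheme.{u}} (ι : W ⟶ P)
    [IsClosedImmersion ι]
    (hW : ∀ (U : X.Opens) (e : Fin r → Γ(E, U)) (x : P), π x ∈ U →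
      (x ∉ Set.range ι ↔ x ∈ locus q (frame e) (Fin.last r))) :
    ∃ (h : A.spec ⟶ P) (hh : h ≫ π = A.π) (i : (Scheme.Modules.pullback h).obj O1 ≅ Coh.structureModule A.spec),
      IsOpenImmersion h ∧ Set.range h = (Set.range ι)ᶜ ∧
      (Scheme.Modules.pullbackCongr hh).inv.app _ ≫ (Scheme.Modules.pullbackComp h π).inv.app _ ≫
        (Scheme.Modules.pullback h).map q ≫ i.hom = quo A j := by
  obtain ⟨h, ⟨hg, i, hi⟩, -⟩ := hP.univ A.spec A.π (Coh.structureModule A.spec)
    (rank_one_structure _) (quo A j) (epi_quo A j)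
  let M : BdlUniq.Mor π A.π q (quo A j) h := ⟨hg, i, hi⟩
  have hex : ∀ x : X, ∃ (U : X.Opens) (_ : IsAffineOpen U) (e : Fin r → Γ(E, U)),
      IsBasis e ∧ x ∈ U := fun x => by
    obtain ⟨V, hxV, ⟨i₀⟩⟩ := hE x
    obtain ⟨e₀, he₀⟩ := exists_basis_of_iso i₀
    obtain ⟨U, hUa, hxU, hUV⟩ := exists_isAffineOpen_mem_and_subset (X := X) (x := x) (U := V) hxV
    exact ⟨U, hUa, _, he₀.res hUV, hxU⟩
  choose U hUa e he hxU using hex
  let D : P.Opens := ⟨(Set.range ι)ᶜ, ι.isClosedEmbedding.isClosed_range.isOpen_compl⟩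
  let L : X → P.Opens := fun x => locus q (frame (e x)) (Fin.last r)
  have hLD : ∀ x, L x ≤ D := fun x p hp => (hW (U x) (e x) p (locus_le (q := q) _ _ hp)).2 hp
  have hcov : ⨆ x, L x = D := le_antisymm (iSup_le hLD) fun p hp =>
    Opens.mem_iSup.2 ⟨π p, (hW (U (π p)) (e (π p)) p (hxU _)).1 hp⟩
  have hrange : Set.range h ⊆ D := by
    rintro _ ⟨a, rfl⟩
    have ha : a ∈ h ⁻¹ᵁ L (A.π a) := by
      rw [BdlUniq.preimage_locus M (frame (e (A.π a))) hP (Fin.last r), locus_quo]
      exact hxU _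
    exact hLD _ ha
  let h' : A.spec ⟶ D.toScheme := IsOpenImmersion.lift D.ι h (by rwa [Scheme.Opens.range_ι])
  have hh : h' ≫ D.ι = h := IsOpenImmersion.lift_fac _ _ _
  haveI : IsIso h' := by
    refine (IsZariskiLocalAtTarget.iff_of_iSup_eq_top (P := MorphismProperty.isomorphisms Scheme.{u})
      (fun x => D.ι ⁻¹ᵁ L x) (top_le_iff.1 fun p _ => ?_)).2 fun x => ?_
    · obtain ⟨x, hx⟩ := Opens.mem_iSup.1 (hcov.ge p.2)
      exact Opens.mem_iSup.2 ⟨x, hx⟩
    · haveI := BdlUniq.isIso_coordMap (frame (e x)) (hUa x) hP (isBasis_frame (he x)) (Fin.last r)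
      haveI := isIso_coordMap_quo hA (hUa x) (he x)
      haveI : IsIso (h.resLE (L x) (locus (quo A j) (frame (e x)) (Fin.last r))
          (BdlUniq.locus_le_preimage (frame (e x)) M hP (Fin.last r))) := by
        haveI : IsIso (h.resLE (L x) (locus (quo A j) (frame (e x)) (Fin.last r))
            (BdlUniq.locus_le_preimage (frame (e x)) M hP (Fin.last r)) ≫
              coordMap (q := q) (frame (e x)) (Fin.last r)) := by
          rw [BdlUniq.resLE_coordMap M (frame (e x)) hP]
          infer_instance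
        exact IsIso.of_isIso_comp_right _ (coordMap (q := q) (frame (e x)) (Fin.last r))
      show IsIso (h' ∣_ (D.ι ⁻¹ᵁ L x))
      have key : ∀ (V : A.spec.Opens) (hV : V ≤ h ⁻¹ᵁ L x),
          V = locus (quo A j) (frame (e x)) (Fin.last r) → IsIso (h.resLE (L x) V hV) := by
        rintro V hV rfl
        infer_instance
      have h2 := key _ le_rfl (BdlUniq.preimage_locus M (frame (e x)) hP (Fin.last r))
      rw [Scheme.Hom.resLE_eq_morphismRestrict] at h2
      have h3 : IsIso ((h' ≫ D.ι) ∣_ L x) := by rwa [hh]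
      rw [morphismRestrict_comp] at h3
      haveI : Mono (D.ι ∣_ L x) := inferInstance
      obtain ⟨⟨k, hk1, hk2⟩⟩ := h3
      have hk3 : k ≫ (h' ∣_ D.ι ⁻¹ᵁ L x) ≫ D.ι ∣_ L x = 𝟙 _ := hk2
      haveI : IsIso (D.ι ∣_ L x) := ⟨k ≫ (h' ∣_ D.ι ⁻¹ᵁ L x),
        by rw [← cancel_mono (D.ι ∣_ L x), Category.assoc, Category.assoc, hk3, Category.comp_id,
          Category.id_comp], by rw [Category.assoc, hk3]⟩
      haveI : IsIso ((h' ∣_ D.ι ⁻¹ᵁ L x) ≫ D.ι ∣_ L x) := ⟨k, hk1, hk3⟩
      exact IsIso.of_isIso_comp_right _ (D.ι ∣_ L x)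
  have hc : h' ≫ D.ι = h := hh
  refine ⟨h, hg, i, by rw [← hc]; infer_instance, ?_, hi⟩
  rw [← hc, Scheme.Hom.comp_base, TopCat.coe_comp, Set.range_comp,
    h'.surjective.range_eq, Set.image_univ, Scheme.Opens.range_ι]
  rfl

end Embedding

end Groth.Agent.Lib.Cyc.CH.Completion
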