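import Groth.Agent.Lib.Cyc.FieldDim
import Groth.Agent.Lib.Cyc.SmoothReg
import Groth.Agent.Lib.Cyc.Ord
import Groth.Agent.Lib.Regular.Descent
import Groth.Agent.H97.FiniteAffine
import Mathlib.RingTheory.Ideal.MinimalPrime.Noetherian

/-!
# Points and functions of a smooth curve over a field
-/

set_option autoImplicit false
set_option linter.style.haveILetI false
universe u

open CategoryTheory CategoryTheory.Limits AlgebraicGeometry TopologicalSpace IsLocalRing

noncomputable section

namespace Groth.Agent.Lib.Cyc.CH.CurvePts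

open Groth.Agent.Lib Groth.Agent.Lib.Cyc

variable {k : Type u} [Field k] {X : Scheme.{u}} (f : X ⟶ Spec (CommRingCat.of k))
  [IsIntegral X] [LocallyOfFiniteType f]

include f

theorem fdelta_genericPoint (hdim : topologicalKrullDim X = 1) :
    FieldDim.fdelta f (genericPoint X) = 1 := by
  have h := FieldDim.topologicalKrullDim_closure f (genericPoint X)
  rw [genericPoint_closure, IsHomeomorph.topologicalKrullDim_eq _ (Homeomorph.Set.univ X).isHomeomorph,
    hdim] at h
  have h0 := FieldDim.fdelta_nonneg f (genericPoint X)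
  have h1 : (FieldDim.fdelta f (genericPoint X)).toNat = 1 := by exact_mod_cast h.symm
  omega

theorem isClosed_pt (hdim : topologicalKrullDim X = 1) {y : X} (hy : y ≠ genericPoint X) :
    IsClosed ({y} : Set X) ∧ FieldDim.fdelta f y = 0 := by
  have hd := FieldDim.isDimFun_fdelta f
  have hg := fdelta_genericPoint f hdim
  have h1 := DimFun.lt_of_specializes hd (genericPoint_specializes y) (Ne.symm hy)
  have h0 := FieldDim.fdelta_nonneg f y
  refine ⟨?_, by omega⟩
  rw [← closure_eq_iff_isClosed]
  refine Set.Subset.antisymm (fun w hw => ?_) subset_closure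
  by_contra hne
  have h2 := DimFun.lt_of_specializes hd (specializes_iff_mem_closure.2 hw) fun e => hne e.symm
  have := FieldDim.fdelta_nonneg f w
  omega

theorem eq_genericPoint_of_not_isClosed (hdim : topologicalKrullDim X = 1) {y : X}
    (hy : ¬ IsClosed ({y} : Set X)) : y = genericPoint X := by
  by_contra h
  exact hy (isClosed_pt f hdim h).1

theorem ne_genericPoint (hdim : topologicalKrullDim X = 1) {y : X} (hy : IsClosed ({y} : Set X)) :
    y ≠ genericPoint X := fun e => by
  have := fdelta_genericPoint f hdim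
  rw [← e, FieldDim.fdelta_of_isClosed f y hy] at this
  omega

/-- A nonempty open subset of the curve has finite complement. -/
theorem finite_compl (hdim : topologicalKrullDim X = 1) [CompactSpace X] {W : X.Opens}
    (hW : genericPoint X ∈ W) : (W : Set X)ᶜ.Finite := by
  haveI : IsLocallyNoetherian X := LocallyOfFiniteType.isLocallyNoetherian f
  haveI : IsNoetherian X := {}
  obtain ⟨S, hSf, hScl, hSirr, hS⟩ :=
    NoetherianSpace.exists_finite_set_isClosed_irreducible W.2.isClosed_compl
  rw [show (W : Set X)ᶜ = W.carrierᶜ from rfl, hS]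
  refine Set.Finite.sUnion hSf fun t ht => ?_
  have hgen := (hSirr t ht).isGenericPoint_genericPoint (hScl t ht)
  have hne : (hSirr t ht).genericPoint ≠ genericPoint X := fun e => by
    have h1 : (hSirr t ht).genericPoint ∈ (W : Set X)ᶜ := hS ▸ Set.mem_sUnion_of_mem hgen.mem ht
    exact h1 (e ▸ hW)
  rw [← hgen.def, (isClosed_pt f hdim hne).1.closure_eq]
  exact Set.finite_singleton _

theorem ringKrullDim_stalk (hdim : topologicalKrullDim X = 1) {y : X} (hy : y ≠ genericPoint X) :
    ringKrullDim (X.presheaf.stalk y) = 1 := by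
  haveI : IsLocallyNoetherian X := LocallyOfFiniteType.isLocallyNoetherian f
  rw [DimFun.ringKrullDim_stalk (FieldDim.isDimFun_fdelta f) y, fdelta_genericPoint f hdim,
    (isClosed_pt f hdim hy).2]
  rfl

omit [LocallyOfFiniteType f] in
omit f in
theorem specMap_injective (y : X) :
    Function.Injective (Cyc.specMap y (genericPoint X) (genericPoint_specializes y)) := by
  haveI : Nonempty X := ⟨y⟩
  intro a b hab
  letI := (Field.toIsField X.functionField).toField
  exact IsFractionRing.injective (X.presheaf.stalk y) X.functionField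
    ((RingHom.injective (R := X.functionField) (X.residue (genericPoint X)).hom) hab)

section Smooth

variable [Smooth f]

theorem isDVR (hdim : topologicalKrullDim X = 1) {y : X} (hy : y ≠ genericPoint X) :
    IsDiscreteValuationRing (X.presheaf.stalk y) := by
  haveI : IsLocallyNoetherian X := LocallyOfFiniteType.isLocallyNoetherian f
  obtain ⟨_, h⟩ := (Regular.Descent.isDiscreteValuationRing_iff (R := X.presheaf.stalk y)).2
    ⟨Cyc.SmoothReg.isRegularLocalRing_stalk f y, ringKrullDim_stalk f hdim hy⟩
  exact h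

/-- Every function or its inverse is regular at a closed point. -/
theorem total (hdim : topologicalKrullDim X = 1) {y : X} (hy : y ≠ genericPoint X)
    (g : X.residueField (genericPoint X)) :
    (∃ v, Cyc.specMap y _ (genericPoint_specializes y) v = g) ∨
      ∃ v, g * Cyc.specMap y _ (genericPoint_specializes y) v = 1 := by
  haveI := isDVR f hdim hy
  obtain ⟨a, b, hb, hab⟩ := Ord.exists_specMap_fraction y _ (genericPoint_specializes y) g
  rcases ValuationRing.dvd_total a b with ⟨c, hc⟩ | ⟨c, hc⟩
  · right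
    refine ⟨c, mul_right_cancel₀ hb ?_⟩
    rw [mul_right_comm, hab, ← map_mul, ← hc, one_mul]
  · left
    refine ⟨c, mul_right_cancel₀ hb ?_⟩
    rw [hab, hc, map_mul, mul_comm]

theorem ordAt_uniformizer (hdim : topologicalKrullDim X = 1) {δ : X → ℤ} (hd : Cyc.IsDimFun X δ) {y : X}
    (hy : y ≠ genericPoint X) (hle : δ (genericPoint X) ≤ δ y + 1) {π : X.presheaf.stalk y}
    (hπ : maximalIdeal (X.presheaf.stalk y) = Ideal.span {π}) :
    Cyc.ordAt y _ (genericPoint_specializes y) (Cyc.specMap y _ (genericPoint_specializes y) π) = 1 := by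
  haveI : IsLocallyNoetherian X := LocallyOfFiniteType.isLocallyNoetherian f
  haveI := isDVR f hdim hy
  have hπ0 : π ≠ 0 := fun h => IsDiscreteValuationRing.not_a_field (X.presheaf.stalk y) (by
    rw [hπ, h, Ideal.span_singleton_eq_bot])
  have hne : Cyc.specMap y _ (genericPoint_specializes y) π ≠ 0 := fun h =>
    hπ0 (specMap_injective y (h.trans (map_zero _).symm))
  rw [Ord.ordAt_specMap hd y _ _ hle π hne]
  let R := Cyc.LocQuot y (genericPoint X) (genericPoint_specializes y)
  have hmax : (Ideal.span {(Ideal.Quotient.mk _ π : R)}).IsMaximal := by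
    have : Ideal.span {(Ideal.Quotient.mk _ π : R)} = (maximalIdeal (X.presheaf.stalk y)).map (Ideal.Quotient.mk _) := by
      rw [hπ, Ideal.map_span, Set.image_singleton]
    rw [this]
    exact (Ideal.map_eq_top_or_isMaximal_of_surjective (Ideal.Quotient.mk (RingHom.ker
      (Cyc.specMap y (genericPoint X) (genericPoint_specializes y)))) Ideal.Quotient.mk_surjective
      (maximalIdeal.isMaximal _)).resolve_left fun h => by
        have h1 := congrArg (Ideal.comap (Ideal.Quotient.mk _)) h
        rw [Ideal.comap_map_of_surjective _ Ideal.Quotient.mk_surjective, Ideal.comap_top, ← RingHom.ker_eq_comap_bot,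
          Ideal.mk_ker, sup_eq_left.2 (le_maximalIdeal (RingHom.ker_ne_top _))] at h1
        exact (maximalIdeal.isMaximal _).ne_top h1
  have : IsSimpleModule R (R ⧸ Ideal.span {(Ideal.Quotient.mk _ π : R)}) :=
    isSimpleModule_iff_isCoatom.mpr hmax.out
  rw [Ring.ord, Module.length_eq_one]
  rfl

end Smooth

/-- A function vanishing at one of finitely many closed points and invertible at the others. -/
theorem exists_avoid [IsSeparated f] (hdim : topologicalKrullDim X = 1) [CompactSpace X] (T : Finset X) {x : X}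
    (hx : x ∈ T) (hT : ∀ y ∈ T, IsClosed ({y} : Set X)) :
    ∃ (U : X.Opens) (b : Γ(X, U)), genericPoint X ∈ X.basicOpen b ∧ x ∈ U ∧ x ∉ X.basicOpen b ∧
      ∀ y ∈ T, y ∈ U ∧ (y ≠ x → y ∈ X.basicOpen b) := by
  classical
  haveI : IsLocallyNoetherian X := LocallyOfFiniteType.isLocallyNoetherian f
  haveI : X.IsSeparated := ⟨by rw [Subsingleton.elim (terminal.from X) (f ≫ terminal.from _)]; infer_instance⟩
  haveI : IsNoetherian X := {}
  obtain ⟨U, hU, hTU⟩ := H97.FiniteAffine.exists_affineOpen (X := X)
    (NoetherianSpace.finite_irreducibleComponents) T fun y hy =>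
      (ringKrullDim_stalk f hdim (ne_genericPoint f hdim (hT y hy))).le
  have hgU : genericPoint X ∈ U := (genericPoint_specializes x).mem_open U.2 (hTU x hx)
  let T' : Finset X := insert (genericPoint X) (T.erase x)
  have hT'U : ∀ y ∈ T', y ∈ U := fun y hy => by
    rcases Finset.mem_insert.1 hy with rfl | hy
    · exact hgU
    · exact hTU y (Finset.mem_of_mem_erase hy)
  let Px := (hU.primeIdealOf ⟨x, hTU x hx⟩).asIdeal
  let Q : {y // y ∈ T'} → Ideal Γ(X, U) := fun y => (hU.primeIdealOf ⟨y.1, hT'U y.1 y.2⟩).asIdeal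
  have hnot : ¬ ((Px : Set Γ(X, U)) ⊆ ⋃ y ∈ ((Finset.univ : Finset {y // y ∈ T'}) : Set _), (Q y : Set Γ(X, U))) := by
    intro hsub
    obtain ⟨y, -, hy⟩ := (Ideal.subset_union_prime (s := Finset.univ) (f := Q)
      ⟨genericPoint X, Finset.mem_insert_self _ _⟩ ⟨genericPoint X, Finset.mem_insert_self _ _⟩
      fun y _ _ _ => (hU.primeIdealOf ⟨y.1, hT'U y.1 y.2⟩).isPrime).1 hsub
    have hyx : y.1 ≠ x := by
      rcases Finset.mem_insert.1 y.2 with e | e
      · exact e ▸ Ne.symm (ne_genericPoint f hdim (hT x hx))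
      · exact Finset.ne_of_mem_erase e
    have hsp : x ⤳ y.1 := (FieldDim.primeIdealOf_le_iff hU (hT'U y.1 y.2) (hTU x hx)).1 hy
    exact hyx ((hT x hx).closure_eq ▸ specializes_iff_mem_closure.1 hsp : y.1 ∈ ({x} : Set X))
  obtain ⟨b, hbx, hb⟩ := Set.not_subset.1 hnot
  simp only [Finset.coe_univ, Set.mem_univ, Set.iUnion_true, Set.mem_iUnion, not_exists] at hb
  refine ⟨U, b, ?_, hTU x hx, ?_, fun y hy => ⟨hTU y hy, fun hne => ?_⟩⟩
  · by_contra h
    exact hb ⟨_, Finset.mem_insert_self _ _⟩ ((FieldDim.mem_primeIdealOf_iff hU hgU b).2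
      ((Scheme.evaluation_eq_zero_iff_notMem_basicOpen ..).2 h))
  · exact (Scheme.evaluation_eq_zero_iff_notMem_basicOpen ..).1
      ((FieldDim.mem_primeIdealOf_iff hU (hTU x hx) b).1 hbx)
  · by_contra h
    exact hb ⟨y, Finset.mem_insert_of_mem (Finset.mem_erase.2 ⟨hne, hy⟩)⟩
      ((FieldDim.mem_primeIdealOf_iff hU (hTU y hy) b).2
        ((Scheme.evaluation_eq_zero_iff_notMem_basicOpen ..).2 h))

end Groth.Agent.Lib.Cyc.CH.CurvePts
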