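import Groth.Agent.Lib.Cyc.CH.SubBundle
import Groth.Agent.Lib.Cyc.CH.AddLine
import Groth.Agent.Lib.Cyc.CH.DualMap
import Groth.Agent.Lib.Cyc.CH.DualPullback
import Groth.Agent.Lib.Cyc.Bivar.ChernOp
import Groth.Agent.Lib.ArtinFun.SheafHomDual
import Groth.Agent.H18.Sec.HomIso

/-!
# Chern operators of a dual plus a trivial line
-/

set_option autoImplicit false
set_option linter.style.haveILetI false
universe u

open CategoryTheory CategoryTheory.Limits AlgebraicGeometry

noncomputable section

namespace Groth.Agent.Lib.Cyc.CH.DualChern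

open Groth.Agent.Lib Groth.Agent.Lib.Cyc TensorMod TensorMod.Basis

variable {X : Scheme.{u}}

/-- `Hom(A, O)` is locally free of the rank of `A`. -/
theorem rank_sheafHom {A : X.Modules} [DCoh.HasSheafHom A] {r : ℕ} (hA : FlatMod.IsFinLocFreeOfRank r A) :
    FlatMod.IsFinLocFreeOfRank r ((DCoh.sheafHom A).obj (Coh.structureModule X)) := by
  refine TensorMod.LocFree.rank_of_iso
    (ArtinFun.SheafHomDual.nonempty_iso_dual (TensorMod.LocFree.of_rank hA)).some.symm ?_
  classical
  intro x
  obtain ⟨U, hxU, ⟨i⟩⟩ := hA x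
  obtain ⟨e, he⟩ := Basis.exists_basis_of_iso i
  refine ⟨U, hxU, Basis.exists_iso_of_basis (e := fun k => H95.LefFEt.Bidual.coord he k) fun V hV => ?_⟩
  open H95.LefFEt.Bidual Dual in
  have happ : ∀ (a : Fin r → Γ(X, V)) {W : X.Opens} (hW : W ≤ V) (y : Γ(A, W)),
      (show DualSec A V from comb (M := Dual.dual A) (fun k => coord he k) hV a).app hW y =
        ∑ k, rf hW (a k) * coordAt he W (hW.trans hV) y k := by
    intro a W hW y
    let ev : DualSec A V →+ Γ(X, W) := AddMonoidHom.mk' (fun ψ => ψ.app hW y)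
      fun a b => Dual.add_app A a b hW y
    exact map_sum ev (fun k => a k • dualRes A hV (coord he k)) Finset.univ
  open H95.LefFEt.Bidual Dual in
  constructor
  · intro a b hab
    funext j
    have h1 := happ a le_rfl (rs A hV (e j))
    have h2 := happ b le_rfl (rs A hV (e j))
    rw [hab, h2] at h1
    simpa [coordAt_self, Pi.single_apply, Dual.rf_self] using h1.symm
  · intro ψ
    refine ⟨fun k => (show DualSec A V from ψ).app le_rfl (rs A hV (e k)), DualSec.ext fun W hW y => ?_⟩
    rw [happ]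
    conv_rhs => rw [← comb_coordAt he (hW.trans hV) y]
    simp only [comb, map_sum, map_smul, smul_eq_mul]
    refine Finset.sum_congr rfl fun k _ => ?_
    rw [mul_comm]
    refine congrArg (_ * ·) ?_
    exact (DualSec.compat (show DualSec A V from ψ) le_rfl hW _).trans (congrArg _ (rs_rs A hV hW (e k)))

/-- The split sequence. -/
theorem shortExact_inr (M : X.Modules) :
    (ShortComplex.mk (biprod.inr : Coh.structureModule X ⟶ M ⊞ Coh.structureModule X) biprod.fst
      biprod.inr_fst).ShortExact :=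
  ShortComplex.Splitting.shortExact
    { r := biprod.snd
      s := biprod.inl
      f_r := biprod.inr_snd
      s_g := biprod.inl_fst
      id := (add_comm _ _).trans biprod.total }

variable [IsLocallyNoetherian X] {δ : X → ℤ}

/-- The filtration of the dual plus a line. -/
theorem filt_dual_add {N : X.Modules} [DCoh.HasSheafHom N] {r : ℕ} (hN : FlatMod.IsFinLocFreeOfRank r N)
    (C : Cover X δ) {l : List C.Y.Modules} (hl : Filt ((Scheme.Modules.pullback C.g).obj N) l) :
    Filt ((Scheme.Modules.pullback C.g).obj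
        ((DCoh.sheafHom N).obj (Coh.structureModule X) ⊞ Coh.structureModule X))
      (Coh.structureModule C.Y :: (l.map fun L => _root_.RefHull.dual L).reverse) := by
  obtain ⟨i⟩ := H18.Sec.HomIso.nonempty_iso N (Coh.structureModule X)
  obtain ⟨j⟩ := nonempty_pullback_dual_iso C.g hN
  have h1 : Filt ((Scheme.Modules.pullback C.g).obj ((DCoh.sheafHom N).obj (Coh.structureModule X)))
      (l.map fun L => _root_.RefHull.dual L).reverse :=
    ((hl.dual (CurveBundle.Coherent.isCoh
      (TensorMod.LocFree.of_rank (TensorMod.LocFree.rank_pullback C.g hN)))).of_iso j.symm).of_iso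
      ((Scheme.Modules.pullback C.g).mapIso i).symm
  have hO : Filt ((Scheme.Modules.pullback C.g).obj (Coh.structureModule X)) [Coh.structureModule C.Y] :=
    (Filt.singleton (PicLoc.isInvertible_structureModule C.Y)).of_iso (PicLoc.pullbackStructureIso C.g).symm
  haveI := (shortExact_inr ((DCoh.sheafHom N).obj (Coh.structureModule X))).mono_f
  exact hO.append _ _ _ (C1K.Pull.shortExact_pullback C.g
    (shortExact_inr ((DCoh.sheafHom N).obj (Coh.structureModule X)))) h1

theorem roots_dual_add (C : Cover X δ) {l : List C.Y.Modules} (hl : ∀ L ∈ l, PicF.IsInvertible L) :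
    roots C.δY C.hY.2.2 (Coh.structureModule C.Y :: (l.map fun L => _root_.RefHull.dual L).reverse) =
      (0 : opRing C.δY C.hY.2.2) ::ₘ (roots C.δY C.hY.2.2 l).map fun a => -a := by
  rw [← roots_dual C.hY.2.2 C.hY hl]
  rw [← root_structureModule C.hY.2.2 C.hY]
  exact Multiset.cons_coe _ _ ▸ rfl

/-- The Whitney formula for the duals of a short exact sequence. -/
theorem whitney {N' N E : X.Modules} [DCoh.HasSheafHom N] [DCoh.HasSheafHom N'] {r' e : ℕ}
    (hX : Cyc.IsSetup X δ) (hN' : FlatMod.IsFinLocFreeOfRank r' N')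
    (hN : FlatMod.IsFinLocFreeOfRank (r' + e) N) (a : N' ⟶ N) (b : N ⟶ E) (hab : a ≫ b = 0)
    (hex : (ShortComplex.mk a b hab).ShortExact) {cE cG c' : ℕ → AddMonoid.End (Tot X δ)}
    (hE : IsChern E e δ cE) {m : ℕ} (hm : m = r' + e + 1)
    (hG : IsChern ((DCoh.sheafHom N).obj (Coh.structureModule X) ⊞ Coh.structureModule X) m δ cG)
    (h' : IsChern ((DCoh.sheafHom N').obj (Coh.structureModule X) ⊞ Coh.structureModule X) (r' + 1) δ c')
    (p : ℕ) :
    cG p = ∑ i ∈ Finset.range (p + 1), (((-1 : ℤ) ^ i) • cE i) * c' (p - i) := by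
  obtain ⟨C, l₁, l₂, hinj, hl₁, hlen₁, hl₂, hlen₂⟩ :=
    (Bivar.isChern_chern hX hN').exists_split_two hX hE
  haveI := hex.mono_f
  have hl := hl₁.append _ _ _ (C1K.Pull.shortExact_pullback C.g hex) hl₂
  have hd := filt_dual_add hN C hl
  have hd' := filt_dual_add hN' C hl₁
  refine AddMonoidHom.ext fun x => C.pl_cls_eq hinj ?_
  show C.pl (cG p x) =
    C.pl ((∑ i ∈ Finset.range (p + 1), (((-1 : ℤ) ^ i) • cE i) * c' (p - i) : AddMonoid.End (Tot X δ)) x)
  rw [hG.pl_eq C hd (by simp [hlen₁, hlen₂, hm]; omega) _ _, roots_dual_add C hl.inv, roots_append,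
    Multiset.map_add, show ((0 : opRing C.δY C.hY.2.2) ::ₘ ((roots C.δY C.hY.2.2 l₁).map (fun a => -a) +
      (roots C.δY C.hY.2.2 l₂).map fun a => -a)) = (roots C.δY C.hY.2.2 l₂).map (fun a => -a) +
        ((0 : opRing C.δY C.hY.2.2) ::ₘ (roots C.δY C.hY.2.2 l₁).map fun a => -a) by
      rw [Multiset.add_cons, add_comm], Sym.esymm_add, ← evalAt_apply, map_sum]
  refine Eq.trans ?_ (congrArg C.pl (AddMonoidHom.finsetSum_apply
    (fun i => ((((-1 : ℤ) ^ i) • cE i) * c' (p - i) : AddMonoid.End (Tot X δ))) (Finset.range (p + 1)) x).symm)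
  rw [map_sum]
  refine Finset.sum_congr rfl fun i _ => ?_
  show _ = C.pl (((-1 : ℤ) ^ i) • cE i (c' (p - i) x))
  rw [map_zsmul, hE.pl_eq C hl₂ hlen₂, h'.pl_eq C hd' (by simp [hlen₁]) (p - i) x, roots_dual_add C hl₁.inv,
    Sym.esymm_neg]
  exact ((congrArg _ (mul_assoc _ _ _)).trans (Sym.map_negOnePow_mul _ _ _)).trans rfl

end Groth.Agent.Lib.Cyc.CH.DualChern
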