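import Groth.Agent.Lib.Cyc.CH.Vanish
import Groth.Agent.Lib.Cyc.CH.Bdl
import Mathlib.CategoryTheory.Abelian.DiagramLemmas.KernelCokernelComp

/-!
# Modules filtered by invertible modules
-/

set_option autoImplicit false
set_option linter.style.haveILetI false
universe u

open CategoryTheory CategoryTheory.Limits AlgebraicGeometry

noncomputable section

namespace Groth.Agent.Lib.Cyc.CH

open Groth.Agent.Lib Groth.Agent.Lib.Cyc Modules.StalkModule

/-- `M` is built from the invertible modules of the list by successive extensions, the head being a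
submodule. -/
inductive Filt {X : Scheme.{u}} : X.Modules → List X.Modules → Prop
  | zero {M : X.Modules} (h : IsZero M) : Filt M []
  | cons {L M C : X.Modules} {l : List X.Modules} (hL : PicF.IsInvertible L) (a : L ⟶ M) (b : M ⟶ C)
      (hab : a ≫ b = 0) (hex : (ShortComplex.mk a b hab).ShortExact) (h : Filt C l) : Filt M (L :: l)

namespace Filt

variable {X : Scheme.{u}}

theorem inv {M : X.Modules} {l : List X.Modules} (h : Filt M l) : ∀ L ∈ l, PicF.IsInvertible L := by
  induction h with
  | zero => intro L hL; exact absurd hL List.not_mem_nil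
  | cons hL a b hab hex h ih =>
    intro L' hL'
    rcases List.mem_cons.1 hL' with rfl | h'
    · exact hL
    · exact ih L' h'

theorem of_iso {M M' : X.Modules} {l : List X.Modules} (h : Filt M l) (e : M ≅ M') : Filt M' l := by
  cases h with
  | zero hz => exact .zero (hz.of_iso e.symm)
  | cons hL a b hab hex h =>
    refine .cons hL (a ≫ e.hom) (e.inv ≫ b) (by simp [hab]) ?_ h
    exact ShortComplex.shortExact_of_iso (S₁ := ShortComplex.mk a b hab)
      (ShortComplex.isoMk (Iso.refl _) e (Iso.refl _) (by simp) (by simp)) hex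

theorem singleton {L : X.Modules} (hL : PicF.IsInvertible L) : Filt L [L] := by
  refine .cons hL (𝟙 L) (0 : L ⟶ cokernel (𝟙 L)) (comp_zero) ?_ (.zero (isZero_cokernel_of_epi _))
  have hz : IsZero (cokernel (𝟙 L)) := isZero_cokernel_of_epi _
  haveI : Epi (0 : L ⟶ cokernel (𝟙 L)) := ⟨fun u v _ => hz.eq_of_src u v⟩
  refine ShortComplex.ShortExact.mk' ?_ (inferInstanceAs (Mono (𝟙 L))) inferInstance
  exact (ShortComplex.exact_iff_epi _ rfl).2 (inferInstanceAs (Epi (𝟙 L)))

/-- Extensions of filtered modules are filtered. -/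
theorem append {A B C : X.Modules} {l₁ l₂ : List X.Modules} (hA : Filt A l₁) (f : A ⟶ B) (g : B ⟶ C)
    (hfg : f ≫ g = 0) (hex : (ShortComplex.mk f g hfg).ShortExact) (hC : Filt C l₂) :
    Filt B (l₁ ++ l₂) := by
  induction hA generalizing B with
  | zero hz =>
    haveI : IsIso g := by
      haveI : Epi g := hex.epi_g
      haveI : Mono g := (hex.exact.mono_g (hz.eq_of_src _ _))
      exact isIso_of_mono_of_epi g
    exact hC.of_iso (asIso g).symm
  | @cons L M A' l hL a b hab hex' h ih =>
    haveI : Mono f := hex.mono_f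
    haveI : Mono a := hex'.mono_f
    haveI : Epi g := hex.epi_g
    let S := kernelCokernelCompSequence.snakeInput a f
    let f' : cokernel a ⟶ cokernel (a ≫ f) := cokernel.map a (a ≫ f) (𝟙 _) f (by simp)
    let g' : cokernel (a ≫ f) ⟶ cokernel f := cokernel.map (a ≫ f) f a (𝟙 _) (by simp)
    have hz' : f' ≫ g' = 0 := S.L₃.zero
    have h3 : (ShortComplex.mk f' g' hz').Exact := S.L₃_exact
    haveI : Mono f' := by
      refine S.L₂'_exact.mono_g ?_
      exact (isZero_kernel_of_mono f).eq_of_src _ _
    haveI : Epi g' := epi_of_epi_fac (show cokernel.π (a ≫ f) ≫ g' = cokernel.π f by simp [g'])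
    haveI : Epi b := hex'.epi_g
    let eA : cokernel a ≅ A' :=
      (cokernelIsCokernel a).coconePointUniqueUpToIso hex'.gIsCokernel
    let eC : cokernel f ≅ C := (cokernelIsCokernel f).coconePointUniqueUpToIso hex.gIsCokernel
    have hB' := ih (B := cokernel (a ≫ f)) (eA.inv ≫ f') (g' ≫ eC.hom)
      (by simp only [Category.assoc, ← Category.assoc f', hz', zero_comp, comp_zero])
      (ShortComplex.shortExact_of_iso
        (S₁ := ShortComplex.mk f' g' hz')
        (ShortComplex.isoMk eA (Iso.refl _) eC (by simp) (by simp))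
        (ShortComplex.ShortExact.mk' h3 inferInstance inferInstance))
    refine Filt.cons hL (a ≫ f) (cokernel.π (a ≫ f)) (cokernel.condition _) ?_ hB'
    exact ShortComplex.ShortExact.mk' (ShortComplex.exact_cokernel _) inferInstance inferInstance

/-- Flat pullback preserves filtrations. -/
theorem pullback {Y : Scheme.{u}} (f : Y ⟶ X) [Flat f] {M : X.Modules} {l : List X.Modules}
    (h : Filt M l) : Filt ((Scheme.Modules.pullback f).obj M) (l.map (Scheme.Modules.pullback f).obj) := by
  induction h with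
  | zero hz => exact .zero (Functor.map_isZero _ hz)
  | cons hL a b hab hex h ih =>
    exact .cons (PicLoc.isInvertible_pullback f hL) _ _ _ (C1K.Pull.shortExact_pullback f hex) ih

end Filt

section Ops

variable {X : Scheme.{u}} [IsLocallyNoetherian X] (δ : X → ℤ) (hδ : Cyc.IsDimFun X δ)

open Classical in
/-- `c₁` of a module, zero unless invertible. -/
def c1o (L : X.Modules) : AddMonoid.End (Tot X δ) :=
  if h : PicF.IsInvertible L then c1 δ hδ h else 0

theorem c1o_eq {L : X.Modules} (hL : PicF.IsInvertible L) : c1o δ hδ L = c1 δ hδ hL := dif_pos hL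

/-- Elementary symmetric operators of a list of invertible modules. -/
def esymL : List X.Modules → ℕ → AddMonoid.End (Tot X δ)
  | [], 0 => 1
  | [], _ + 1 => 0
  | _ :: _, 0 => 1
  | L :: l, q + 1 => esymL l (q + 1) + esymL l q * c1o δ hδ L

theorem esymL_zero : ∀ l : List X.Modules, esymL δ hδ l 0 = 1
  | [] => rfl
  | _ :: _ => rfl

theorem esymL_eq_zero : ∀ (l : List X.Modules) (q : ℕ), l.length < q → esymL δ hδ l q = 0
  | [], q + 1, _ => rfl
  | L :: l, q + 1, h => by
    simp only [List.length_cons] at h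
    rw [esymL, esymL_eq_zero l (q + 1) (by omega), esymL_eq_zero l q (by omega), zero_mul, add_zero]

/-- The product of `c₁(Q) - c₁(L)` over the list, head first. -/
def tailL (Q : X.Modules) : List X.Modules → AddMonoid.End (Tot X δ)
  | [] => 1
  | L :: l => tailL Q l * (c1o δ hδ Q - c1o δ hδ L)

theorem tailL_cons_apply (Q L : X.Modules) (l : List X.Modules) (z : Tot X δ) :
    tailL δ hδ Q (L :: l) z = tailL δ hδ Q l (c1o δ hδ Q z - c1o δ hδ L z) := rfl

end Ops

section Kill

variable {X : Scheme.{u}}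

theorem push_tailL {T W : Scheme.{u}} [IsLocallyNoetherian T] [IsLocallyNoetherian W] (ι : W ⟶ T)
    [IsProper ι] {δ : T → ℤ} {δW : W → ℤ} (hδ : Cyc.IsDimFun T δ) (hW : Cyc.IsDimFun W δW)
    (hc : Cyc.DeltaCompat ι δW δ) (g : T ⟶ X) {Q : T.Modules} (hQ : PicF.IsInvertible Q) :
    ∀ (l : List X.Modules), (∀ L ∈ l, PicF.IsInvertible L) → ∀ y : Tot W δW,
      push hW hδ ι hc (tailL δW hW ((Scheme.Modules.pullback ι).obj Q)
          (l.map (Scheme.Modules.pullback (ι ≫ g)).obj) y) =
        tailL δ hδ Q (l.map (Scheme.Modules.pullback g).obj) (push hW hδ ι hc y) := by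
  intro l
  induction l with
  | nil => intro _ y; rfl
  | cons L l ih =>
    intro hl y
    have hL := hl L List.mem_cons_self
    rw [List.map_cons, List.map_cons, tailL_cons_apply, tailL_cons_apply,
      ih (fun L' h => hl L' (List.mem_cons_of_mem _ h))]
    congr 1
    have e : c1 δW hW (PicLoc.isInvertible_pullback (ι ≫ g) hL) =
        c1 δW hW (PicLoc.isInvertible_pullback ι (PicLoc.isInvertible_pullback g hL)) :=
      c1_congr hW _ _ ((Scheme.Modules.pullbackComp ι g).app L).symm
    rw [map_sub, c1o_eq δW hW (PicLoc.isInvertible_pullback ι hQ),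
      c1o_eq δW hW (PicLoc.isInvertible_pullback (ι ≫ g) hL), e, c1o_eq δ hδ hQ,
      c1o_eq δ hδ (PicLoc.isInvertible_pullback g hL),
      push_c1 hW hδ ι hc hQ y, push_c1 hW hδ ι hc (PicLoc.isInvertible_pullback g hL) y]

/-- On a scheme with an invertible quotient of the filtered module the product is zero. -/
theorem Filt.tailL_eq_zero {M : X.Modules} {l : List X.Modules} (h : Filt M l) :
    ∀ {T : Scheme.{u}} [IsLocallyNoetherian T] {δ : T → ℤ} (hT : Cyc.IsSetup T δ) (g : T ⟶ X)
      {Q : T.Modules} (_hQ : PicF.IsInvertible Q) (φ : (Scheme.Modules.pullback g).obj M ⟶ Q) [Epi φ]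
      (z : Tot T δ), tailL δ hT.2.2 Q (l.map (Scheme.Modules.pullback g).obj) z = 0 := by
  induction h with
  | @zero M hz =>
    intro T _ δ hT g Q hQ φ _ z
    haveI : PreservesColimitsOfSize.{0, 0} (Scheme.Modules.pullback g) :=
      (Scheme.Modules.pullbackPushforwardAdjunction g).leftAdjoint_preservesColimits
    haveI : (Scheme.Modules.pullback g).PreservesZeroMorphisms :=
      Functor.preservesZeroMorphisms_of_preserves_initial_object
    have hφ : φ = 0 := (Functor.map_isZero _ hz).eq_of_src _ _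
    have hemp : IsEmpty T := ⟨fun x => by
      obtain ⟨u, hu, hfree⟩ := C1Indep.exists_free_gen hQ x
      obtain ⟨v, hv⟩ := (epi_iff_stalkMapₗ_surjective φ).1 inferInstance x u
      rw [hφ, stalkMapₗ_zero] at hv
      exact one_ne_zero (hfree 1 (by rw [← hv]; exact smul_zero _))⟩
    exact eq_zero_of_proj fun m => by
      obtain ⟨α, hα, e⟩ := exists_rep m (tailL δ hT.2.2 Q
        (([] : List X.Modules).map (Scheme.Modules.pullback g).obj) z)
      rw [e]
      exact (cls_congr rfl (funext fun x => hemp.elim x)).trans cls_zero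
  | @cons L M C l hL a b hab hex h ih =>
    intro T _ δ hT g Q hQ φ _ z
    haveI : PreservesColimitsOfSize.{0, 0} (Scheme.Modules.pullback g) :=
      (Scheme.Modules.pullbackPushforwardAdjunction g).leftAdjoint_preservesColimits
    haveI : (Scheme.Modules.pullback g).PreservesZeroMorphisms :=
      Functor.preservesZeroMorphisms_of_preserves_initial_object
    have hgL := PicLoc.isInvertible_pullback g hL
    obtain ⟨W, ι, hι, N, s, hN, ⟨eN⟩, hD, hσ0⟩ :=
      Zero.exists_zeroScheme ((Scheme.Modules.pullback g).map a ≫ φ) hgL hQ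
    haveI := hι
    have hW := PP.SubSetup.isSetup ι hT
    haveI := hW.1
    haveI : Epi b := hex.epi_g
    haveI : PreservesColimitsOfSize.{0, 0} (Scheme.Modules.pullback ι) :=
      (Scheme.Modules.pullbackPushforwardAdjunction ι).leftAdjoint_preservesColimits
    haveI : (Scheme.Modules.pullback ι).PreservesZeroMorphisms :=
      Functor.preservesZeroMorphisms_of_preserves_initial_object
    haveI : Epi (ShortComplex.mk a b hab).g := hex.epi_g
    have hc1' := CokernelCofork.mapIsColimit _
      (CokernelCofork.mapIsColimit _ hex.gIsCokernel (Scheme.Modules.pullback g)) (Scheme.Modules.pullback ι)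
    obtain ⟨φ₀, hφ₀⟩ := CokernelCofork.IsColimit.desc' hc1' ((Scheme.Modules.pullback ι).map φ)
      ((Functor.map_comp _ _ _).symm.trans hσ0)
    have hφ₀' : (Scheme.Modules.pullback ι).map ((Scheme.Modules.pullback g).map b) ≫ φ₀ =
        (Scheme.Modules.pullback ι).map φ := hφ₀
    let φ₁ : (Scheme.Modules.pullback ι).obj ((Scheme.Modules.pullback g).obj C) ⟶
        (Scheme.Modules.pullback ι).obj Q := φ₀
    haveI : Epi φ₁ := epi_of_epi_fac (show (Scheme.Modules.pullback ι).map
      ((Scheme.Modules.pullback g).map b) ≫ φ₁ = (Scheme.Modules.pullback ι).map φ from hφ₀')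
    let φ' : (Scheme.Modules.pullback (ι ≫ g)).obj C ⟶ (Scheme.Modules.pullback ι).obj Q :=
      (Scheme.Modules.pullbackComp ι g).inv.app C ≫ φ₁
    haveI : Epi φ' := epi_comp _ _
    have hfac : c1o δ hT.2.2 Q - c1o δ hT.2.2 ((Scheme.Modules.pullback g).obj L) = c1 δ hT.2.2 hN := by
      rw [c1o_eq δ hT.2.2 hQ, c1o_eq δ hT.2.2 hgL,
        ← c1_congr hT.2.2 (TensorMod.Invertible.isInvertible_tensorMod hN hgL) hQ eN,
        c1_tensor hT.2.2 hN hgL _ hT, add_sub_cancel_right]
    obtain ⟨y, hy⟩ := exists_push_eq_c1 hT.2.2 ι hN hD (PP.SubSetup.deltaCompat ι) z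
    rw [List.map_cons, tailL_cons_apply, show c1o δ hT.2.2 Q z -
      c1o δ hT.2.2 ((Scheme.Modules.pullback g).obj L) z = c1 δ hT.2.2 hN z from
        DFunLike.congr_fun hfac z, ← hy,
      ← push_tailL ι hT.2.2 hW.2.2 (PP.SubSetup.deltaCompat ι) g hQ l h.inv,
      ih hW (ι ≫ g) (PicLoc.isInvertible_pullback ι hQ) φ' y, map_zero]

end Kill

section Bundle

variable {X P : Scheme.{u}} [IsLocallyNoetherian X] [IsLocallyNoetherian P] {π : P ⟶ X} [IsProper π]
  {O1 : P.Modules} {n : ℕ} {δP : P → ℤ} {δ : X → ℤ} (B : Bdl π O1 n δP δ)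

theorem tailL_h (l : List P.Modules) (z : Tot P δP) :
    tailL δP B.dimP O1 l (B.h z) = B.h (tailL δP B.dimP O1 l z) := by
  induction l generalizing z with
  | nil => rfl
  | cons L l ih =>
    rw [tailL_cons_apply, tailL_cons_apply, ← ih]
    congr 1
    rw [map_sub]
    refine congrArg₂ (· - ·) ?_ ?_
    · rw [c1o_eq δP B.dimP B.inv]; rfl
    · by_cases hL : PicF.IsInvertible L
      · rw [c1o_eq δP B.dimP hL]
        exact c1_comm B.dimP _ _ z
      · rw [c1o, dif_neg hL]
        exact (map_zero B.h).symm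

/-- Expansion of the product. -/
theorem tailL_pb : ∀ (l : List X.Modules), (∀ L ∈ l, PicF.IsInvertible L) → ∀ x : Tot X δ,
    tailL δP B.dimP O1 (l.map (Scheme.Modules.pullback π).obj) (B.pb x) =
      ∑ q ∈ Finset.range (l.length + 1),
        ((-1 : ℤ) ^ q) • B.term (l.length - q) (esymL δ B.dimX l q x) := by
  haveI := B.flat
  intro l
  induction l with
  | nil =>
    intro _ x
    simp [tailL, esymL, Bdl.term_apply]
  | cons L l ih =>
    intro hl x
    have hL := hl L List.mem_cons_self
    have ih' := ih fun L' h => hl L' (List.mem_cons_of_mem _ h)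
    rw [List.map_cons, tailL_cons_apply]
    have hf : c1o δP B.dimP O1 (B.pb x) - c1o δP B.dimP ((Scheme.Modules.pullback π).obj L) (B.pb x) =
        B.h (B.pb x) - B.pb (c1o δ B.dimX L x) := by
      rw [c1o_eq δP B.dimP B.inv, c1o_eq δP B.dimP (PicLoc.isInvertible_pullback π hL),
        c1o_eq δ B.dimX hL]
      exact congrArg₂ (· - ·) rfl (pull_c1 B.dimP B.dimX π B.shift hL x).symm
    rw [hf, map_sub, tailL_h, ih', ih', map_sum, List.length_cons]
    generalize hN : l.length = N at *
    rw [Finset.sum_range_succ' _ (N + 1)]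
    have hterm : ∀ q, q ≤ N → B.h (((-1 : ℤ) ^ q) • B.term (N - q) (esymL δ B.dimX l q x)) =
        ((-1 : ℤ) ^ q) • B.term (N + 1 - q) (esymL δ B.dimX l q x) := fun q hq => by
      rw [map_zsmul]
      congr 1
      rw [show N + 1 - q = N - q + 1 by omega, Bdl.term_apply, Bdl.term_apply, pow_succ']
      rfl
    rw [Finset.sum_congr rfl fun q hq => hterm q (Nat.le_of_lt_succ (Finset.mem_range.1 hq))]
    have hrec : ∀ q, esymL δ B.dimX (L :: l) (q + 1) x =
        esymL δ B.dimX l (q + 1) x + esymL δ B.dimX l q (c1o δ B.dimX L x) := fun q => rfl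
    simp only [hrec, map_add, smul_add, Finset.sum_add_distrib, esymL_zero, Nat.sub_zero,
      pow_zero, one_smul, Nat.add_sub_add_right]
    rw [Finset.sum_range_succ' _ N]
    rw [Finset.sum_range_succ
      (fun q => ((-1 : ℤ) ^ (q + 1)) • B.term (N - q) (esymL δ B.dimX l (q + 1) x)) N]
    simp only [Nat.add_sub_add_right, esymL_zero, Nat.sub_zero, pow_zero, one_smul]
    have htop : esymL δ B.dimX l (N + 1) x = 0 := by
      rw [esymL_eq_zero δ B.dimX l (N + 1) (by omega)]; rfl
    rw [htop, map_zero, smul_zero, add_zero]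
    have hneg : ∀ q, ((-1 : ℤ) ^ (q + 1)) • B.term (N - q) (esymL δ B.dimX l q (c1o δ B.dimX L x)) =
        -(((-1 : ℤ) ^ q) • B.term (N - q) (esymL δ B.dimX l q (c1o δ B.dimX L x))) := fun q => by
      rw [pow_succ, mul_neg_one, neg_smul]
    simp only [hneg, Finset.sum_neg_distrib]
    abel

/-- The Chern operators of a filtered module are the elementary symmetric operators. -/
theorem Bdl.ch_eq_esymL {E : X.Modules} (q : (Scheme.Modules.pullback π).obj E ⟶ O1) [Epi q]
    {l : List X.Modules} (h : Filt E l) (hl : l.length = n + 1) (hP : Cyc.IsSetup P δP) (j : ℕ)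
    (x : Tot X δ) : B.ch j x = esymL δ B.dimX l j x := by
  by_cases hj : j ≤ n + 1
  swap
  · rw [B.ch_eq_zero (by omega), esymL_eq_zero δ B.dimX l j (by omega)]
  have h1 := (tailL_pb B l h.inv x).symm.trans (h.tailL_eq_zero hP π B.inv q (B.pb x))
  rw [hl] at h1
  refine ((B.eq_ch (a := fun i => esymL δ B.dimX l i x) ?_ hj).trans ?_).symm
  · rw [← Finset.sum_range_reflect]
    have h3 := congrArg (fun v => ((-1 : ℤ) ^ (n + 1)) • v) h1
    simp only [smul_zero, Finset.smul_sum, smul_smul, ← pow_add] at h3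
    refine Eq.trans (Finset.sum_congr rfl fun i hi => ?_) h3
    have hi' := Finset.mem_range.1 hi
    rw [show n + 2 - 1 - i = n + 1 - i by omega, show n + 1 - (n + 1 - i) = i by omega]
    congr 1
    rw [neg_one_pow_eq_pow_mod_two, neg_one_pow_eq_pow_mod_two (n := n + 1 + i)]
    congr 1
    omega
  · rw [esymL_zero]
    rfl

end Bundle

end Groth.Agent.Lib.Cyc.CH
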