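import Groth.Agent.Lib.Cyc.CH.Bdl
import Groth.Agent.Lib.Cyc.Gys.Closed

/-!
# Base change of frames
-/

set_option autoImplicit false
set_option linter.style.haveILetI false
universe u

open CategoryTheory CategoryTheory.Limits AlgebraicGeometry TopologicalSpace Opposite MvPolynomial
open ZarCoh.FlatBC.PullbackSections

namespace Groth.Agent.Lib.Cyc.CH.FrameBC

open Groth.Agent.Lib Groth.Agent.Lib.Cyc PB
open TensorMod.Dual TensorMod.Gen Modules.StalkModule

theorem isPullback_mv {A A' : CommRingCat.{u}} (φ : A ⟶ A') (σ : Type) :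
    IsPullback (Spec.map (CommRingCat.ofHom (MvPolynomial.map (σ := σ) φ.hom)))
      (Spec.map (CommRingCat.ofHom (MvPolynomial.C : A' →+* MvPolynomial σ A')))
      (Spec.map (CommRingCat.ofHom (MvPolynomial.C : A →+* MvPolynomial σ A))) (Spec.map φ) := by
  algebraize [φ.hom]
  let := MvPolynomial.algebraMvPolynomial (σ := σ) (R := A) (S := A')
  exact isPullback_SpecMap_of_isPushout _ _ _ _
    (CommRingCat.isPushout_iff_isPushout.mpr inferInstance)

theorem isPullback_of_mono {S T X : Scheme.{u}} (c : T ⟶ S) (b : S ⟶ X) [Mono b] (g : T ⟶ X)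
    (h : c ≫ b = g) : IsPullback c (𝟙 T) b g :=
  IsPullback.of_isLimit' ⟨by rw [h, Category.id_comp]⟩ (PullbackCone.IsLimit.mk _ (fun s => s.snd)
    (fun s => by rw [← cancel_mono b, Category.assoc, h]; exact s.condition.symm)
    (fun s => Category.comp_id _) (fun s m _ hm => by rwa [Category.comp_id] at hm))

theorem unitStalk_germ {D X : Scheme.{u}} (g : D ⟶ X) (M : X.Modules) {U : X.Opens} (d : D) (hd : g d ∈ U)
    (m : Γ(M, U)) :
    DerivedOX.PullbackStalk.unitStalk g d M (M.presheaf.germ U (g d) hd m) =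
      ((Scheme.Modules.pullback g).obj M).presheaf.germ (g ⁻¹ᵁ U) d hd (pbRes g M le_rfl m) := by
  let η := (Scheme.Modules.pullbackPushforwardAdjunction g).unit.app M
  have h1 : pbRes g M (le_refl (g ⁻¹ᵁ U)) m = η.app U m := rs_self _ _ _
  rw [h1]
  show DerivedOX.PullbackStalk.pushStalkMap g d _ (stalkMapₗ η _ _) = _
  refine (congrArg (DerivedOX.PullbackStalk.pushStalkMap g d _) (stalkMapₗ_germ η hd m)).trans ?_
  exact DerivedOX.PullbackStalk.pushStalkMap_germ g d _ hd _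

variable {X Y P P' : Scheme.{u}} {π : P ⟶ X} {π' : P' ⟶ Y} {f : Y ⟶ X} {f' : P' ⟶ P}

/-- Frames pull back along cartesian squares. -/
theorem nonempty_frame (hsq : IsPullback f' π' π f) {L : P.Modules} {n : ℕ} (η : Y)
    (hF : Nonempty (Frame π L n (f η))) :
    Nonempty (Frame π' ((Scheme.Modules.pullback f').obj L) n η) := by
  obtain ⟨F⟩ := hF
  haveI := F.b_open
  have hη : η ∈ f ⁻¹ᵁ F.b.opensRange := ⟨F.a, F.ba⟩
  obtain ⟨_, ⟨V, hV, rfl⟩, hηV, hVb⟩ :=
    Y.isBasis_affineOpens.exists_subset_of_mem_open hη (f ⁻¹ᵁ F.b.opensRange).2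
  replace hV : IsAffineOpen V := hV
  have hrg : Set.range (hV.fromSpec ≫ f) ⊆ Set.range F.b := by
    rintro _ ⟨z, rfl⟩
    rw [Scheme.Hom.comp_apply]
    exact hVb (hV.range_fromSpec.le ⟨z, rfl⟩)
  set φ := Spec.preimage (IsOpenImmersion.lift F.b (hV.fromSpec ≫ f) hrg)
  have hφ : Spec.map φ ≫ F.b = hV.fromSpec ≫ f := by
    rw [Spec.map_preimage, IsOpenImmersion.lift_fac]
  let Pv := pullback π' hV.fromSpec
  have hPv : IsPullback (pullback.fst π' hV.fromSpec ≫ f') (pullback.snd π' hV.fromSpec) π (hV.fromSpec ≫ f) :=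
    (IsPullback.of_hasPullback π' hV.fromSpec).paste_horiz hsq
  let ι := fun l : Fin (n + 1) => Spec.map (CommRingCat.ofHom (MvPolynomial.map (σ := Var l) φ.hom))
  let C' := fun l : Fin (n + 1) =>
    Spec.map (CommRingCat.ofHom (MvPolynomial.C : Γ(Y, V) →+* MvPolynomial (Var l) Γ(Y, V)))
  have hbig : ∀ l, IsPullback (ι l) (C' l ≫ 𝟙 _) (F.e l ≫ π) (hV.fromSpec ≫ f) := fun l => by
    rw [F.w l]
    exact (isPullback_mv φ (Var l)).paste_vert (isPullback_of_mono _ F.b _ hφ)
  let k := fun l => hPv.lift (ι l ≫ F.e l) (C' l) (by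
    have := (hbig l).w
    simp only [Category.comp_id] at this
    rw [Category.assoc]
    exact this)
  have hk1 : ∀ l, k l ≫ pullback.fst π' hV.fromSpec ≫ f' = ι l ≫ F.e l := fun l => hPv.lift_fst _ _ _
  have hk2 : ∀ l, k l ≫ pullback.snd π' hV.fromSpec = C' l := fun l => hPv.lift_snd _ _ _
  have hsmall : ∀ l, IsPullback (ι l) (k l) (F.e l) (pullback.fst π' hV.fromSpec ≫ f') := fun l => by
    refine IsPullback.of_bot ?_ (hk1 l).symm hPv
    rw [hk2]
    simpa only [Category.comp_id] using hbig l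
  have hkopen : ∀ l, IsOpenImmersion (k l) := fun l => by
    haveI := F.e_open l
    rw [← (hsmall l).isoPullback_hom_snd]
    infer_instance
  let e : ∀ l, Spec (CommRingCat.of (MvPolynomial (Var l) Γ(Y, V))) ⟶ P' :=
    fun l => k l ≫ pullback.fst π' hV.fromSpec
  have hef : ∀ l, e l ≫ f' = ι l ≫ F.e l := fun l => by rw [Category.assoc, hk1]
  have hew : ∀ l, e l ≫ π' = C' l ≫ hV.fromSpec := fun l => by
    rw [Category.assoc, pullback.condition, ← Category.assoc, hk2]
  have hrange : ∀ l x, π' x ∈ V → f' x ∈ Set.range (F.e l) → x ∈ Set.range (e l) := by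
    intro l x hxV hx
    obtain ⟨y, rfl⟩ : x ∈ Set.range (pullback.fst π' hV.fromSpec) := by
      rw [Scheme.Pullback.range_fst, Set.mem_preimage, hV.range_fromSpec]
      exact hxV
    obtain ⟨z, hz⟩ : y ∈ Set.range (pullback.snd (F.e l) (pullback.fst π' hV.fromSpec ≫ f')) := by
      rw [Scheme.Pullback.range_snd, Set.mem_preimage, Scheme.Hom.comp_apply]
      exact hx
    refine ⟨(hsmall l).isoPullback.inv z, ?_⟩
    rw [Scheme.Hom.comp_apply, ← Scheme.Hom.comp_apply _ (k l), IsPullback.isoPullback_inv_snd, hz]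
  have heV : ∀ l z, π' (e l z) ∈ V := fun l z => by
    rw [← Scheme.Hom.comp_apply, hew, Scheme.Hom.comp_apply]
    exact hV.range_fromSpec.le ⟨_, rfl⟩
  refine ⟨{
    A := Γ(Y, V)
    b := hV.fromSpec
    b_open := inferInstance
    a := hV.primeIdealOf ⟨η, hηV⟩
    ba := hV.fromSpec_primeIdealOf ⟨η, hηV⟩
    e := e
    e_open := fun l => haveI := hkopen l; inferInstance
    w := hew
    cover := fun x hx => ?_
    mem_iff := fun l j z => ?_
    W := f' ⁻¹ᵁ F.W
    W_mem := fun x hx => F.W_mem _ (by rw [← Scheme.Hom.comp_apply, hsq.w, Scheme.Hom.comp_apply, hx])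
    σ := fun l => pbRes f' L le_rfl (F.σ l)
    gen := fun l x hx hxl => ?_
    rel := fun l j z hz => ?_ }⟩
  · obtain ⟨l, hl⟩ := F.cover (f' x) (by rw [← Scheme.Hom.comp_apply, hsq.w, Scheme.Hom.comp_apply, hx])
    exact ⟨l, hrange l x (hx ▸ hηV) hl⟩
  · have h1 : f' (e l z) = F.e l (ι l z) := by
      rw [← Scheme.Hom.comp_apply, hef, Scheme.Hom.comp_apply]
    have h2 : e l z ∈ Set.range (e j.1) ↔ F.e l (ι l z) ∈ Set.range (F.e j.1) := by
      refine ⟨fun ⟨w, hw⟩ => ⟨ι j.1 w, ?_⟩, fun h => hrange _ _ (heV l z) (h1 ▸ h)⟩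
      rw [← h1, ← hw, ← Scheme.Hom.comp_apply _ f', hef, Scheme.Hom.comp_apply]
    rw [h2, F.mem_iff]
    show MvPolynomial.map φ.hom (MvPolynomial.X j) ∉ z.asIdeal ↔ _
    rw [MvPolynomial.map_X]
  · obtain ⟨w, rfl⟩ := hxl
    have h1 : f' (e l w) = F.e l (ι l w) := by
      rw [← Scheme.Hom.comp_apply, hef, Scheme.Hom.comp_apply]
    have := F.gen l (f' (e l w)) hx (h1 ▸ ⟨_, rfl⟩)
    rw [← unitStalk_germ f' L (e l w) hx (F.σ l)]
    exact Gys.Closed.exists_gen_pullback f' L (e l w) _ this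
  · have h1 : f' (e l z) = F.e l (ι l z) := by
      rw [← Scheme.Hom.comp_apply, hef, Scheme.Hom.comp_apply]
    have key : ∀ (y : P) (hy : y ∈ F.W) (hye : F.e l (ι l z) = y), ∃ c : P.presheaf.stalk y,
        L.presheaf.germ F.W y hy (F.σ j.1) = c • L.presheaf.germ F.W y hy (F.σ l) ∧
        (F.e l).stalkMap (ι l z) ((P.presheaf.stalkCongr (.of_eq hye.symm)).hom c) =
          (Spec (CommRingCat.of (MvPolynomial (Var l) F.A))).presheaf.germ ⊤ (ι l z) trivial
            ((Scheme.ΓSpecIso (CommRingCat.of (MvPolynomial (Var l) F.A))).inv (MvPolynomial.X j)) := by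
      rintro y hy rfl
      obtain ⟨c, hc1, hc2⟩ := F.rel l j (ι l z) hy
      refine ⟨c, hc1, ?_⟩
      simpa using hc2
    obtain ⟨c, hc1, hc2⟩ := key (f' (e l z)) hz h1.symm
    refine ⟨f'.stalkMap (e l z) c, ?_, ?_⟩
    · rw [← unitStalk_germ f' L (e l z) hz (F.σ j.1), ← unitStalk_germ f' L (e l z) hz (F.σ l)]
      exact (congrArg (DerivedOX.PullbackStalk.unitStalk f' (e l z) L) hc1).trans (map_smul _ _ _)
    · rw [← ConcreteCategory.comp_apply, ← Scheme.Hom.stalkMap_comp,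
        Scheme.Hom.stalkMap_congr_hom _ _ (hef l)]
      erw [ConcreteCategory.comp_apply, Scheme.Hom.stalkMap_comp, ConcreteCategory.comp_apply]
      erw [hc2]
      rw [Scheme.Hom.germ_stalkMap_apply]
      refine congrArg ((Spec _).presheaf.germ ⊤ z trivial) ?_
      rw [← ConcreteCategory.comp_apply, ← Scheme.Hom.appTop]
      show ((Scheme.ΓSpecIso _).inv ≫ (ι l).appTop) (MvPolynomial.X j) = _
      rw [← Scheme.ΓSpecIso_inv_naturality]
      show (Scheme.ΓSpecIso (CommRingCat.of (MvPolynomial (Var l) Γ(Y, V)))).inv (MvPolynomial.map φ.hom (MvPolynomial.X j)) = _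
      rw [MvPolynomial.map_X]

end Groth.Agent.Lib.Cyc.CH.FrameBC
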