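import Groth.Agent.Lib.Cyc.CH.Gysin
import Groth.Agent.Lib.Cyc.Gys.MulMap

/-!
# Pushing the Gysin operator forward gives the first Chern class
-/

set_option autoImplicit false
set_option linter.style.haveILetI false
universe u

open CategoryTheory AlgebraicGeometry

noncomputable section

namespace Groth.Agent.Lib.Cyc.CH

open Groth.Agent.Lib Groth.Agent.Lib.Cyc Modules.StalkModule

variable {X D : Scheme.{u}} [IsLocallyNoetherian X] [IsLocallyNoetherian D] (i : D ⟶ X)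
  [IsClosedImmersion i] {δ : X → ℤ} (hδ : Cyc.IsDimFun X δ) {L : X.Modules}
  (hL : PicF.IsInvertible L) {s : L.presheaf.obj (Opposite.op ⊤)} (hD : Cyc.IsZeroSchemeOf i L s)
  {w : (ξ : X) → Cyc.secFibre L ξ} (hw : ∀ ξ, w ξ ≠ 0)

omit [IsLocallyNoetherian D] [IsClosedImmersion i] in
include hδ hL hD in
/-- Off the zero scheme the chosen sections have no divisor. -/
theorem c1CapFun_eq_zero (a : X → ℤ) {x : X} (hx : x ∉ Set.range ⇑i) :
    Cyc.c1CapFun δ L a (Cyc.gysinChoice L s w) x = 0 := by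
  refine finsum_eq_zero_of_forall_eq_zero fun ξ => ?_
  by_cases h : ξ ⤳ x ∧ δ x + 1 = δ ξ
  swap
  · rw [Cyc.secDivFun, dif_neg h, mul_zero]
  rw [Cyc.secDivFun, dif_pos h]
  obtain ⟨t, f, ht, hs⟩ := Gys.MulMap.exists_coeff L s hL x
  have hf := Gys.MulMap.isUnit_coeff L s hD hx hs
  have hgen : Submodule.span (X.presheaf.stalk x) {L.presheaf.germ ⊤ x trivial s} = ⊤ := by
    rw [hs, Submodule.span_singleton_smul_eq hf, ht]
  have hsp : L.presheaf.stalkSpecializes h.1 (L.presheaf.germ ⊤ x trivial s) =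
      L.presheaf.germ ⊤ ξ trivial s := TopCat.Presheaf.germ_stalkSpecializes_apply _ _ _ _
  have hne : (Submodule.Quotient.mk (L.presheaf.germ ⊤ ξ trivial s) : Cyc.secFibre L ξ) ≠ 0 := by
    exact hsp ▸ C1Indep.mk_ne_zero hL ξ (C1Indep.span_stalkSpecializes hL h.1 hgen)
  rw [Cyc.gysinChoice, if_pos hne, C1Indep.secOrdAt_eq hδ hL x ξ h.1 h.2.ge _ hne _ hgen 1
    (by rw [one_smul, hsp]), map_one, Ord.ordAt_one hδ x ξ h.1 h.2.ge, mul_zero]

/-- `i_* i^* = c₁(L)`. -/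
theorem push_gys (hc : Cyc.DeltaCompat i (fun d => δ (i d)) δ) (x : Tot X δ) :
    push (Gys.Closed.isDimFun i hδ) hδ i hc (gys i hδ hL hD hw x) = c1 δ hδ hL x := by
  refine DFunLike.congr_fun (hom_ext
    (A := (push (Gys.Closed.isDimFun i hδ) hδ i hc).comp (gys i hδ hL hD hw))
    (B := c1 δ hδ hL) fun k α hα => ?_) x
  show push (Gys.Closed.isDimFun i hδ) hδ i hc (gys i hδ hL hD hw _) = c1 δ hδ hL _
  obtain ⟨β, hβ, e⟩ := exists_gys_cycle i hδ hL (s := s) hw hα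
  rw [gys_cls i hδ hL hD hw hα rfl hβ e, push_cls (Gys.Closed.isDimFun i hδ) hδ i hc hβ rfl (map_mem i hβ),
    c1_cls δ hδ hL hα rfl (map_mem i hβ) (Cyc.gysinChoice L s w)
      (Gys.Cycle.gysinChoice_ne_zero (s := s) hw) (funext fun z => ?_)]
  by_cases hz : z ∈ Set.range ⇑i
  · obtain ⟨d, rfl⟩ := hz
    rw [Gys.Closed.map_apply_image, e]
  · rw [Gys.Closed.map_apply_of_not_mem i β hz, c1CapFun_eq_zero i hδ hL hD _ hz]

end Groth.Agent.Lib.Cyc.CH
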