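import Groth.Agent.Lib.Cyc.CH.Gysin
import Groth.Agent.Lib.Cyc.CH.GysSelf
import Groth.Agent.Lib.Cyc.CH.Fund
import Groth.Agent.Lib.Cyc.C1K.Chow
import Groth.Agent.Lib.Cyc.Gys.Proper

/-!
# The Gysin image of the fundamental class
-/

set_option autoImplicit false
set_option linter.style.haveILetI false
universe u

open CategoryTheory CategoryTheory.Limits AlgebraicGeometry

noncomputable section

namespace Groth.Agent.Lib.Cyc.CH.GysFund

open Groth.Agent.Lib Groth.Agent.Lib.Cyc Modules.StalkModule Groth.Agent.Lib.Cyc.C1K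

variable {X D : Scheme.{u}} [IsLocallyNoetherian X] [IsLocallyNoetherian D] (i : D ⟶ X)
  [IsClosedImmersion i] {δ : X → ℤ} {L : X.Modules}
  (hL : PicF.IsInvertible L) {s : L.presheaf.obj (Opposite.op ⊤)} (hD : Cyc.IsZeroSchemeOf i L s)
  {w : (ξ : X) → Cyc.secFibre L ξ} (hw : ∀ ξ, w ξ ≠ 0)

/-- The Gysin map sends the fundamental class to that of the zero scheme, when the section has no
torsion at the top points of the zero scheme. -/
theorem gys_fund (hX : Cyc.IsSetup X δ) (k : ℤ) (hk : ∀ x, δ x ≤ k + 1) (hkD : ∀ d, δ (i d) ≤ k)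
    (hreg : ∀ d, δ (i d) = k → Function.Injective
      (fun a : X.presheaf.stalk (i d) => a • (L.presheaf.germ ⊤ (i d) trivial) s))
    {α : AlgebraicCycle X ℤ} (hα : α ∈ Cyc.Zk X δ (k + 1)) (eα : ⇑α = Cyc.subschemeFun δ (k + 1) (𝟙 X))
    {β : AlgebraicCycle D ℤ} (hβ : β ∈ Cyc.Zk D (fun d => δ (i d)) k)
    (eβ : ⇑β = Cyc.subschemeFun (fun d => δ (i d)) k (𝟙 D)) :
    gys i hX.2.2 hL hD hw (cls δ (k + 1) α hα) = cls (fun d => δ (i d)) k β hβ := by
  have hδ := hX.2.2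
  have hδD := Gys.Closed.isDimFun i hδ
  let O := Coh.structureModule X
  have hF : Cyc.CohLe δ (k + 1) O := ⟨Snapper.Twist.isCoh_structureModule X, fun x _ => hk x⟩
  obtain ⟨A, B, hA, hB, e, fe⟩ := Gys.Cycle.exists_gys i hδ hL hD hF w hw
  have kK := Gys.MulMap.killed_kernel L s (F := O) hL hD
  have kC := Gys.MulMap.killed_cokernel L s (F := O) hL hD
  have hs := Gys.Class.small_of_cohLe (s := s) hL hF
  have hK : Cyc.CohLe δ (k - 1) (kernel (Gys.MulMap.mulS L s O)) := ⟨hs.2.1.1, fun x hx => by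
    by_cases hxD : x ∈ Set.range ⇑i
    swap
    · exact absurd (kK.off x hxD) (not_subsingleton_iff_nontrivial.2 hx)
    obtain ⟨d, rfl⟩ := hxD
    rcases (hkD d).eq_or_lt with h | h
    swap
    · omega
    exfalso
    obtain ⟨t, f, ht, hf⟩ := Gys.MulMap.exists_coeff L s hL (i d)
    obtain ⟨E, hE⟩ := Gys.MulMap.exists_stalk L s hL ht hf O
    obtain ⟨w₀⟩ := Cyc.SheafLen.exists_unit_stalk_equiv (X := X) (i d)
    refine not_subsingleton_iff_nontrivial.2 hx ⟨fun a b =>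
      (mono_iff_stalkMapₗ_injective (kernel.ι (Gys.MulMap.mulS L s O))).1 inferInstance (i d)
        (w₀.injective ?_)⟩
    have hz : ∀ a : (kernel (Gys.MulMap.mulS L s O)).presheaf.stalk (i d),
        w₀ (stalkMapₗ (kernel.ι (Gys.MulMap.mulS L s O)) (i d) a) = 0 := by
      intro a
      have h0 : f • stalkMapₗ (kernel.ι (Gys.MulMap.mulS L s O)) (i d) a = 0 := by
        rw [← hE, ← LinearMap.comp_apply (stalkMapₗ (Gys.MulMap.mulS L s O) (i d)), ← stalkMapₗ_comp,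
          kernel.condition, stalkMapₗ_zero, LinearMap.zero_apply, map_zero]
      apply hreg d h
      show w₀ _ • L.presheaf.germ ⊤ (i d) trivial s = (0 : X.presheaf.stalk (i d)) • _
      rw [hf, smul_smul, zero_smul, mul_comm]
      have h1 := congrArg w₀ h0
      rw [map_smul, map_zero, smul_eq_mul] at h1
      rw [h1, zero_smul]
    rw [hz, hz]⟩
  have hC : Cyc.CohLe (fun d => δ (i d)) k
      ((Scheme.Modules.pullback i).obj (cokernel (Gys.MulMap.mulS L s O))) :=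
    ⟨(Gys.Killed.cohLe_pull i kC hs.2.2).1, fun d _ => hkD d⟩
  have hK0 : Gys.Killed.clD i δ (k + 1) (k - 1) (kernel (Gys.MulMap.mulS L s O)) = 0 :=
    K0.Cycles.mk_eq_zero (fun d => δ (i d)) (k + 1) (k - 1) (Gys.Killed.cohLe_pull i kK hK)
  obtain ⟨γ, hγ, eγ⟩ := exists_gys_cycle i hδ hL (s := s) hw hα
  have hγ' : γ ∈ Cyc.Zk D (fun d => δ (i d)) k := by rwa [add_sub_cancel_right] at hγ
  rw [gys_cls i hδ hL hD hw hα (by ring) hγ' eγ, cls_eq_iff hδD]
  obtain ⟨Z₀, hZ₀, hZ0⟩ : ∃ Z₀ : D.Modules, IsZero Z₀ ∧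
      Cyc.toK0CohQuot (fun d => δ (i d)) (k + 1) (k - 1) Z₀ = 0 := by
    have hz : IsZero (cokernel (𝟙 (Coh.structureModule D))) := isZero_cokernel_of_epi _
    refine ⟨_, hz, K0.Cycles.mk_eq_zero _ _ _ ⟨KRes.CohP.isCoh_of_isZero D hz, fun x hx => ?_⟩⟩
    exact absurd hx (not_nontrivial_iff_subsingleton.2
      (AddCommGrpCat.subsingleton_of_isZero ((Modules.Stalk.stalkFunctor D x).map_isZero hz)))
  have hsub : ∀ d, Subsingleton (Z₀.presheaf.stalk d) := fun d =>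
    AddCommGrpCat.subsingleton_of_isZero ((Modules.Stalk.stalkFunctor D d).map_isZero hZ₀)
  have hZc : Cyc.CohLe (fun d => δ (i d)) k Z₀ :=
    ⟨KRes.CohP.isCoh_of_isZero D hZ₀, fun d hd => absurd hd (not_nontrivial_iff_subsingleton.2 (hsub d))⟩
  refine Chow.ratEquivZero_of_cl hδD hA hB hC hZc ?_ _ fun d => ?_
  · rw [hZ0, sub_zero, ← e, Gys.Class.gys, hK0, sub_zero]
  · have hlen : Cyc.sheafFun (fun d => δ (i d)) k
        ((Scheme.Modules.pullback i).obj (cokernel (Gys.MulMap.mulS L s O))) d = β d := by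
      let q := Gys.Proper.pullCokerIso i hL hD O ≪≫ TensorMod.Pullback.pullbackTensorIso i O L ≪≫
        TensorMod.Basic.tensorIso (PicLoc.pullbackStructureIso i) (Iso.refl _)
      rw [eβ, Fund.subschemeFun_id]
      simp only [Cyc.sheafFun, (stalkLinearEquiv q d).length_eq,
        C1K.Main.length_twist (PicLoc.isInvertible_pullback i hL)]
    have hz : Cyc.sheafFun (fun d => δ (i d)) k Z₀ d = 0 := by
      haveI := hsub d
      simp [Cyc.sheafFun]
    rw [Function.locallyFinsuppWithin.coe_sub, Pi.sub_apply, hlen, hz, fe, eγ, eα,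
      ← Fund.subschemeFun_id, sub_zero]

include hD in
/-- `c₁(L) ∩ [X] = [D]`. -/
theorem c1_fund (hX : Cyc.IsSetup X δ) (k : ℤ) (hk : ∀ x, δ x ≤ k + 1) (hkD : ∀ d, δ (i d) ≤ k)
    (hreg : ∀ d, δ (i d) = k → Function.Injective
      (fun a : X.presheaf.stalk (i d) => a • (L.presheaf.germ ⊤ (i d) trivial) s))
    (hc : Cyc.DeltaCompat i (fun d => δ (i d)) δ)
    {α : AlgebraicCycle X ℤ} (hα : α ∈ Cyc.Zk X δ (k + 1)) (eα : ⇑α = Cyc.subschemeFun δ (k + 1) (𝟙 X))
    {β : AlgebraicCycle D ℤ} (hβ : β ∈ Cyc.Zk D (fun d => δ (i d)) k)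
    (eβ : ⇑β = Cyc.subschemeFun (fun d => δ (i d)) k (𝟙 D)) :
    c1 δ hX.2.2 hL (cls δ (k + 1) α hα) =
      push (Gys.Closed.isDimFun i hX.2.2) hX.2.2 i hc (cls (fun d => δ (i d)) k β hβ) := by
  obtain ⟨w, hw⟩ := exists_sections hL
  rw [← gys_fund i hL hD hw hX k hk hkD hreg hα eα hβ eβ]
  exact (push_gys i hX.2.2 hL hD hw hc _).symm

end Groth.Agent.Lib.Cyc.CH.GysFund
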