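import Groth.Agent.Lib.Cyc.AffFib.Fibre
import Groth.Agent.Lib.Cyc.AffFib.Affine

/-!
# Fibres of the affine line over a scheme over a field
-/

set_option autoImplicit false
set_option linter.style.haveILetI false
universe u

open CategoryTheory CategoryTheory.Limits AlgebraicGeometry TopologicalSpace Opposite IsLocalRing

noncomputable section

namespace Groth.Agent.Lib.Cyc.CH.LineFib

open Groth.Agent.Lib Groth.Agent.Lib.Cyc

variable {k : Type u} [Field k] {X P : Scheme.{u}} {f : X ⟶ Spec (CommRingCat.of k)}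
  {p₁ : P ⟶ X} {p₂ : P ⟶ Spec (CommRingCat.of (Polynomial k))}

/-- The coordinate on the line. -/
def coord (p₂ : P ⟶ Spec (CommRingCat.of (Polynomial k))) : Γ(P, ⊤) :=
  p₂.appTop ((Scheme.ΓSpecIso (CommRingCat.of (Polynomial k))).inv Polynomial.X)

theorem exists_gen [IsLocallyNoetherian P]
    (hP : IsPullback p₁ p₂ f (Spec.map (CommRingCat.ofHom (Polynomial.C : k →+* Polynomial k))))
    {δ : P → ℤ} (hd : Cyc.IsDimFun P δ) (y : X) :
    ∃ z : P, p₁ z = y ∧ FibLen.fibLen p₁ z = 1 ∧ Residue.trdegAt p₁ z = 1 ∧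
      (∀ x : P, p₁ x = y → z ⤳ x) ∧
      ∀ (d e : X.presheaf.stalk (p₁ z)), IsUnit d ∨ IsUnit e →
        IsUnit (P.presheaf.germ ⊤ z trivial (coord p₂) * p₁.stalkMap z d + p₁.stalkMap z e) := by
  let L : Type u := X.residueField y
  let ι := X.fromSpecResidueField y
  let φ := Spec.preimage (ι ≫ f)
  have hφ : Spec.map φ = ι ≫ f := Spec.map_preimage _
  letI : Algebra k L := φ.hom.toAlgebra
  letI := Polynomial.algebra k L
  have H1 := isPullback_SpecMap_of_isPushout _ _ _ _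
    (CommRingCat.isPushout_of_isPushout k L (Polynomial k) (Polynomial L))
  let q : Spec (CommRingCat.of (Polynomial L)) ⟶ Spec (CommRingCat.of L) :=
    Spec.map (CommRingCat.ofHom (Polynomial.C : L →+* Polynomial L))
  let m : Spec (CommRingCat.of (Polynomial L)) ⟶ Spec (CommRingCat.of (Polynomial k)) :=
    Spec.map (CommRingCat.ofHom (algebraMap (Polynomial k) (Polynomial L)))
  have H1' : IsPullback q m (Spec.map φ) (Spec.map (CommRingCat.ofHom (Polynomial.C : k →+* Polynomial k))) := H1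
  let e : Spec (CommRingCat.of (Polynomial L)) ⟶ P := hP.lift (q ≫ ι) m (by
    rw [Category.assoc, ← hφ]; exact H1'.w)
  have H : IsPullback e q p₁ ι := by
    have h2 : IsPullback (e ≫ p₂) q (Spec.map (CommRingCat.ofHom (Polynomial.C : k →+* Polynomial k))) (ι ≫ f) := by
      rw [IsPullback.lift_snd, ← hφ]
      exact H1'.flip
    exact IsPullback.of_right h2 (hP.lift_fst _ _ _) hP.flip
  obtain ⟨z, hz, hp, hlen, htr, hall⟩ := AffFib.Fibre.exists_gen H
    (AffFib.Affine.killsAll_polynomial_field L) hd y (Scheme.fromSpecResidueField_apply _ _)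
  refine ⟨z, hp, hlen, htr.trans (AffFib.Affine.trdegAt_generic_polynomial L), fun x hx => (hall x hx).1,
    fun d d' hu => ?_⟩
  obtain ⟨V, hV, a, rfl⟩ := X.presheaf.exists_germ_eq (x := p₁ z) d
  obtain ⟨V', hV', b, rfl⟩ := X.presheaf.exists_germ_eq (x := p₁ z) d'
  let W := V ⊓ V'
  let a' : Γ(X, W) := X.presheaf.map (homOfLE inf_le_left).op a
  let b' : Γ(X, W) := X.presheaf.map (homOfLE inf_le_right).op b
  have ea : X.presheaf.germ W (p₁ z) ⟨hV, hV'⟩ a' = X.presheaf.germ V (p₁ z) hV a :=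
    TopCat.Presheaf.germ_res_apply _ _ _ _ _
  have eb : X.presheaf.germ W (p₁ z) ⟨hV, hV'⟩ b' = X.presheaf.germ V' (p₁ z) hV' b :=
    TopCat.Presheaf.germ_res_apply _ _ _ _ _
  rw [← ea, ← eb] at hu ⊢
  rw [Scheme.Hom.germ_stalkMap_apply, Scheme.Hom.germ_stalkMap_apply,
    ← TopCat.Presheaf.germ_res_apply P.presheaf (homOfLE (le_top : p₁ ⁻¹ᵁ W ≤ ⊤)) z (show p₁ z ∈ W from ⟨hV, hV'⟩) (coord p₂),
    ← map_mul, ← map_add]
  refine (P.mem_basicOpen _ z (show p₁ z ∈ W from ⟨hV, hV'⟩)).1 ?_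
  -- compute on the fibre
  have hyW : y ∈ W := hp ▸ ⟨hV, hV'⟩
  have hιW : (⊤ : (Spec (CommRingCat.of L)).Opens) ≤ ι ⁻¹ᵁ W := fun w _ => by
    show ι w ∈ W
    rw [Scheme.fromSpecResidueField_apply]
    exact hyW
  have hqW : (⊤ : (Spec (CommRingCat.of (Polynomial L))).Opens) ≤ (q ≫ ι) ⁻¹ᵁ W := fun w _ => hιW (x := q w) trivial
  have heW : (⊤ : (Spec (CommRingCat.of (Polynomial L))).Opens) ≤ e ⁻¹ᵁ (p₁ ⁻¹ᵁ W) := fun w _ => by
    show p₁ (e w) ∈ W
    rw [← Scheme.Hom.comp_apply, H.w]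
    exact hqW (x := w) trivial
  let g := (Scheme.ΓSpecIso (CommRingCat.of L)).hom
  let l : Γ(X, W) → L := fun s => g (ι.appLE W ⊤ hιW s)
  have hval : ∀ s : Γ(X, W), e.appLE (p₁ ⁻¹ᵁ W) ⊤ heW (p₁.app W s) =
      (Scheme.ΓSpecIso (CommRingCat.of (Polynomial L))).inv (Polynomial.C (l s)) := fun s => by
    have h1 : p₁.app W ≫ e.appLE (p₁ ⁻¹ᵁ W) ⊤ heW = ι.appLE W ⊤ hιW ≫ q.appTop := by
      rw [← Scheme.Hom.comp_appLE]
      have h3 : (e ≫ p₁).appLE W ⊤ heW = (q ≫ ι).appLE W ⊤ hqW := by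
        have : ∀ (u v : Spec (CommRingCat.of (Polynomial L)) ⟶ X) (h : u = v) (hu hv),
            u.appLE W ⊤ hu = v.appLE W ⊤ hv := by
          rintro u v rfl _ _
          rfl
        exact this _ _ H.w _ _
      rw [h3, Scheme.Hom.appTop, Scheme.Hom.app_eq_appLE]
      exact (Scheme.Hom.appLE_comp_appLE q ι W ⊤ ⊤ hιW le_rfl).symm
    refine (ConcreteCategory.congr_hom h1 s).trans ?_
    show q.appTop (ι.appLE W ⊤ hιW s) = _
    have h2 := ConcreteCategory.congr_hom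
      (Scheme.ΓSpecIso_inv_naturality (CommRingCat.ofHom (Polynomial.C : L →+* Polynomial L))) (l s)
    refine Eq.trans (congrArg q.appTop ?_) h2.symm
    exact ((ConcreteCategory.congr_hom (Scheme.ΓSpecIso (CommRingCat.of L)).hom_inv_id _)).symm
  have hT : e.appLE (p₁ ⁻¹ᵁ W) ⊤ heW (P.presheaf.map (homOfLE (le_top : p₁ ⁻¹ᵁ W ≤ ⊤)).op (coord p₂)) =
      (Scheme.ΓSpecIso (CommRingCat.of (Polynomial L))).inv Polynomial.X := by
    have h1 : P.presheaf.map (homOfLE (le_top : p₁ ⁻¹ᵁ W ≤ ⊤)).op ≫ e.appLE (p₁ ⁻¹ᵁ W) ⊤ heW = e.appTop := by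
      rw [Scheme.Hom.map_appLE, Scheme.Hom.appTop, Scheme.Hom.app_eq_appLE]
      rfl
    refine (ConcreteCategory.congr_hom h1 _).trans ?_
    show e.appTop (p₂.appTop _) = _
    rw [← CommRingCat.comp_apply, ← Scheme.Hom.comp_appTop, IsPullback.lift_snd]
    refine (ConcreteCategory.congr_hom (Scheme.ΓSpecIso_inv_naturality
      (CommRingCat.ofHom (algebraMap (Polynomial k) (Polynomial L)))) Polynomial.X).symm.trans ?_
    rw [CommRingCat.comp_apply]
    refine congrArg _ ?_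
    exact Polynomial.map_X (algebraMap k L)
  have hl : ∀ s : Γ(X, W), IsUnit (X.presheaf.germ W (p₁ z) ⟨hV, hV'⟩ s) → l s ≠ 0 := fun s hs h0 => by
    have hb : y ∈ X.basicOpen s := hp ▸ (X.mem_basicOpen s (p₁ z) ⟨hV, hV'⟩).2 hs
    have h0' : ι.appLE W ⊤ hιW s = 0 :=
      (ConcreteCategory.bijective_of_isIso (Scheme.ΓSpecIso (CommRingCat.of L)).hom).1 (h0.trans (map_zero _).symm)
    have h1 := Scheme.basicOpen_appLE ι ⊤ W hιW s
    rw [h0', Scheme.basicOpen_zero] at h1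
    have h2 : (genericPoint (Spec (CommRingCat.of L))) ∈ (⊥ : (Spec (CommRingCat.of L)).Opens) := by
      rw [h1]
      exact ⟨trivial, show ι _ ∈ X.basicOpen s by rw [Scheme.fromSpecResidueField_apply]; exact hb⟩
    exact h2
  rw [hz]
  set s := P.presheaf.map (homOfLE (le_top : p₁ ⁻¹ᵁ W ≤ ⊤)).op (coord p₂) * p₁.app W a' + p₁.app W b' with hs
  have hne : e.appLE (p₁ ⁻¹ᵁ W) ⊤ heW s ≠ 0 := by
    rw [hs, map_add, map_mul, hT, hval, hval, ← map_mul, ← map_add]
    intro h0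
    have h1 := (ConcreteCategory.bijective_of_isIso
      (Scheme.ΓSpecIso (CommRingCat.of (Polynomial L))).inv).1 (h0.trans (map_zero _).symm)
    rcases hu with hu | hu
    · exact hl a' hu (by simpa using congrArg (fun r : Polynomial L => r.coeff 1) h1)
    · exact hl b' hu (by simpa using congrArg (fun r : Polynomial L => r.coeff 0) h1)
  have hne' := fun h => hne ((basicOpen_eq_bot_iff _).1 h)
  rw [Scheme.basicOpen_appLE] at hne'
  obtain ⟨w, hw⟩ : ∃ w, w ∈ e ⁻¹ᵁ P.basicOpen s := by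
    by_contra h
    exact hne' (eq_bot_iff.2 fun w hw => (h ⟨w, hw.2⟩).elim)
  exact ((genericPoint_specializes w).mem_open (e ⁻¹ᵁ P.basicOpen s).2 hw :
    genericPoint _ ∈ e ⁻¹ᵁ P.basicOpen s)

end Groth.Agent.Lib.Cyc.CH.LineFib
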