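import Groth.Agent.Lib.Cyc.CH.CurvePts
import Groth.Agent.Lib.Cyc.CH.LineFib
import Groth.Agent.Lib.Cyc.FP.Prime

/-!
# Moving divisors off the fibres of a curve times the line
-/

set_option autoImplicit false
set_option linter.style.haveILetI false
universe u

open CategoryTheory CategoryTheory.Limits AlgebraicGeometry TopologicalSpace Opposite IsLocalRing

noncomputable section

namespace Groth.Agent.Lib.Cyc.CH.Horiz

open Groth.Agent.Lib Groth.Agent.Lib.Cyc

theorem cast_natCast_add {a b : ℤ} {n : ℕ} (ha : 0 ≤ a) (hb : 0 ≤ b)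
    (h : ((a.toNat : ℕ) : Cardinal.{u}) = (b.toNat : Cardinal.{u}) + (n : Cardinal.{u})) : a = b + n := by
  rw [← Nat.cast_add] at h
  have := Nat.cast_injective (R := Cardinal.{u}) h
  omega

theorem exists_horizontal (k : Type u) [Field k] {X P : Scheme.{u}} (f : X ⟶ Spec (CommRingCat.of k))
    [IsIntegral X] [IsProper f] [Smooth f] (hdim : topologicalKrullDim X = 1)
    (p₁ : P ⟶ X) (p₂ : P ⟶ Spec (CommRingCat.of (Polynomial k)))
    (hP : IsPullback p₁ p₂ f (Spec.map (CommRingCat.ofHom (Polynomial.C : k →+* Polynomial k))))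
    (δ : P → ℤ) (hδ : Cyc.IsSetup P δ) (c : ℤ)
    (hc : ∀ z : P, IsClosed ({z} : Set P) → δ z + 1 = c)
    (α : AlgebraicCycle P ℤ) (hα : α ∈ Cyc.Zk P δ c) :
    ∃ β ∈ Cyc.Zk P δ c, Cyc.RatEquiv δ c α β ∧ ∀ z : P, β z ≠ 0 → p₁ z = genericPoint X := by
  classical
  haveI := hδ.1
  haveI : IsLocallyNoetherian X := LocallyOfFiniteType.isLocallyNoetherian f
  haveI : CompactSpace X := QuasiCompact.compactSpace_of_compactSpace f
  let C₀ := Spec.map (CommRingCat.ofHom (Polynomial.C : k →+* Polynomial k))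
  haveI : LocallyOfFiniteType C₀ := by
    rw [HasRingHomProperty.Spec_iff (P := @LocallyOfFiniteType)]
    exact (RingHom.finiteType_algebraMap (A := k) (B := Polynomial k)).2 inferInstance
  haveI : Flat C₀ := by
    rw [HasRingHomProperty.Spec_iff (P := @Flat)]
    exact (RingHom.flat_algebraMap_iff (R := k) (S := Polynomial k)).2 inferInstance
  haveI : LocallyOfFiniteType p₁ := MorphismProperty.of_isPullback hP.flip (inferInstance : LocallyOfFiniteType C₀)
  haveI : Flat p₁ := MorphismProperty.of_isPullback hP.flip (inferInstance : Flat C₀)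
  haveI : QuasiCompact p₁ := MorphismProperty.of_isPullback hP.flip (inferInstance : QuasiCompact C₀)
  let q := p₁ ≫ f
  haveI : CompactSpace P := QuasiCompact.compactSpace_of_compactSpace q
  choose Z hpZ hlen htr hall hunit using LineFib.exists_gen hP hδ.2.2
  let η := genericPoint X
  let ζ := Z η
  have hgen : ∀ x : P, ζ ⤳ x := fun x => by
    obtain ⟨w, hw, hw'⟩ := Flat.generalizingMap p₁ (genericPoint_specializes (p₁ x))
    exact (hall η w hw').trans hw
  haveI : IrreducibleSpace P := by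
    have h1 : (Set.univ : Set P) = closure {ζ} :=
      Set.ext fun x => iff_of_true trivial (specializes_iff_mem_closure.1 (hgen x))
    have : IsIrreducible (Set.univ : Set P) := h1 ▸ isIrreducible_singleton.closure
    exact { isPreirreducible_univ := this.2, toNonempty := ⟨ζ⟩ }
  -- the weights
  let δX : X → ℤ := fun y => FieldDim.fdelta f y + c
  have hX : Cyc.IsDimFun X δX := fun a b h hne => by
    obtain ⟨h1, h2⟩ := FieldDim.isDimFun_fdelta f a b h hne
    exact ⟨by simp only [δX]; omega, fun H => by have := h2 H; simp only [δX]; omega⟩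
  have hδZ : ∀ y, δ (Z y) = δX y := fun y => by
    obtain ⟨c₀, hc₀⟩ := AffFib.Kill.exists_eq_add (FieldDim.isDimFun_fdelta q) hδ.2.2
    obtain ⟨z₀, -, hz₀⟩ := IsClosed.exists_closed_singleton (S := (Set.univ : Set P)) isClosed_univ ⟨ζ, trivial⟩
    have h1 := hc z₀ hz₀
    rw [hc₀] at h1 ⊢
    simp only [FieldDim.fdelta_of_isClosed q z₀ hz₀] at h1
    have h2 : ((FieldDim.fdelta q (Z y)).toNat : Cardinal.{u}) =
        ((FieldDim.fdelta f (p₁ (Z y))).toNat : Cardinal.{u}) + Residue.trdegAt p₁ (Z y) := by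
      rw [← FieldDim.trdegAt_eq_fdelta, ← FieldDim.trdegAt_eq_fdelta, Residue.trdegAt_comp]
    rw [htr, hpZ, ← Nat.cast_one] at h2
    have h3 := cast_natCast_add (FieldDim.fdelta_nonneg q (Z y)) (FieldDim.fdelta_nonneg f y) h2
    push_cast at h3
    simp only [δX]
    omega
  have hη1 : FieldDim.fdelta f η = 1 := CurvePts.fdelta_genericPoint f hdim
  have hδζ : δ ζ = c + 1 := by rw [hδZ]; simp only [δX]; omega
  have hδy : ∀ y, y ≠ η → δ (Z y) = c := fun y hy => by
    rw [hδZ]; simp only [δX, (CurvePts.isClosed_pt f hdim hy).2]; omega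
  have hmax : ∀ w, FibLen.IsMaxFib p₁ w → w = Z (p₁ w) := fun w hw =>
    (hw (Z (p₁ w)) (hpZ _) (hall _ w rfl)).symm
  have hshift : FP.Main.Shift p₁ δ δX 0 := fun w hw => by
    conv_lhs => rw [hmax w hw]
    rw [hδZ, add_zero]
  have hu : ∀ w, p₁ w = p₁ ζ → FibLen.IsMaxFib p₁ w → w = ζ := fun w hw h => by
    rw [hmax w h, hw, hpZ]
  have hPζ : (maximalIdeal (X.presheaf.stalk (p₁ ζ))).map (p₁.stalkMap ζ).hom = maximalIdeal _ := by
    have h1 : FibLen.fibLen p₁ ζ = 1 := hlen η
    rw [FibLen.fibLen, Module.length_eq_one_iff, isSimpleModule_iff_isCoatom] at h1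
    exact IsLocalRing.eq_maximalIdeal ⟨h1⟩
  -- one fibre
  have key : ∀ x, x ≠ η → ∃ g : P.residueField ζ, g ≠ 0 ∧
      ∀ y, y ≠ η → Cyc.divFun δ ζ g (Z y) = if y = x then 1 else 0 := by
    intro x hx
    haveI := CurvePts.isDVR f hdim hx
    obtain ⟨π, hπ⟩ := IsDiscreteValuationRing.exists_irreducible (X.presheaf.stalk x)
    have hπm : maximalIdeal (X.presheaf.stalk x) = Ideal.span {π} := hπ.maximalIdeal_eq
    obtain ⟨V, hxV, aS, hgerm⟩ := X.presheaf.exists_germ_eq (x := x) π
    have hηV : η ∈ V := (genericPoint_specializes x).mem_open V.2 hxV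
    have haη : η ∈ X.basicOpen aS := by
      by_contra h
      have h1 : Cyc.specMap x η (genericPoint_specializes x) π = 0 := by
        rw [← hgerm, Ord.specMap_germ]
        exact (Scheme.evaluation_eq_zero_iff_notMem_basicOpen ..).2 h
      exact hπ.ne_zero (CurvePts.specMap_injective x (h1.trans (map_zero _).symm))
    have hfin := CurvePts.finite_compl f hdim (W := X.basicOpen aS) haη
    let T : Finset X := insert x hfin.toFinset
    have hTc : ∀ y ∈ T, IsClosed ({y} : Set X) := fun y hy => by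
      refine (CurvePts.isClosed_pt f hdim ?_).1
      rcases Finset.mem_insert.1 hy with rfl | hy
      · exact hx
      · exact fun e => (Set.Finite.mem_toFinset hfin).1 hy (e ▸ haη)
    obtain ⟨U, bS, hbη, hxU, hbx, hbT⟩ := CurvePts.exists_avoid f hdim T (Finset.mem_insert_self _ _) hTc
    have hηU : η ∈ U := X.basicOpen_le bS hbη
    -- facts on the curve, at any name of the generic point
    have cur : ∀ η' : X, η' = η → ∃ a b : X.residueField η', ∀ (y : X) (h : η' ⤳ y), y ≠ η →
        (y = x → ∃ π' b' : X.presheaf.stalk y, maximalIdeal (X.presheaf.stalk y) = Ideal.span {π'} ∧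
          Cyc.specMap y η' h π' = a ∧ Cyc.specMap y η' h (π' * b') = b ∧
          Cyc.ordAt y η' h a = 1) ∧
        (y ≠ x → (∃ u, IsUnit u ∧ Cyc.specMap y η' h u = b ∧
            ((∃ v, Cyc.specMap y η' h v = a) ∨ ∃ v, a * Cyc.specMap y η' h v = 1)) ∨
          ∃ v, IsUnit v ∧ Cyc.specMap y η' h v = a ∧
            ((∃ u, Cyc.specMap y η' h u = b) ∨ ∃ u, b * Cyc.specMap y η' h u = 1)) := by
      rintro η' rfl
      refine ⟨X.evaluation V η hηV aS, X.evaluation U η hηU bS, fun y h hy => ⟨?_, fun hne => ?_⟩⟩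
      · rintro rfl
        have hb : X.presheaf.germ U y hxU bS ∈ maximalIdeal (X.presheaf.stalk y) :=
          (mem_maximalIdeal _).2 fun hu => hbx ((X.mem_basicOpen bS y hxU).2 hu)
        rw [hπm, Ideal.mem_span_singleton] at hb
        obtain ⟨b', hb'⟩ := hb
        refine ⟨π, b', hπm, ?_, ?_, ?_⟩
        · rw [← hgerm, Ord.specMap_germ]
        · rw [← hb', Ord.specMap_germ]
        · have h1 := CurvePts.ordAt_uniformizer f hdim hX hy
            (by simp only [δX, (CurvePts.isClosed_pt f hdim hy).2, hη1, η] at hη1 ⊢; omega) hπm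
          rwa [← hgerm, Ord.specMap_germ] at h1
      · by_cases hyT : y ∈ T
        · obtain ⟨hyU, hyb⟩ := hbT y hyT
          exact Or.inl ⟨X.presheaf.germ U y hyU bS, (X.mem_basicOpen bS y hyU).1 (hyb hne),
            Ord.specMap_germ U y η h hyU bS, CurvePts.total f hdim hy _⟩
        · have hya : y ∈ X.basicOpen aS := by
            by_contra h'
            exact hyT (Finset.mem_insert_of_mem ((Set.Finite.mem_toFinset hfin).2 h'))
          exact Or.inr ⟨X.presheaf.germ V y (X.basicOpen_le aS hya) aS,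
            (X.mem_basicOpen aS y (X.basicOpen_le aS hya)).1 hya,
            Ord.specMap_germ V y η h _ aS, CurvePts.total f hdim hy _⟩
    obtain ⟨a, b, hab⟩ := cur (p₁ ζ) (hpZ η)
    let φ : X.residueField (p₁ ζ) →+* P.residueField ζ := (p₁.residueFieldMap ζ).hom
    let A := φ a
    let B := φ b
    let τ : P.residueField ζ := P.evaluation ⊤ ζ trivial (LineFib.coord p₂)
    let g : P.residueField ζ := (τ * B + A) / ((τ + A) * (τ + B))
    have main : ∀ y, y ≠ η → g ≠ 0 ∧ Cyc.ordAt (Z y) ζ (hgen _) g = if y = x then 1 else 0 := by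
      intro y hy
      let z := Z y
      have hz : p₁ z = y := hpZ y
      have hd : δ ζ ≤ δ z + 1 := by rw [hδζ, hδy y hy]
      have hyη : p₁ z ≠ η := hz ▸ hy
      obtain ⟨hA1, hA2⟩ := hab (p₁ z) ((hgen z).map p₁.continuous) hyη
      let R := Cyc.specMap (p₁ z) (p₁ ζ) ((hgen z).map p₁.continuous)
      let ω := Cyc.ordAt z ζ (hgen z)
      have hτ : Cyc.specMap z ζ (hgen z) (P.presheaf.germ ⊤ z trivial (LineFib.coord p₂)) = τ :=
        Ord.specMap_germ ⊤ z ζ (hgen z) trivial _
      have U0 : ∀ d e, IsUnit d ∨ IsUnit e → τ * φ (R d) + φ (R e) ≠ 0 ∧ ω (τ * φ (R d) + φ (R e)) = 0 := by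
        intro d e hde
        have he : Cyc.specMap z ζ (hgen z)
            (P.presheaf.germ ⊤ z trivial (LineFib.coord p₂) * p₁.stalkMap z d + p₁.stalkMap z e) =
              τ * φ (R d) + φ (R e) := by
          rw [map_add, map_mul, hτ, InducedDimFun.specMap_stalkMap, InducedDimFun.specMap_stalkMap]
        have hu := hunit y d e hde
        refine ⟨he ▸ (hu.map _).ne_zero, ?_⟩
        rw [← he]
        exact Ord.ordAt_specMap_of_isUnit hδ.2.2 z ζ (hgen z) hd _ hu
      have ω_mul : ∀ s t, s ≠ 0 → t ≠ 0 → ω (s * t) = ω s + ω t :=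
        Ord.ordAt_mul hδ.2.2 z ζ (hgen z) hd
      have fin : ∀ n₁ n₂ n₃ : ℤ, (τ * B + A ≠ 0 ∧ ω (τ * B + A) = n₁) → (τ + A ≠ 0 ∧ ω (τ + A) = n₂) →
          (τ + B ≠ 0 ∧ ω (τ + B) = n₃) → g ≠ 0 ∧ ω g = n₁ - n₂ - n₃ := by
        rintro _ _ _ ⟨h1, rfl⟩ ⟨h2, rfl⟩ ⟨h3, rfl⟩
        have hg : g ≠ 0 := div_ne_zero h1 (mul_ne_zero h2 h3)
        refine ⟨hg, ?_⟩
        have h := ω_mul g _ hg (mul_ne_zero h2 h3)
        rw [show g * ((τ + A) * (τ + B)) = τ * B + A from div_mul_cancel₀ _ (mul_ne_zero h2 h3),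
          ω_mul _ _ h2 h3] at h
        omega
      have one : φ (R 1) = 1 := by simp
      by_cases hyx : y = x
      · rw [if_pos hyx]
        obtain ⟨π', b', hπ', ha, hb, hord⟩ := hA1 (hz.trans hyx)
        have hπ0 : R π' ≠ 0 := fun h => by
          have : Cyc.ordAt (p₁ z) (p₁ ζ) ((hgen z).map p₁.continuous) a = 0 := by
            rw [← ha, show R π' = 0 from h]
            exact Ord.ordFrac_of_eq_zero _
          omega
        have hωA : ω A = 1 := by
          have h1 := FP.Prime.pullFun_divFun p₁ hδ.2.2 hX hshift ζ hPζ hu a (ha ▸ hπ0) z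
          have hcx : p₁ ζ ⤳ p₁ z ∧ δX (p₁ z) + 1 = δX (p₁ ζ) := by
            refine ⟨(hgen z).map p₁.continuous, ?_⟩
            rw [hz, hpZ, ← hδZ, ← hδZ, hδy y hy, hδζ]
          rw [FibLen.pullFun_apply, if_pos (by rw [hz, add_zero]; exact hδZ y), Cyc.divFun, dif_pos hcx,
            hlen, Cyc.divFun, dif_pos ⟨hgen z, by rw [hδy y hy, hδζ]⟩, hord] at h1
          simpa using h1.symm
        have hA0 : A ≠ 0 := fun h => hπ0 (ha.trans (φ.injective (h.trans (map_zero φ).symm)))
        have hnum : τ * B + A = A * (τ * φ (R b') + φ (R 1)) := by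
          rw [one, show B = A * φ (R b') by show φ b = φ a * φ (R b'); rw [← map_mul, ← ha, ← map_mul, hb]]
          ring
        obtain ⟨h1, h1'⟩ := U0 b' 1 (Or.inr isUnit_one)
        have k2 := U0 1 π' (Or.inl isUnit_one)
        have k3 := U0 1 (π' * b') (Or.inl isUnit_one)
        rw [one, mul_one, show φ (R π') = A from congrArg φ ha] at k2
        rw [one, mul_one, show φ (R (π' * b')) = B from congrArg φ hb] at k3
        have := fin 1 0 0 ⟨hnum ▸ mul_ne_zero hA0 h1, by rw [hnum, ω_mul _ _ hA0 h1, hωA, h1']; rfl⟩ k2 k3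
        simpa using this
      · rw [if_neg hyx]
        rcases hA2 (fun e => hyx (hz ▸ e)) with ⟨u, hu1, hub, hv⟩ | ⟨v, hv1, hva, hu'⟩
        · have k3 := U0 1 u (Or.inl isUnit_one)
          rw [one, mul_one, show φ (R u) = B from congrArg φ hub] at k3
          rcases hv with ⟨v, hva⟩ | ⟨v, hva⟩
          · have k1 := U0 u v (Or.inl hu1)
            rw [show φ (R v) = A from congrArg φ hva, show φ (R u) = B from congrArg φ hub] at k1
            have k2 := U0 1 v (Or.inl isUnit_one)
            rw [one, mul_one, show φ (R v) = A from congrArg φ hva] at k2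
            simpa using fin 0 0 0 k1 k2 k3
          · have hAv : A * φ (R v) = 1 := by rw [← map_mul, hva, map_one]
            have hA0 : A ≠ 0 := left_ne_zero_of_mul_eq_one hAv
            obtain ⟨h1, h1'⟩ := U0 (v * u) 1 (Or.inr isUnit_one)
            obtain ⟨h2, h2'⟩ := U0 v 1 (Or.inr isUnit_one)
            have e1 : τ * B + A = A * (τ * φ (R (v * u)) + φ (R 1)) := by
              rw [one, map_mul, map_mul, show φ (R u) = B from congrArg φ hub]
              linear_combination (-(τ * B)) * hAv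
            have e2 : τ + A = A * (τ * φ (R v) + φ (R 1)) := by
              rw [one]
              linear_combination (-τ) * hAv
            simpa using fin (ω A) (ω A) 0 ⟨e1 ▸ mul_ne_zero hA0 h1, by rw [e1, ω_mul _ _ hA0 h1, h1', add_zero]⟩
              ⟨e2 ▸ mul_ne_zero hA0 h2, by rw [e2, ω_mul _ _ hA0 h2, h2', add_zero]⟩ k3
        · have k2 := U0 1 v (Or.inl isUnit_one)
          rw [one, mul_one, show φ (R v) = A from congrArg φ hva] at k2
          rcases hu' with ⟨u, hub⟩ | ⟨u, hub⟩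
          · have k1 := U0 u v (Or.inr hv1)
            rw [show φ (R v) = A from congrArg φ hva, show φ (R u) = B from congrArg φ hub] at k1
            have k3 := U0 1 u (Or.inl isUnit_one)
            rw [one, mul_one, show φ (R u) = B from congrArg φ hub] at k3
            simpa using fin 0 0 0 k1 k2 k3
          · have hBu : B * φ (R u) = 1 := by rw [← map_mul, hub, map_one]
            have hB0 : B ≠ 0 := left_ne_zero_of_mul_eq_one hBu
            obtain ⟨h1, h1'⟩ := U0 1 (u * v) (Or.inl isUnit_one)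
            obtain ⟨h2, h2'⟩ := U0 u 1 (Or.inr isUnit_one)
            have e1 : τ * B + A = B * (τ * φ (R 1) + φ (R (u * v))) := by
              rw [one, map_mul, map_mul, show φ (R v) = A from congrArg φ hva]
              linear_combination (-A) * hBu
            have e3 : τ + B = B * (τ * φ (R u) + φ (R 1)) := by
              rw [one]
              linear_combination (-τ) * hBu
            simpa using fin (ω B) 0 (ω B) ⟨e1 ▸ mul_ne_zero hB0 h1, by rw [e1, ω_mul _ _ hB0 h1, h1', add_zero]⟩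
              k2 ⟨e3 ▸ mul_ne_zero hB0 h2, by rw [e3, ω_mul _ _ hB0 h2, h2', add_zero]⟩
    refine ⟨g, (main x hx).1, fun y hy => ?_⟩
    rw [Cyc.divFun, dif_pos ⟨hgen _, by rw [hδy y hy, hδζ]⟩]
    exact (main y hy).2
  choose! G hG0 hG using key
  -- the cycle
  let I : Type u := {z : P // α z ≠ 0 ∧ p₁ z ≠ η}
  have hsfin : (Function.support α).Finite := by
    simpa using α.locallyFiniteSupport.finite_inter_support_of_isCompact isCompact_univ
  haveI : Finite I := (hsfin.subset fun z (hz : α z ≠ 0 ∧ p₁ z ≠ η) => hz.1).to_subtype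
  let := Fintype.ofFinite I
  let H : I → P.residueField ζ := fun i => G (p₁ i.1) ^ α i.1
  let d : P → ℤ := fun z => ∑ i : I, Cyc.divFun δ ζ (H i) z
  have hd : LocallyFiniteSupport d := fun z => by
    choose W hW hzW hWfin using fun i : I => Ord.exists_open_finite_divFun hδ.2.2 ζ (H i) z
    refine ⟨⋂ i, W i, (isOpen_iInter_of_finite hW).mem_nhds (Set.mem_iInter.2 hzW),
      (Set.finite_iUnion hWfin).subset ?_⟩
    rintro w ⟨hwW, hw⟩
    obtain ⟨i, -, hi⟩ := Finset.exists_ne_zero_of_sum_ne_zero hw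
    exact Set.mem_iUnion.2 ⟨i, Set.mem_iInter.1 hwW i, hi⟩
  let ρ : AlgebraicCycle P ℤ := ⟨d, fun _ _ => trivial, fun z _ => hd z⟩
  have hρ : ρ ∈ Cyc.Zk P δ c := fun z hz => Finset.sum_eq_zero fun i _ =>
    dif_neg fun h => hz (by have := h.2; omega)
  have hρ0 : Cyc.RatEquivZero δ c ρ :=
    ⟨I, fun _ => ζ, H, fun _ => hδζ, fun i => zpow_ne_zero _ (hG0 _ i.2.2),
      fun _ => ⟨Set.univ, isOpen_univ, trivial, Set.toFinite _⟩,
      fun z => (finsum_eq_sum_of_fintype _).symm⟩
  refine ⟨α - ρ, fun z hz => by show α z - ρ z = 0; rw [hα z hz, hρ z hz, sub_zero],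
    by rw [Cyc.RatEquiv, sub_sub_cancel]; exact hρ0, fun z hz => ?_⟩
  by_contra hy
  have hzc : δ z = c := by
    by_contra h
    exact hz (by show α z - ρ z = 0; rw [hα z h, hρ z h, sub_zero])
  have hzZ : ∀ w, δ w = c → p₁ w ≠ η → Z (p₁ w) = w := fun w hw hwη =>
    DimFun.eq_of_specializes_of_le hδ.2.2 (hall _ w rfl) (by rw [hδy _ hwη, hw])
  refine hz ?_
  show α z - ρ z = 0
  rw [sub_eq_zero]
  have hterm : ∀ i : I, Cyc.divFun δ ζ (H i) z = α i.1 * if i.1 = z then 1 else 0 := fun i => by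
    have h1 := congrFun (C1.divFun_zpow hδ.2.2 ζ (G (p₁ i.1)) (hG0 _ i.2.2) (α i.1)) z
    refine h1.trans ?_
    show α i.1 * Cyc.divFun δ ζ (G (p₁ i.1)) z = _
    congr 1
    conv_lhs => rw [← hzZ z hzc hy]
    rw [hG _ i.2.2 _ hy]
    refine if_congr ⟨fun e => ?_, fun e => by rw [e]⟩ rfl rfl
    have hi : δ i.1 = c := by
      by_contra h
      exact i.2.1 (hα i.1 h)
    rw [← hzZ i.1 hi i.2.2, ← e, hzZ z hzc hy]
  show α z = ∑ i : I, _
  rw [Finset.sum_congr rfl fun i _ => hterm i]
  by_cases h0 : α z = 0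
  · rw [h0]
    refine (Finset.sum_eq_zero fun i _ => ?_).symm
    rw [if_neg fun e => i.2.1 (by rw [e]; exact h0), mul_zero]
  · rw [Finset.sum_eq_single (⟨z, h0, hy⟩ : I) (fun i _ hne => by
      rw [if_neg fun e => hne (Subtype.ext e), mul_zero]) fun h => absurd (Finset.mem_univ _) h,
      if_pos rfl, mul_one]

end Groth.Agent.Lib.Cyc.CH.Horiz
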