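import Groth.Agent.Lib.Cyc.CH.Tower
import Groth.Agent.Lib.Cyc.PB.Univ
import Groth.Agent.Lib.KVec.Pull
import Groth.Agent.Lib.CurveBundle.Coherent
import Groth.Agent.H75.RedSub

/-!
# Modifications splitting a locally free module
-/

set_option autoImplicit false
set_option linter.style.haveILetI false
universe u

open CategoryTheory CategoryTheory.Limits AlgebraicGeometry TopologicalSpace

noncomputable section

namespace Groth.Agent.Lib.Cyc.CH.Modif

open Groth.Agent.Lib Groth.Agent.Lib.Cyc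

variable {X Y : Scheme.{u}}

/-- A proper morphism from an integral scheme, an isomorphism over a nonempty open. -/
structure IsMod (f : Y ⟶ X) : Prop where
  integral : IsIntegral Y
  proper : IsProper f
  birat : ∃ U : X.Opens, (U : Set X).Nonempty ∧ IsIso (f ∣_ U)

/-- On an integral scheme the rank is constant. -/
theorem exists_rank [IsIntegral X] {E : X.Modules} (hE : FlatMod.IsFinLocFree E) :
    ∃ r, FlatMod.IsFinLocFreeOfRank r E := by
  have basis : ∀ x : X, ∃ (U : X.Opens) (n : ℕ), x ∈ U ∧ Nonempty (E.restrict U.ι ≅ FlatMod.freeMod (↑U) n) ∧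
      Nonempty (Module.Basis (Fin n) (X.presheaf.stalk (genericPoint X)) (E.presheaf.stalk (genericPoint X))) := by
    intro x
    obtain ⟨U, n, hx, ⟨i⟩⟩ := hE x
    obtain ⟨s, hs⟩ := CurveBundle.Coherent.exists_basis_sections i
    have hη : genericPoint X ∈ U := ((genericPoint_spec X).mem_open_set_iff U.2).2 ⟨x, trivial, hx⟩
    exact ⟨U, n, hx, ⟨i⟩, ⟨Module.Basis.mk (hs _ hη).1 (hs _ hη).2.ge⟩⟩
  obtain ⟨_, r, -, -, ⟨b⟩⟩ := basis (genericPoint X)
  refine ⟨r, fun x => ?_⟩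
  obtain ⟨U, n, hx, hi, ⟨b'⟩⟩ := basis x
  obtain rfl : n = r := by simpa using Fintype.card_congr (b'.indexEquiv b)
  exact ⟨U, hx, hi⟩

/-- A projection from a free module of positive rank. -/
theorem exists_epi_freeMod (Z : Scheme.{u}) (r : ℕ) :
    ∃ s : FlatMod.freeMod Z (r + 1) ⟶ Coh.structureModule Z, Epi s := by
  classical
  let s : FlatMod.freeMod Z (r + 1) ⟶ Coh.structureModule Z :=
    Sigma.desc fun i => if i = 0 then 𝟙 _ else 0
  haveI : IsSplitEpi s := IsSplitEpi.mk' ⟨Sigma.ι (fun _ : Fin (r + 1) => Coh.structureModule Z) 0,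
    (Sigma.ι_desc _ _).trans (if_pos rfl)⟩
  exact ⟨s, inferInstance⟩

/-- Closure of the image of a section over an open. -/
theorem exists_closure {W : X.Opens} [IsIntegral X] (hW : (W : Set X).Nonempty) {P : Scheme.{u}} (p : P ⟶ X)
    [IsProper p] (s : (W : Scheme.{u}) ⟶ P) (hs : s ≫ p = W.ι) :
    ∃ (Q : Scheme.{u}) (i : Q ⟶ P), IsIntegral Q ∧ IsProper (i ≫ p) ∧ IsIso ((i ≫ p) ∣_ W) := by
  haveI : Nonempty (W : Scheme.{u}) := by
    obtain ⟨x, hx⟩ := hW
    exact ⟨⟨x, hx⟩⟩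
  haveI : IsIntegral (W : Scheme.{u}) := isIntegral_of_isOpenImmersion W.ι
  haveI : IsImmersion (s ≫ p) := by rw [hs]; infer_instance
  haveI := IsImmersion.of_comp s p
  obtain ⟨Q, j, i, hj, hi, hQ, hr, hji⟩ := H75.RedSub.exists_factor s
  have hdense : DenseRange j := fun q => by
    rw [i.isEmbedding.isInducing.closure_eq_preimage_closure_image, Set.mem_preimage, ← Set.range_comp,
      ← TopCat.coe_comp, ← Scheme.Hom.comp_base, hji, ← hr]
    exact ⟨q, rfl⟩
  haveI : IrreducibleSpace Q := by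
    have h1 : IsIrreducible (Set.range j) := by
      rw [← Set.image_univ]
      exact (IrreducibleSpace.isIrreducible_univ _).image _ j.continuous.continuousOn
    have h2 := h1.closure
    rw [hdense.closure_range] at h2
    exact { isPreirreducible_univ := h2.2, toNonempty := ⟨h2.1.choose⟩ }
  have hint : IsIntegral Q := isIntegral_of_irreducibleSpace_of_isReduced Q
  haveI : IsProper (i ≫ p) := inferInstance
  refine ⟨Q, i, hint, inferInstance, ?_⟩
  let V := (i ≫ p) ⁻¹ᵁ W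
  have hjV : Set.range j ⊆ Set.range V.ι := by
    rintro _ ⟨w, rfl⟩
    rw [Scheme.Opens.range_ι]
    show (i ≫ p) (j w) ∈ W
    rw [← Scheme.Hom.comp_apply, ← Category.assoc, hji, hs]
    exact w.2
  let σ : (W : Scheme.{u}) ⟶ V := IsOpenImmersion.lift V.ι j hjV
  have hσ : σ ≫ V.ι = j := IsOpenImmersion.lift_fac _ _ _
  have hσ' : σ ≫ ((i ≫ p) ∣_ W) = 𝟙 _ := by
    rw [← cancel_mono W.ι, Category.assoc, morphismRestrict_ι, ← Category.assoc, hσ, ← Category.assoc,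
      hji, hs, Category.id_comp]
  haveI : IsClosedImmersion (σ ≫ ((i ≫ p) ∣_ W)) := by rw [hσ']; infer_instance
  haveI : IsClosedImmersion σ := IsClosedImmersion.of_comp σ ((i ≫ p) ∣_ W)
  haveI : IsReduced (V : Scheme.{u}) := isReduced_of_isOpenImmersion V.ι
  haveI : Surjective σ := ⟨fun v => by
    have hd : Dense (V.ι ⁻¹' Set.range j) := Dense.preimage hdense V.ι.isOpenEmbedding.isOpenMap
    have hsub : V.ι ⁻¹' Set.range j ⊆ Set.range σ := by
      rintro x ⟨w, hw⟩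
      refine ⟨w, V.ι.isOpenEmbedding.injective ?_⟩
      rw [← Scheme.Hom.comp_apply, hσ, hw]
    exact (σ.isClosedEmbedding.isClosed_range.closure_subset_iff.2 hsub) (hd v)⟩
  haveI : IsIso σ := isIso_of_isClosedImmersion_of_surjective σ
  rw [show (i ≫ p) ∣_ W = inv σ by exact IsIso.eq_inv_of_hom_inv_id hσ']
  infer_instance

/-- A modification on which the inverse image has an invertible quotient. -/
theorem step {f : Y ⟶ X} (hf : IsMod f) {K : Y.Modules} {r : ℕ}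
    (hK : FlatMod.IsFinLocFreeOfRank (r + 1) K) :
    ∃ (Q : Scheme.{u}) (g : Q ⟶ Y) (L : Q.Modules) (q : (Scheme.Modules.pullback g).obj K ⟶ L),
      IsMod (g ≫ f) ∧ FlatMod.IsFinLocFreeOfRank 1 L ∧ Epi q := by
  haveI := hf.integral
  haveI := hf.proper
  obtain ⟨U, hU, hiso⟩ := hf.birat
  haveI := hiso
  obtain ⟨x, hx⟩ := hU
  obtain ⟨y, hy⟩ := (f ∣_ U).surjective ⟨x, hx⟩
  obtain ⟨W₀, hyW, ⟨e⟩⟩ := hK ((f ⁻¹ᵁ U).ι y)
  let W : Y.Opens := W₀ ⊓ f ⁻¹ᵁ U
  have hW : (W : Set Y).Nonempty := ⟨_, hyW, y.2⟩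
  let U₂ : X.Opens := U.ι ''ᵁ ((f ∣_ U) ''ᵁ ((f ⁻¹ᵁ U).ι ⁻¹ᵁ W₀))
  have hU₂ : U₂ ≤ U := U.ι_image_le _
  have hU₂' : (U₂ : Set X).Nonempty := ⟨_, ⟨(f ∣_ U) y, ⟨y, hyW, rfl⟩, rfl⟩⟩
  have hval : ∀ w : (f ⁻¹ᵁ U : Scheme.{u}), U.ι ((f ∣_ U) w) = f ((f ⁻¹ᵁ U).ι w) := fun w => by
    rw [← Scheme.Hom.comp_apply, ← Scheme.Hom.comp_apply, morphismRestrict_ι]
  have hpre : f ⁻¹ᵁ U₂ = W := by
    apply le_antisymm
    · intro z hz
      obtain ⟨u, ⟨w, hw, rfl⟩, hwz⟩ := hz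
      have hzU : z ∈ f ⁻¹ᵁ U := hU₂ (show f z ∈ U₂ from ⟨_, ⟨w, hw, rfl⟩, hwz⟩)
      let z' : (f ⁻¹ᵁ U : Scheme.{u}) := ⟨z, hzU⟩
      have : z' = w := by
        refine (f ∣_ U).isOpenEmbedding.injective (U.ι.isOpenEmbedding.injective ?_)
        exact (hval z').trans hwz.symm
      subst this
      exact ⟨hw, hzU⟩
    · rintro z ⟨hz, hzU⟩
      let z' : (f ⁻¹ᵁ U : Scheme.{u}) := ⟨z, hzU⟩
      exact ⟨(f ∣_ U) z', ⟨z', hz, rfl⟩, hval z'⟩
  haveI : IsIso (f ∣_ U₂) := MorphismProperty.of_isPullback (P := MorphismProperty.isomorphisms Scheme.{u})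
    (HProj.Local.isPullback_restrict_of_le f hU₂).flip.flip hiso
  obtain ⟨P, p, O1, q, hP, hp, -⟩ := BdlExists.exists_proper K (TensorMod.LocFree.of_rank hK)
  haveI := hp
  obtain ⟨t, ht⟩ := exists_epi_freeMod (W₀ : Scheme.{u}) r
  haveI := ht
  obtain ⟨s₀, ⟨hs₀, -, -⟩, -⟩ := hP.univ _ W₀.ι (Coh.structureModule (W₀ : Scheme.{u}))
    (PB.Univ.rank_one_structure _) ((Scheme.Modules.restrictFunctorIsoPullback W₀.ι).inv.app K ≫ e.hom ≫ t)
    inferInstance
  obtain ⟨Q, i, hQ, hprop, hiso'⟩ := exists_closure hW p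
    (Y.homOfLE (inf_le_left : W ≤ W₀) ≫ s₀) (by rw [Category.assoc, hs₀, Scheme.homOfLE_ι])
  haveI := hP.epi
  haveI := hprop
  haveI : PreservesColimitsOfSize.{u, u} (Scheme.Modules.pullback i) :=
    (Scheme.Modules.pullbackPushforwardAdjunction i).leftAdjoint_preservesColimits
  refine ⟨Q, i ≫ p, (Scheme.Modules.pullback i).obj O1,
    (Scheme.Modules.pullbackComp i p).inv.app K ≫ (Scheme.Modules.pullback i).map q, ⟨hQ, inferInstance,
    U₂, hU₂', ?_⟩, TensorMod.LocFree.rank_pullback i hP.invertible, inferInstance⟩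
  rw [morphismRestrict_comp]
  haveI h1 : IsIso ((i ≫ p) ∣_ (f ⁻¹ᵁ U₂)) := by rw [hpre]; exact hiso'
  haveI h2 : IsIso (f ∣_ U₂) := inferInstance
  exact IsIso.comp_isIso' h1 h2

/-- A modification filtering the inverse image by invertible modules. -/
theorem exists_split (r : ℕ) : ∀ {Y : Scheme.{u}} {f : Y ⟶ X}, IsMod f →
    ∀ {K : Y.Modules}, FlatMod.IsFinLocFreeOfRank r K →
      ∃ (Q : Scheme.{u}) (g : Q ⟶ Y), IsMod (g ≫ f) ∧ Tower.Chain r ((Scheme.Modules.pullback g).obj K) := by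
  induction r with
  | zero =>
    intro Y f hf K hK
    exact ⟨Y, 𝟙 Y, by rw [Category.id_comp]; exact hf,
      Tower.Chain.zero (Functor.map_isZero _ (isZero_of_rank_zero hK))⟩
  | succ r ih =>
    intro Y f hf K hK
    obtain ⟨Q₁, g₁, L, q, hg₁, hL, hq⟩ := step hf hK
    haveI := hq
    have hker := SplitPullback.rank_kernel (m := r) q (TensorMod.LocFree.rank_pullback g₁ hK) hL
    obtain ⟨Q₂, g₂, hg₂, hch⟩ := ih hg₁ hker
    refine ⟨Q₂, g₂ ≫ g₁, by rw [Category.assoc]; exact hg₂,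
      Tower.Chain.of_iso ?_ ((Scheme.Modules.pullbackComp g₂ g₁).app K)⟩
    have hex : (ShortComplex.mk (kernel.ι q) q (kernel.condition q)).ShortExact :=
      { exact := ShortComplex.exact_of_f_is_kernel _ (kernelIsKernel q) }
    exact hch.cons (PicLoc.isInvertible_pullback g₂ (TensorMod.LocFree.isInvertible_of_rank_one hL)) _ _ _
      (KVec.Pull.shortExact_pullback g₂ hex (TensorMod.LocFree.of_rank hL))

theorem exists_modification [IsIntegral X] {E : X.Modules} (hE : FlatMod.IsFinLocFree E) :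
    ∃ (Q : Scheme.{u}) (g : Q ⟶ X) (r : ℕ), IsMod g ∧
      Tower.Chain r ((Scheme.Modules.pullback g).obj E) := by
  obtain ⟨r, hr⟩ := exists_rank hE
  have hid : IsMod (𝟙 X) := ⟨inferInstance, inferInstance, ⊤, ⟨genericPoint X, trivial⟩, inferInstance⟩
  obtain ⟨Q, g, hg, hch⟩ := exists_split r hid hr
  rw [Category.comp_id] at hg
  exact ⟨Q, g, r, hg, hch⟩

end Groth.Agent.Lib.Cyc.CH.Modif
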