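import Groth.Agent.Lib.Cyc.CH.MovePtAlg
import Groth.Agent.Lib.Cyc.Gys.Closed
import Groth.Agent.Lib.Cyc.SmoothReg
import Groth.Agent.H97.FiniteAffine

/-!
# Moving a point into a nonempty open
-/

set_option autoImplicit false
set_option linter.style.haveILetI false
universe u

open CategoryTheory CategoryTheory.Limits AlgebraicGeometry TopologicalSpace IsLocalRing

noncomputable section

namespace Groth.Agent.Lib.Cyc.CH.MovePt

open Groth.Agent.Lib Groth.Agent.Lib.Cyc
open Groth.Agent.H97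

variable {k : Type u} [Field k] {W : Scheme.{u}} (f : W ⟶ Spec (CommRingCat.of k)) {δ : W → ℤ}

theorem delta_nonneg (hδ : Cyc.DeltaCompat f δ fun _ => 0) (x : W) : 0 ≤ δ x := by
  obtain ⟨n, -, h⟩ := hδ x
  simp only [zero_add] at h
  omega

theorem delta_eq (hδ : Cyc.DeltaCompat f δ fun _ => 0) (x : W) : δ x = FieldDim.fdelta f x := by
  obtain ⟨n, hn, h⟩ := hδ x
  change Residue.trdegAt f x = n at hn
  simp [h, FieldDim.fdelta, hn]

/-- A curve through `x` meeting `U`, regular at `x`. -/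
theorem exists_curve [IsIntegral W] [Smooth f] (hd : Cyc.IsDimFun W δ) {U : W.Opens}
    (hU : (U : Set W).Nonempty) {x : W} (hx : δ x = 0) (hxU : x ∉ U) :
    ∃ (ξ : W) (h : ξ ⤳ x) (π : W.presheaf.stalk x), δ ξ = 1 ∧ ξ ∈ U ∧ π ∈ maximalIdeal (W.presheaf.stalk x) ∧
      maximalIdeal (W.presheaf.stalk x) ≤ RingHom.ker (Cyc.specMap x ξ h) ⊔ Ideal.span {π} := by
  haveI : IsLocallyNoetherian W := LocallyOfFiniteType.isLocallyNoetherian f
  haveI := Cyc.SmoothReg.isRegularLocalRing_stalk f x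
  have hne : genericPoint W ≠ x := fun e => hxU (e ▸ ((genericPoint_spec W).mem_open_set_iff U.2).2
    (by simpa using hU))
  have hlt := DimFun.lt_of_specializes hd (genericPoint_specializes x) hne
  obtain ⟨_, ⟨V, hV, rfl⟩, hxV, -⟩ :=
    W.isBasis_affineOpens.exists_subset_of_mem_open (Set.mem_univ x) isOpen_univ
  have hηV : genericPoint W ∈ V := (genericPoint_specializes x).mem_open V.2 hxV
  have hηU : genericPoint W ∈ U := ((genericPoint_spec W).mem_open_set_iff U.2).2 (by simpa using hU)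
  obtain ⟨a, haU, haη⟩ := hV.exists_basicOpen_le (V := U ⊓ V) ⟨genericPoint W, hηU, hηV⟩ hηV
  let h₀ := W.presheaf.germ V x hxV a
  have hh : h₀ ≠ 0 := fun e => by
    have h1 := Ord.specMap_germ V x (genericPoint W) (genericPoint_specializes x) hxV a
    rw [show W.presheaf.germ V x hxV a = 0 from e, map_zero] at h1
    exact (Scheme.evaluation_ne_zero_iff_mem_basicOpen W (genericPoint W) hηV a).2 haη h1.symm
  have hd0 := DimFun.ringKrullDim_stalk hd x
  obtain ⟨p, hp, hhp, hpd, π, hπm, hπ⟩ := MovePtAlg.exists_prime (δ (genericPoint W) - δ x).toNat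
    (W.presheaf.stalk x) hd0 (by omega) hh
  let P : PrimeSpectrum (W.presheaf.stalk x) := ⟨p, hp⟩
  let ξ := W.fromSpecStalk x P
  have hsp : ξ ⤳ x := DimFun.fromSpecStalk_specializes_self x P
  have hker : RingHom.ker (Cyc.specMap x ξ hsp) = p :=
    (congrArg PrimeSpectrum.asIdeal (DimFun.eq_genPrime x P)).symm
  have hle := DimFun.le_of_specializes hd hsp
  have h1 : ringKrullDim (Cyc.LocQuot x ξ hsp) = 1 := by
    rw [← hpd]
    exact ringKrullDim_eq_of_ringEquiv (Ideal.quotEquivOfEq hker)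
  rw [DimFun.ringKrullDim_locQuot hd] at h1
  have h1' : (δ ξ - δ x).toNat = 1 := by exact_mod_cast h1
  refine ⟨ξ, hsp, π, by omega, ?_, hπm, hker.symm ▸ hπ⟩
  have hξV : ξ ∈ V := hsp.mem_open V.2 hxV
  refine (haU ((Scheme.evaluation_ne_zero_iff_mem_basicOpen W ξ hξV a).1 fun e => hhp ?_)).1
  rw [← hker, RingHom.mem_ker, Ord.specMap_germ V x ξ hsp hxV a]
  exact e

/-- The order at `x` of a lift of a uniformiser. -/
theorem ordAt_eq_one [IsLocallyNoetherian W] (hd : Cyc.IsDimFun W δ) {x ξ : W} (h : ξ ⤳ x)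
    (hle : δ ξ ≤ δ x + 1) (hne : ξ ≠ x) {c : W.presheaf.stalk x} {π : W.presheaf.stalk x}
    (hπ : maximalIdeal (W.presheaf.stalk x) ≤ RingHom.ker (Cyc.specMap x ξ h) ⊔ Ideal.span {π})
    (hc : c ∈ maximalIdeal (W.presheaf.stalk x))
    (hcπ : c - π ∈ RingHom.ker (Cyc.specMap x ξ h) ⊔ maximalIdeal (W.presheaf.stalk x) ^ 2) :
    Cyc.specMap x ξ h c ≠ 0 ∧ Cyc.ordAt x ξ h (Cyc.specMap x ξ h c) = 1 := by
  let I := RingHom.ker (Cyc.specMap x ξ h)
  have hmax : maximalIdeal (W.presheaf.stalk x) ≤ I ⊔ Ideal.span {c} := by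
    refine Submodule.le_of_le_smul_of_le_jacobson_bot (I := maximalIdeal (W.presheaf.stalk x))
      (IsNoetherian.noetherian _) (by rw [jacobson_eq_maximalIdeal _ bot_ne_top]) ?_
    rw [Ideal.smul_eq_mul, ← pow_two]
    refine hπ.trans (sup_le (le_sup_of_le_left le_sup_left) ((Ideal.span_singleton_le_iff_mem _).2 ?_))
    obtain ⟨u, hu, v, hv, huv⟩ := Submodule.mem_sup.1 hcπ
    rw [show π = (-u) + c + (-v) by linear_combination huv]
    exact add_mem (Ideal.mem_sup_left (add_mem (Ideal.mem_sup_left (neg_mem hu))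
      (Ideal.mem_sup_right (Ideal.mem_span_singleton_self c)))) (Ideal.mem_sup_right (neg_mem hv))
  have hne0 : Cyc.specMap x ξ h c ≠ 0 := fun e => by
    have hI : I = maximalIdeal (W.presheaf.stalk x) := le_antisymm (le_maximalIdeal (RingHom.ker_ne_top _))
      (hmax.trans (sup_le le_rfl ((Ideal.span_singleton_le_iff_mem _).2 e)))
    exact hne ((DimFun.fromSpecStalk_genPrime x ξ h).symm.trans
      ((congrArg (W.fromSpecStalk x) (PrimeSpectrum.ext (y := closedPoint _) hI)).trans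
        Scheme.fromSpecStalk_closedPoint))
  refine ⟨hne0, ?_⟩
  rw [Ord.ordAt_specMap hd x ξ h hle c hne0]
  let R := Cyc.LocQuot x ξ h
  have hm : (Ideal.span {(Ideal.Quotient.mk _ c : R)}).IsMaximal := by
    have : Ideal.span {(Ideal.Quotient.mk _ c : R)} =
        (maximalIdeal (W.presheaf.stalk x)).map (Ideal.Quotient.mk _) := by
      refine le_antisymm ((Ideal.span_singleton_le_iff_mem _).2 (Ideal.mem_map_of_mem _ hc)) ?_
      refine (Ideal.map_mono hmax).trans ?_
      rw [Ideal.map_sup, Ideal.map_quotient_self, bot_sup_eq, Ideal.map_span, Set.image_singleton]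
    rw [this]
    refine (Ideal.map_eq_top_or_isMaximal_of_surjective (Ideal.Quotient.mk (RingHom.ker (Cyc.specMap x ξ h)))
      Ideal.Quotient.mk_surjective
      (maximalIdeal.isMaximal _)).resolve_left fun h' => ?_
    have h1 := congrArg (Ideal.comap (Ideal.Quotient.mk _)) h'
    rw [Ideal.comap_map_of_surjective _ Ideal.Quotient.mk_surjective, Ideal.comap_top,
      ← RingHom.ker_eq_comap_bot, Ideal.mk_ker,
      sup_eq_left.2 (le_maximalIdeal (RingHom.ker_ne_top _))] at h1
    exact (maximalIdeal.isMaximal _).ne_top h1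
  have : IsSimpleModule R (R ⧸ Ideal.span {(Ideal.Quotient.mk _ c : R)}) :=
    isSimpleModule_iff_isCoatom.mpr hm.out
  rw [Ring.ord, Module.length_eq_one]
  rfl

/-- A function on a curve: a uniformiser at `x'`, a unit at the other points outside `U`. -/
theorem exists_function {C : Scheme.{u}} [IsIntegral C] [IsNoetherian C] [C.IsSeparated] {dC : C → ℤ}
    (hdC : Cyc.IsDimFun C dC) (h0 : ∀ y, 0 ≤ dC y) (h1 : dC (genericPoint C) = 1) {S : Set C}
    (hS : IsClosed S) (hSη : genericPoint C ∉ S) {x' : C} (hx' : x' ∈ S) {π : C.presheaf.stalk x'}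
    (hπ : π ∈ maximalIdeal (C.presheaf.stalk x')) :
    ∃ (V : C.Opens) (φ : Γ(C, V)) (hxV : x' ∈ V),
      C.presheaf.germ V x' hxV φ ∈ maximalIdeal (C.presheaf.stalk x') ∧
      C.presheaf.germ V x' hxV φ - π ∈ maximalIdeal (C.presheaf.stalk x') ^ 2 ∧
      ∀ y ∈ S, y ≠ x' → ∃ hy : y ∈ V, IsUnit (C.presheaf.germ V y hy φ) := by
  classical
  have hδC : ∀ y, y ≠ genericPoint C → dC y = 0 := fun y hy => by
    have := DimFun.lt_of_specializes hdC (genericPoint_specializes y) (Ne.symm hy)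
    have := h0 y
    omega
  have hcl : ∀ y, y ≠ genericPoint C → IsClosed ({y} : Set C) := fun y hy => by
    rw [← closure_eq_iff_isClosed]
    refine Set.Subset.antisymm (fun w hw => ?_) subset_closure
    by_contra hne
    have h2 := DimFun.lt_of_specializes hdC (specializes_iff_mem_closure.2 hw) fun e => hne e.symm
    have := h0 w
    have := hδC y hy
    omega
  have hSne : ∀ y ∈ S, y ≠ genericPoint C := fun y hy e => hSη (e ▸ hy)
  have hSf : S.Finite := by
    obtain ⟨T, hTf, hTcl, hTirr, hT⟩ := NoetherianSpace.exists_finite_set_isClosed_irreducible hS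
    rw [hT]
    refine Set.Finite.sUnion hTf fun t ht => ?_
    have hgen := (hTirr t ht).isGenericPoint_genericPoint (hTcl t ht)
    have hne : (hTirr t ht).genericPoint ≠ genericPoint C :=
      hSne _ (hT ▸ Set.mem_sUnion_of_mem hgen.mem ht)
    rw [← hgen.def, (hcl _ hne).closure_eq]
    exact Set.finite_singleton _
  obtain ⟨V, hV, hTV⟩ := FiniteAffine.exists_affineOpen (X := C)
    NoetherianSpace.finite_irreducibleComponents hSf.toFinset fun y hy => by
      rw [DimFun.ringKrullDim_stalk hdC y, h1, hδC y (hSne y (hSf.mem_toFinset.1 hy))]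
      exact le_of_eq rfl
  have hVS : ∀ y ∈ S, y ∈ V := fun y hy => hTV y (hSf.mem_toFinset.2 hy)
  have hxV : x' ∈ V := hVS x' hx'
  have hmax : ∀ y (hy : y ∈ V), y ≠ genericPoint C → (hV.primeIdealOf ⟨y, hy⟩).asIdeal.IsMaximal := by
    intro y hy hne
    rw [← PrimeSpectrum.isClosed_singleton_iff_isMaximal]
    have heq : ({hV.primeIdealOf ⟨y, hy⟩} : Set (Spec Γ(C, V))) = ⇑hV.fromSpec ⁻¹' {y} :=
      Set.ext fun q => ⟨fun h => (congrArg hV.fromSpec h).trans (hV.fromSpec_primeIdealOf _),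
        fun h => hV.fromSpec.isEmbedding.injective
          ((show hV.fromSpec q = y from h).trans (hV.fromSpec_primeIdealOf ⟨y, hy⟩).symm)⟩
    have h := (hcl y hne).preimage hV.fromSpec.continuous
    rw [← heq] at h
    exact h
  let P := (hV.primeIdealOf ⟨x', hxV⟩).asIdeal
  haveI hP : P.IsMaximal := hmax x' hxV (hSne x' hx')
  let Q : {y // y ∈ hSf.toFinset.erase x'} → Ideal Γ(C, V) := fun y =>
    (hV.primeIdealOf ⟨y.1, hTV y.1 (Finset.mem_of_mem_erase y.2)⟩).asIdeal
  let J : Ideal Γ(C, V) := ∏ y, Q y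
  have hQP : ∀ y, Q y ⊔ P = ⊤ := fun y => by
    refine hP.out.2 _ (lt_of_le_of_ne le_sup_right fun e => ?_)
    have hle : Q y ≤ P := le_sup_left.trans e.ge
    have hyη := hSne y.1 (hSf.mem_toFinset.1 (Finset.mem_of_mem_erase y.2))
    have heq := (hmax y.1 (hTV y.1 (Finset.mem_of_mem_erase y.2)) hyη).eq_of_le hP.ne_top hle
    refine Finset.ne_of_mem_erase y.2 ?_
    have := congrArg hV.fromSpec (PrimeSpectrum.ext (x := hV.primeIdealOf ⟨y.1, _⟩)
      (y := hV.primeIdealOf ⟨x', hxV⟩) heq)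
    rwa [hV.fromSpec_primeIdealOf, hV.fromSpec_primeIdealOf] at this
  have hJP : J ⊔ P ^ 2 = ⊤ := Ideal.sup_pow_eq_top (Ideal.prod_sup_eq_top fun y _ => hQP y)
  obtain ⟨e, he, q, hq, heq⟩ := Submodule.mem_sup.1 (hJP ▸ Submodule.mem_top : (1 : Γ(C, V)) ∈ J ⊔ P ^ 2)
  let := C.presheaf.algebra_section_stalk (⟨x', hxV⟩ : V)
  haveI := hV.isLocalization_stalk ⟨x', hxV⟩
  obtain ⟨⟨a, s⟩, hab⟩ := IsLocalization.surj P.primeCompl π
  obtain ⟨t, w, hw, htw⟩ := Ideal.IsMaximal.exists_inv hP s.2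
  have hgP : ∀ r ∈ P, C.presheaf.germ V x' hxV r ∈ maximalIdeal (C.presheaf.stalk x') := fun r hr => by
    rw [← IsLocalization.AtPrime.map_eq_maximalIdeal P (C.presheaf.stalk x')]
    exact Ideal.mem_map_of_mem _ hr
  have hab' : π * C.presheaf.germ V x' hxV s.1 = C.presheaf.germ V x' hxV a := hab
  refine ⟨V, e * (a * t) + q, hxV, ?_, ?_, fun y hy hne => ⟨hVS y hy, ?_⟩⟩
  · rw [map_add, map_mul, map_mul, ← hab']
    exact add_mem (Ideal.mul_mem_left _ _ (Ideal.mul_mem_right _ _ (Ideal.mul_mem_right _ _ hπ)))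
      (hgP q (Ideal.pow_le_self two_ne_zero hq))
  · have hst : s.1 * t = 1 - w := by rw [← htw]; ring
    have he1 : e = 1 - q := by rw [← heq]; ring
    have hqm : C.presheaf.germ V x' hxV q ∈ maximalIdeal (C.presheaf.stalk x') ^ 2 := by
      rw [← IsLocalization.AtPrime.map_eq_maximalIdeal P (C.presheaf.stalk x'), ← Ideal.map_pow]
      exact Ideal.mem_map_of_mem _ hq
    have key : C.presheaf.germ V x' hxV (e * (a * t) + q) - π =
        -(π * C.presheaf.germ V x' hxV w) +
          C.presheaf.germ V x' hxV q * (1 - π * C.presheaf.germ V x' hxV (1 - w)) := by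
      rw [map_add, map_mul, map_mul, ← hab', mul_assoc π, ← map_mul, hst, he1]
      simp only [map_sub, map_one]
      ring
    rw [key, pow_two]
    exact add_mem (neg_mem (Ideal.mul_mem_mul hπ (hgP w hw)))
      (Ideal.mul_mem_right _ _ (pow_two (maximalIdeal (C.presheaf.stalk x')) ▸ hqm))
  · let := C.presheaf.algebra_section_stalk (⟨y, hVS y hy⟩ : V)
    haveI := hV.isLocalization_stalk ⟨y, hVS y hy⟩
    have hmem : y ∈ hSf.toFinset.erase x' := Finset.mem_erase.2 ⟨hne, hSf.mem_toFinset.2 hy⟩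
    have heQ : e ∈ Q ⟨y, hmem⟩ := (Ideal.prod_le_inf.trans (Finset.inf_le (Finset.mem_univ _))) he
    have hnot : e * (a * t) + q ∉ Q ⟨y, hmem⟩ := fun h => by
      have hq' : q ∈ Q ⟨y, hmem⟩ := (Ideal.add_mem_iff_right _ (Ideal.mul_mem_right _ _ heQ)).1 h
      exact (hV.primeIdealOf _).isPrime.ne_top ((Ideal.eq_top_iff_one _).2 (heq ▸ add_mem heQ hq'))
    exact IsLocalization.map_units (M := (Q ⟨y, hmem⟩).primeCompl) _ (⟨_, hnot⟩ : (Q ⟨y, hmem⟩).primeCompl)

/-- The same, through a closed immersion of an integral curve. -/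
theorem exists_move_aux [IsLocallyNoetherian W] (hd : Cyc.IsDimFun W δ) (h0 : ∀ y, 0 ≤ δ y) {U : W.Opens}
    {C : Scheme.{u}} [IsIntegral C] [IsNoetherian C] [C.IsSeparated] (i : C ⟶ W) [IsClosedImmersion i]
    (hξ : δ (i (genericPoint C)) = 1) (hξU : i (genericPoint C) ∈ U) {x' : C} (hx : δ (i x') = 0)
    (hxU : i x' ∉ U) {π : W.presheaf.stalk (i x')} (hπm : π ∈ maximalIdeal (W.presheaf.stalk (i x')))
    (hπ : maximalIdeal (W.presheaf.stalk (i x')) ≤
      RingHom.ker (Cyc.specMap (i x') _ ((genericPoint_specializes x').map i.continuous)) ⊔ Ideal.span {π}) :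
    ∃ β : AlgebraicCycle W ℤ, β ∈ Cyc.Zk W δ 0 ∧ Cyc.RatEquivZero δ 0 β ∧ β (i x') = 1 ∧
      ∀ y, y ∉ U → y ≠ i x' → β y = 0 := by
  classical
  let η := genericPoint C
  have hsur := i.stalkMap_surjective x'
  have hmap := map_maximalIdeal_of_surjective (i.stalkMap x').hom hsur
  obtain ⟨V, φ, hxV, hφm, hφπ, hunit⟩ := exists_function (C := C) (dC := fun d => δ (i d))
    (Gys.Closed.isDimFun i hd) (fun y => h0 _) hξ (U.2.isClosed_compl.preimage i.continuous)
    (fun h => h hξU) hxU (π := i.stalkMap x' π) (hmap ▸ Ideal.mem_map_of_mem _ hπm)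
  have hηV : η ∈ V := (genericPoint_specializes x').mem_open V.2 hxV
  obtain ⟨g, hg⟩ := (Gys.Closed.residue_bijective i η).2 (C.evaluation V η hηV φ)
  have lift : ∀ (y : C) (hy : y ∈ V) (c : W.presheaf.stalk (i y)),
      i.stalkMap y c = C.presheaf.germ V y hy φ →
      Cyc.specMap (i y) (i η) ((genericPoint_specializes y).map i.continuous) c = g := fun y hy c hc => by
    refine (Gys.Closed.residue_bijective i η).1 ?_
    refine (InducedDimFun.specMap_stalkMap i η y (genericPoint_specializes y) c).symm.trans ?_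
    rw [hc, Ord.specMap_germ V y η (genericPoint_specializes y) hy φ]
    exact hg.symm
  have hxη : i η ≠ i x' := fun e => by rw [← e, hξ] at hx; omega
  obtain ⟨c, hc⟩ := hsur (C.presheaf.germ V x' hxV φ)
  have hcm : c ∈ maximalIdeal (W.presheaf.stalk (i x')) := by
    rw [mem_maximalIdeal]
    exact fun hu => (mem_maximalIdeal _).1 hφm (hc ▸ hu.map _)
  have hcπ : c - π ∈ RingHom.ker (Cyc.specMap (i x') (i η) ((genericPoint_specializes x').map i.continuous)) ⊔
      maximalIdeal (W.presheaf.stalk (i x')) ^ 2 := by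
    have h2 : i.stalkMap x' (c - π) ∈ (maximalIdeal (W.presheaf.stalk (i x')) ^ 2).map (i.stalkMap x').hom := by
      rw [Ideal.map_pow, hmap, map_sub, hc]
      exact hφπ
    obtain ⟨m, hm, hme⟩ := (Ideal.mem_map_iff_of_surjective _ hsur).1 h2
    refine Submodule.mem_sup.2 ⟨c - π - m, ?_, m, hm, by ring⟩
    rw [RingHom.mem_ker]
    refine (Gys.Closed.residue_bijective i η).1 ?_
    refine (InducedDimFun.specMap_stalkMap i η x' (genericPoint_specializes x') _).symm.trans ?_
    rw [map_sub, show i.stalkMap x' m = i.stalkMap x' (c - π) from hme, sub_self, map_zero]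
    exact (map_zero _).symm
  obtain ⟨hne, hord⟩ := ordAt_eq_one hd ((genericPoint_specializes x').map i.continuous) (by omega) hxη hπ hcm hcπ
  rw [lift x' hxV c hc] at hne hord
  have hsupp : ∀ y, y ∉ U → y ≠ i x' → Cyc.divFun δ (i η) g y = 0 := fun y hy hne' => by
    by_cases hc' : i η ⤳ y ∧ δ y + 1 = δ (i η)
    · obtain ⟨z, rfl⟩ : y ∈ Set.range i :=
        hc'.1.mem_closed i.isClosedEmbedding.isClosed_range (Set.mem_range_self η)
      obtain ⟨hzV, hu⟩ := hunit z hy fun e => hne' (e ▸ rfl)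
      obtain ⟨cz, hcz⟩ := i.stalkMap_surjective z (C.presheaf.germ V z hzV φ)
      rw [Cyc.divFun, dif_pos hc', ← lift z hzV cz hcz]
      refine Ord.ordAt_specMap_of_isUnit hd _ _ _ hc'.2.ge cz ?_
      exact (isUnit_map_iff (i.stalkMap z).hom cz).1 (hcz ▸ hu)
    · rw [Cyc.divFun, dif_neg hc']
  let β : AlgebraicCycle W ℤ :=
    { toFun := Cyc.divFun δ (i η) g
      supportWithinDomain' := Set.subset_univ _
      supportLocallyFiniteWithinDomain' := fun z _ => by
        obtain ⟨O, hO, hzO, hfin⟩ := Ord.exists_open_finite_divFun hd (i η) g z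
        exact ⟨O, hO.mem_nhds hzO, hfin⟩ }
  refine ⟨β, fun y hy => ?_, ⟨PUnit.{u + 1}, fun _ => i η, fun _ => g, fun _ => by simpa using hξ,
    fun _ => hne, fun _ => ⟨Set.univ, isOpen_univ, trivial, Set.toFinite _⟩, fun y => by rw [finsum_unique]; rfl⟩,
    ?_, hsupp⟩
  · show Cyc.divFun δ (i η) g y = 0
    exact dif_neg fun h => hy (by have := h.2; rw [hξ] at this; omega)
  · show Cyc.divFun δ (i η) g (i x') = 1
    rw [Cyc.divFun, dif_pos ⟨(genericPoint_specializes x').map i.continuous, (by omega : δ (i x') + 1 = δ (i (genericPoint C)))⟩]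
    exact hord

/-- Some `β ∼ 0` agrees with `[x]` outside `U`. -/
theorem exists_move [IsIntegral W] [Smooth f] [CompactSpace W] [IsSeparated f]
    (hδ : Cyc.DeltaCompat f δ fun _ => 0) {U : W.Opens} (hU : (U : Set W).Nonempty) {x : W} (hx : δ x = 0)
    (hxU : x ∉ U) :
    ∃ β : AlgebraicCycle W ℤ, β ∈ Cyc.Zk W δ 0 ∧ Cyc.RatEquivZero δ 0 β ∧ β x = 1 ∧
      ∀ y, y ∉ U → y ≠ x → β y = 0 := by
  haveI : IsLocallyNoetherian W := LocallyOfFiniteType.isLocallyNoetherian f
  haveI : W.IsSeparated := ⟨by rw [Subsingleton.elim (terminal.from W) (f ≫ terminal.from _)]; infer_instance⟩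
  have hd : Cyc.IsDimFun W δ := by
    rw [funext (delta_eq f hδ)]
    exact FieldDim.isDimFun_fdelta f
  obtain ⟨ξ, hξx, π, hξ, hξU, hπm, hπ⟩ := exists_curve f hd hU hx hxU
  let Z : Closeds W := ⟨closure {ξ}, isClosed_closure⟩
  haveI : IrreducibleSpace (AffineMerge.red Z) :=
    FiniteAffine.irreducibleSpace_red Z isIrreducible_singleton.closure
  haveI := FiniteAffine.isReduced_red Z
  haveI : IsIntegral (AffineMerge.red Z) := isIntegral_of_irreducibleSpace_of_isReduced _
  haveI : IsLocallyNoetherian (AffineMerge.red Z) := LocallyOfFiniteType.isLocallyNoetherian (AffineMerge.redι Z)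
  haveI : (AffineMerge.red Z).IsSeparated := ⟨by rw [← terminal.comp_from (AffineMerge.redι Z)]; infer_instance⟩
  haveI : CompactSpace (AffineMerge.red Z) := (AffineMerge.redι Z).isClosedEmbedding.compactSpace
  haveI : IsNoetherian (AffineMerge.red Z) := {}
  obtain ⟨x', rfl⟩ := AffineMerge.exists_redι_eq (Z := Z) (x := x) (specializes_iff_mem_closure.1 hξx)
  have hη : AffineMerge.redι Z (genericPoint (AffineMerge.red Z)) = ξ := by
    obtain ⟨z, hz⟩ := AffineMerge.exists_redι_eq (Z := Z) (x := ξ) (subset_closure rfl)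
    refine (Specializes.antisymm ?_ (specializes_iff_mem_closure.2
      (AffineMerge.redι_mem Z (genericPoint (AffineMerge.red Z))))).eq
    exact hz ▸ (genericPoint_specializes z).map (AffineMerge.redι Z).continuous
  have hπ' : ∀ (ξ' : W) (e : ξ' = ξ) (h' : ξ' ⤳ AffineMerge.redι Z x'),
      maximalIdeal (W.presheaf.stalk (AffineMerge.redι Z x')) ≤
        RingHom.ker (Cyc.specMap (AffineMerge.redι Z x') ξ' h') ⊔ Ideal.span {π} := by
    rintro _ rfl h'
    exact hπ
  exact exists_move_aux hd (delta_nonneg f hδ) (AffineMerge.redι Z) (hη.symm ▸ hξ) (hη.symm ▸ hξU) hx hxU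
    hπm (hπ' _ hη _)

/-- A zero-cycle moves into any nonempty open. -/
theorem exists_moved [IsIntegral W] [Smooth f] [CompactSpace W] [IsSeparated f]
    (hδ : Cyc.DeltaCompat f δ fun _ => 0) {U : W.Opens} (hU : (U : Set W).Nonempty) (z : AlgebraicCycle W ℤ)
    (hz : z ∈ Cyc.Zk W δ 0) :
    ∃ z' : AlgebraicCycle W ℤ, z' ∈ Cyc.Zk W δ 0 ∧ (∀ w, z' w ≠ 0 → w ∈ U) ∧ Cyc.RatEquiv δ 0 z z' := by
  classical
  haveI : IsLocallyNoetherian W := LocallyOfFiniteType.isLocallyNoetherian f
  have hd : Cyc.IsDimFun W δ := by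
    rw [funext (delta_eq f hδ)]
    exact FieldDim.isDimFun_fdelta f
  have hfin : {w | z w ≠ 0 ∧ w ∉ U}.Finite :=
    ((z.locallyFiniteSupport.finite_inter_support_of_isCompact isCompact_univ).subset
      fun w (hw : w ∈ Function.support z) => ⟨trivial, hw⟩).subset fun w hw => hw.1
  suffices H : ∀ (T : Finset W) (z : AlgebraicCycle W ℤ), z ∈ Cyc.Zk W δ 0 → (∀ w, z w ≠ 0 → w ∉ U → w ∈ T) →
      ∃ z' : AlgebraicCycle W ℤ, z' ∈ Cyc.Zk W δ 0 ∧ (∀ w, z' w ≠ 0 → w ∈ U) ∧ Cyc.RatEquiv δ 0 z z' from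
    H hfin.toFinset z hz fun w h1 h2 => hfin.mem_toFinset.2 ⟨h1, h2⟩
  intro T
  induction T using Finset.induction_on with
  | empty =>
    intro z hz h
    exact ⟨z, hz, fun w hw => by_contra fun hwU => absurd (h w hw hwU) (Finset.notMem_empty w),
      Ord.ratEquiv_refl δ 0 z⟩
  | @insert x T hxT ih =>
    intro z hz h
    by_cases hx : z x = 0 ∨ x ∈ U
    · refine ih z hz fun w h1 h2 => ?_
      rcases Finset.mem_insert.1 (h w h1 h2) with rfl | hw
      · exact absurd hx (by simp [h1, h2])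
      · exact hw
    rw [not_or] at hx
    obtain ⟨β, hβm, hβ0, hβx, hβ⟩ := exists_move f hδ hU (not_not.1 fun hc => hx.1 (hz x hc)) hx.2
    have hsmul : ∀ n : ℤ, Cyc.RatEquivZero δ 0 (n • β) := fun n => by
      induction n using Int.induction_on with
      | zero => rw [zero_smul]; exact Ord.ratEquivZero_zero δ 0
      | succ m hm => rw [add_smul, one_smul]; exact Ord.ratEquivZero_add hm hβ0
      | pred m hm =>
        rw [sub_smul, one_smul, sub_eq_add_neg]
        exact Ord.ratEquivZero_add hm (Ord.ratEquivZero_neg hd hβ0)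
    let z₁ := z - z x • β
    have e : ∀ w, z₁ w = z w - z x * β w := fun w => by simp [z₁]
    have hz₁ : z₁ ∈ Cyc.Zk W δ 0 := fun w hw => by rw [e, hz w hw, hβm w hw, mul_zero, sub_zero]
    obtain ⟨z', h1, h2, h3⟩ := ih z₁ hz₁ fun w h1 h2 => by
      by_cases hwx : w = x
      · subst hwx; rw [e, hβx, mul_one, sub_self] at h1; exact absurd rfl h1
      · rw [e, hβ w h2 hwx, mul_zero, sub_zero] at h1
        exact (Finset.mem_insert.1 (h w h1 h2)).resolve_left hwx
    refine ⟨z', h1, h2, Ord.ratEquiv_trans ?_ h3⟩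
    rw [Cyc.RatEquiv, sub_sub_cancel]
    exact hsmul _

end Groth.Agent.Lib.Cyc.CH.MovePt
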