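import Groth.Agent.Lib.Regular.DirectLimit
import Mathlib.RingTheory.Ideal.MinimalPrime.Noetherian
import Mathlib.RingTheory.KrullDimension.Regular
import Mathlib.RingTheory.Nakayama

/-!
# Regular curves in a regular local ring
-/

set_option autoImplicit false
set_option linter.style.haveILetI false
universe u

namespace Groth.Agent.Lib.Cyc.CH.MovePtAlg

open IsLocalRing Groth.Agent.Lib.Regular

variable {R : Type u} [CommRing R] [IsRegularLocalRing R]

theorem bot_of_lt_span {g : R} [IsDomain R] (hg : g ∈ maximalIdeal R) {q : Ideal R} [q.IsPrime]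
    (hle : q ≤ Ideal.span {g}) (hgq : g ∉ q) : q = ⊥ := by
  refine Submodule.eq_bot_of_le_smul_of_le_jacobson_bot (maximalIdeal R) q (IsNoetherian.noetherian q) ?_
    (by rw [jacobson_eq_maximalIdeal _ bot_ne_top])
  intro x hx
  obtain ⟨y, rfl⟩ := Ideal.mem_span_singleton'.1 (hle hx)
  rw [mul_comm]
  exact Submodule.smul_mem_smul hg ((Ideal.IsPrime.mem_or_mem ‹_› hx).resolve_right hgq)

/-- A regular quotient of dimension one at whose generic point `h` is invertible. -/
theorem exists_prime : ∀ (d : ℕ) (R : Type u) [CommRing R] [IsRegularLocalRing R],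
    ringKrullDim R = d → 1 ≤ d → ∀ {h : R}, h ≠ 0 →
      ∃ p : Ideal R, p.IsPrime ∧ h ∉ p ∧ ringKrullDim (R ⧸ p) = 1 ∧
        ∃ π ∈ maximalIdeal R, maximalIdeal R ≤ p ⊔ Ideal.span {π} := by
  intro d
  induction d with
  | zero => intro R _ _ _ h1; omega
  | succ n ih =>
    intro R _ _ hd h1 h hh
    haveI := Quotient.isDomain R
    classical
    have hfr : (maximalIdeal R).spanFinrank = n + 1 := by
      have := IsRegularLocalRing.spanFinrank_maximalIdeal (R := R)
      rw [hd] at this
      exact_mod_cast this
    rcases Nat.eq_zero_or_pos n with rfl | hn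
    · refine ⟨⊥, Ideal.isPrime_bot, by simpa using hh, ?_, ?_⟩
      · rw [ringKrullDim_eq_of_ringEquiv (RingEquiv.quotientBot R), hd]
        rfl
      · have hfg : (maximalIdeal R).FG := IsNoetherian.noetherian _
        have hc := Submodule.FG.generators_ncard hfg
        rw [hfr] at hc
        obtain ⟨π, hπ⟩ := Set.ncard_eq_one.1 hc
        refine ⟨π, ?_, ?_⟩
        · rw [← Submodule.span_generators (maximalIdeal R), hπ]
          exact Submodule.mem_span_singleton_self π
        rw [bot_sup_eq]
        conv_lhs => rw [← Submodule.span_generators (maximalIdeal R), hπ]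

    obtain ⟨a, ha, ha2⟩ : ∃ a ∈ maximalIdeal R, a ∉ maximalIdeal R ^ 2 := by
      by_contra hc
      simp only [not_exists, not_and, not_not] at hc
      have h0 := Submodule.eq_bot_of_le_smul_of_le_jacobson_bot (maximalIdeal R) (maximalIdeal R)
        (IsNoetherian.noetherian _) (fun x hx => by rw [Ideal.smul_eq_mul, ← pow_two]; exact hc x hx)
        (by rw [jacobson_eq_maximalIdeal _ bot_ne_top])
      rw [h0, Submodule.spanFinrank_bot] at hfr
      omega
    obtain ⟨b, hb, hb2⟩ : ∃ b ∈ maximalIdeal R, b ∉ Ideal.span {a} ⊔ maximalIdeal R ^ 2 := by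
      by_contra hc
      simp only [not_exists, not_and, not_not] at hc
      have hle : maximalIdeal R ≤ Ideal.span {a} := by
        refine Submodule.le_of_le_smul_of_le_jacobson_bot (I := maximalIdeal R) (IsNoetherian.noetherian _)
          (by rw [jacobson_eq_maximalIdeal _ bot_ne_top]) ?_
        intro x hx
        rw [Ideal.smul_eq_mul, ← pow_two]
        exact hc x hx
      have heq : maximalIdeal R = Ideal.span {a} :=
        le_antisymm hle ((Ideal.span_singleton_le_iff_mem _).2 ha)
      have := Submodule.spanFinrank_span_le_ncard_of_finite (R := R) (Set.finite_singleton a)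
      change (Ideal.span {a}).spanFinrank ≤ _ at this
      rw [← heq, hfr, Set.ncard_singleton] at this
      omega
    let g : ℕ → R := fun N => a + b ^ (N + 2)
    have hg : ∀ N, g N ∈ maximalIdeal R := fun N =>
      add_mem ha (Ideal.pow_mem_of_mem _ hb _ (by omega))
    have hg2 : ∀ N, g N ∉ maximalIdeal R ^ 2 := fun N hc => ha2 (by
      have hb' : b ^ (N + 2) ∈ maximalIdeal R ^ 2 :=
        Ideal.pow_le_pow_right (by omega) (Ideal.pow_mem_pow hb (N + 2))
      simpa [g] using Ideal.sub_mem _ hc hb')
    haveI : ∀ N, IsRegularLocalRing (R ⧸ Ideal.span {g N}) := fun N =>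
      DirectLimit.quotient_regular (hg N) (hg2 N)
    have hprime : ∀ N, (Ideal.span {g N}).IsPrime := fun N =>
      (Ideal.Quotient.isDomain_iff_prime _).1 (Quotient.isDomain _)
    obtain ⟨N, hN⟩ : ∃ N, h ∉ Ideal.span {g N} := by
      by_contra hc
      simp only [not_exists, not_not] at hc
      have hmin : ∀ N, Ideal.span {g N} ∈ (Ideal.span {h}).minimalPrimes := fun N => by
        refine ⟨⟨hprime N, (Ideal.span_singleton_le_iff_mem _).2 (hc N)⟩, fun q hq hle => ?_⟩
        haveI := hq.1
        by_cases hgq : g N ∈ q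
        · exact (Ideal.span_singleton_le_iff_mem _).2 hgq
        · exact absurd ((Ideal.span_singleton_le_iff_mem _).1
            (hq.2.trans (bot_of_lt_span (hg N) hle hgq).le)) hh
      have hinj : Function.Injective fun N => Ideal.span {g N} := by
        intro N M hNM
        by_contra hne
        wlog hlt : N < M generalizing N M
        · exact this hNM.symm (Ne.symm hne) (by omega)
        haveI := hprime N
        have h2 : g M ∈ Ideal.span {g N} := by
          rw [show Ideal.span {g N} = Ideal.span {g M} from hNM]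
          exact Ideal.mem_span_singleton_self _
        have h3 : b ^ (N + 2) * (1 - b ^ (M - N)) ∈ Ideal.span {g N} := by
          have := Ideal.sub_mem _ (Ideal.mem_span_singleton_self (g N)) h2
          rwa [mul_sub, mul_one, ← pow_add, show N + 2 + (M - N) = M + 2 by omega,
            show b ^ (N + 2) - b ^ (M + 2) = g N - g M by simp [g]]
        have hu : IsUnit (1 - b ^ (M - N)) := isUnit_one_sub_self_of_mem_nonunits _
          (mem_maximalIdeal _ |>.1 (Ideal.pow_mem_of_mem _ hb _ (by omega)))
        have h4 : b ∈ Ideal.span {g N} := by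
          refine Ideal.IsPrime.mem_of_pow_mem ‹_› (N + 2) ?_
          rwa [Ideal.mul_unit_mem_iff_mem _ hu] at h3
        obtain ⟨c, hc'⟩ := Ideal.mem_span_singleton'.1 h4
        refine hb2 (hc' ▸ ?_)
        rw [show c * g N = c * a + c * b ^ (N + 2) by simp [g, mul_add]]
        exact add_mem (Ideal.mem_sup_left (Ideal.mul_mem_left _ _ (Ideal.mem_span_singleton_self a)))
          (Ideal.mem_sup_right (Ideal.mul_mem_left _ _
            (Ideal.pow_le_pow_right (by omega) (Ideal.pow_mem_pow hb (N + 2)))))
      exact (Set.infinite_range_of_injective hinj).mono (Set.range_subset_iff.2 hmin)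
        (Ideal.finite_minimalPrimes_of_isNoetherianRing R _)
    have hg0 : g N ≠ 0 := fun e => hg2 N (e ▸ zero_mem _)
    have hdim : ringKrullDim (R ⧸ Ideal.span {g N}) = n := by
      have := ringKrullDim_quotient_span_singleton_succ_eq_ringKrullDim
        (IsSMulRegular.of_ne_zero hg0) (hg N)
      rw [hd, Nat.cast_add, Nat.cast_one] at this
      exact ENat.WithBot.add_one_cancel.1 this
    obtain ⟨p, hp, hhp, hpd, π, hπm, hπ⟩ := ih (R ⧸ Ideal.span {g N}) hdim hn
      (h := Ideal.Quotient.mk _ h) (fun e => hN (Ideal.Quotient.eq_zero_iff_mem.1 e))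
    haveI := hp
    let φ : R →+* (R ⧸ Ideal.span {g N}) ⧸ p := (Ideal.Quotient.mk p).comp (Ideal.Quotient.mk _)
    have hker : RingHom.ker φ = p.comap (Ideal.Quotient.mk _) := by
      ext x
      simp [φ, RingHom.mem_ker, Ideal.Quotient.eq_zero_iff_mem]
    obtain ⟨π', rfl⟩ := Ideal.Quotient.mk_surjective π
    refine ⟨p.comap (Ideal.Quotient.mk _), inferInstance, hhp, ?_, π', ?_, ?_⟩
    · rw [← hpd, ← hker]
      exact ringKrullDim_eq_of_ringEquiv (RingHom.quotientKerEquivOfSurjective
        (f := φ) (Ideal.Quotient.mk_surjective.comp Ideal.Quotient.mk_surjective))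
    · by_contra hu
      rw [mem_maximalIdeal, mem_nonunits_iff, not_not] at hu
      exact (mem_maximalIdeal _).1 hπm (hu.map _)
    · intro x hx
      have hx' : Ideal.Quotient.mk _ x ∈ maximalIdeal (R ⧸ Ideal.span {g N}) := by
        rw [Quotient.maximalIdeal_quotient]
        exact Ideal.mem_map_of_mem _ hx
      obtain ⟨u, hu, v, hv, huv⟩ := Submodule.mem_sup.1 (hπ hx')
      obtain ⟨c, rfl⟩ := Ideal.mem_span_singleton'.1 hv
      obtain ⟨c, rfl⟩ := Ideal.Quotient.mk_surjective c
      rw [← map_mul] at huv
      refine Submodule.mem_sup.2 ⟨x - c * π', ?_, c * π', Ideal.mem_span_singleton'.2 ⟨c, rfl⟩, by ring⟩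
      rw [Ideal.mem_comap, map_sub, ← huv, add_sub_cancel_right]
      exact hu

end Groth.Agent.Lib.Cyc.CH.MovePtAlg
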