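import Groth.Agent.Lib.Cyc.CH.RatConn
import Groth.Agent.H4.RegExt.ProjNoRat

/-!
# Affine spaces in proper schemes: two closed points are rationally equivalent
-/

set_option autoImplicit false
set_option linter.style.haveILetI false
universe u

open CategoryTheory CategoryTheory.Limits AlgebraicGeometry TopologicalSpace
open Groth.Agent.H4

noncomputable section

namespace Groth.Agent.Lib.Cyc.CH.RatConn

open Groth.Agent.Lib Groth.Agent.Lib.Cyc Groth.Agent.H34.SplitP1

variable {k : Type u} [Field k] {Y : Scheme.{u}}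

/-- A morphism on an open of the projective line to a proper scheme extends. -/
theorem exists_P1 (p : Y ⟶ Spec (CommRingCat.of k)) [IsProper p] {W : Scheme.{u}}
    (j : W ⟶ CohB1.ProjSpace 1 k) [IsOpenImmersion j] [Nonempty W] (f : W ⟶ Y)
    (hf : f ≫ p = j ≫ CohB1.ProjSpace.toSpec 1 k) :
    ∃ g : P1 k ⟶ Y, g ≫ p = CohB1.ProjSpace.toSpec 1 k ∧ j ≫ g = f := by
  let P := CohB1.ProjSpace 1 k
  let s := CohB1.ProjSpace.toSpec 1 k
  haveI : IsProper s := Groth.Agent.Lib.ProjSpace.Basic.isProper_toSpec 1 k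
  haveI : IsLocallyNoetherian P := LocallyOfFiniteType.isLocallyNoetherian s
  let V : P.Opens := j.opensRange
  have hV : Dense (V : Set P) := V.2.dense ⟨j (Classical.arbitrary W), _, rfl⟩
  let σ : (V : Scheme.{u}) ⟶ pullback p s := pullback.lift (j.isoOpensRange.inv ≫ f) V.ι (by
    rw [Category.assoc, hf, ← Category.assoc, Iso.inv_comp_eq j.isoOpensRange |>.2
      j.isoOpensRange_hom_ι.symm])
  haveI : UniversallyClosed (pullback.snd p s) := inferInstance
  obtain ⟨U, hVU, σ', hσ', hσV, hU⟩ := RatExt.exists_ext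
    (fun y _ => Groth.Agent.Lib.Cyc.SmoothReg.isRegularLocalRing_stalk s y) (pullback.snd p s)
    (pullback.snd p s).isClosedMap V hV σ (pullback.lift_snd _ _ _)
  have hUtop : U = ⊤ := eq_top_iff.2 fun y _ => hU y <| by
    refine (Groth.Agent.Lib.Cyc.TorPD.ringKrullDim_stalk_le y).trans ?_
    rw [Groth.Agent.Lib.ProjSpace.Dim.topologicalKrullDim_projSpace_of_field]
    norm_num
  haveI : IsIso U.ι := by
    haveI : Surjective U.ι := ⟨fun y => by
      obtain ⟨z, hz⟩ : y ∈ Set.range U.ι := by rw [Scheme.Opens.range_ι, hUtop]; trivial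
      exact ⟨z, hz⟩⟩
    exact (isIso_iff_isOpenImmersion_and_surjective _).mpr ⟨inferInstance, inferInstance⟩
  refine ⟨inv U.ι ≫ σ' ≫ pullback.fst p s, by
    simp only [Category.assoc, pullback.condition]
    rw [reassoc_of% hσ', IsIso.inv_hom_id_assoc], ?_⟩
  rw [← j.isoOpensRange_hom_ι, ← Scheme.homOfLE_ι P hVU, Category.assoc, Category.assoc,
    IsIso.hom_inv_id_assoc, reassoc_of% hσV, pullback.lift_fst, Iso.hom_inv_id_assoc]

variable [IsAlgClosed k]

/-- The images of two `k`-points of an affine space in a proper scheme are equivalent. -/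
theorem affine_ratEquiv (p : Y ⟶ Spec (CommRingCat.of k)) [IsProper p] {σ : Type}
    (h : Spec (CommRingCat.of (MvPolynomial σ k)) ⟶ Y)
    (hh : h ≫ p = Spec.map (CommRingCat.ofHom (MvPolynomial.C : k →+* MvPolynomial σ k)))
    (v w : σ → k) {a b : Y} (ha : IsClosed ({a} : Set Y)) (hb : IsClosed ({b} : Set Y))
    (hva : h (Spec.map (CommRingCat.ofHom (MvPolynomial.eval v)) (IsLocalRing.closedPoint k)) = a)
    (hwb : h (Spec.map (CommRingCat.ofHom (MvPolynomial.eval w)) (IsLocalRing.closedPoint k)) = b) :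
    Cyc.RatEquiv (FieldDim.fdelta p) 0 (pc a) (pc b) := by
  let line : MvPolynomial σ k →+* MvPolynomial (Fin 1) k :=
    MvPolynomial.eval₂Hom MvPolynomial.C fun i =>
      MvPolynomial.C (v i) + MvPolynomial.X 0 * MvPolynomial.C (w i - v i)
  let j := Groth.Agent.Lib.ProjSpace.Basic.chartι k (0 : Fin (1 + 1))
  let f : Spec (CommRingCat.of (MvPolynomial (Fin 1) k)) ⟶ Y := Spec.map (CommRingCat.ofHom line) ≫ h
  haveI : Nonempty (Spec (CommRingCat.of (MvPolynomial (Fin 1) k))) :=
    inferInstanceAs (Nonempty (PrimeSpectrum _))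
  have hf : f ≫ p = j ≫ CohB1.ProjSpace.toSpec 1 k := by
    rw [Category.assoc, hh, Groth.Agent.Lib.ProjSpace.Basic.chartι_toSpec, ← Spec.map_comp]
    refine congrArg Spec.map (CommRingCat.hom_ext (RingHom.ext fun c => ?_))
    simp [line, MvPolynomial.algebraMap_eq]
  obtain ⟨g, hg, hjg⟩ := exists_P1 p j f hf
  have key : ∀ (t : k) (u : σ → k), (∀ i, v i + t * (w i - v i) = u i) →
      h (Spec.map (CommRingCat.ofHom (MvPolynomial.eval u)) (IsLocalRing.closedPoint k)) ∈ Set.range g := by
    intro t u hu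
    refine ⟨j (Spec.map (CommRingCat.ofHom (MvPolynomial.eval fun _ => t)) (IsLocalRing.closedPoint k)), ?_⟩
    rw [← Scheme.Hom.comp_apply, hjg, Scheme.Hom.comp_apply]
    refine congrArg h ?_
    have e : (MvPolynomial.eval fun _ => t).comp line = MvPolynomial.eval u :=
      MvPolynomial.ringHom_ext (fun c => by simp [line]) fun i => by simp [line, hu i]
    rw [← Scheme.Hom.comp_apply, ← Spec.map_comp, ← CommRingCat.ofHom_comp, e]
  exact curve_ratEquiv p g hg ha hb (hva ▸ key 0 v fun i => by ring) (hwb ▸ key 1 w fun i => by ring)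

end Groth.Agent.Lib.Cyc.CH.RatConn
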