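import Groth.Agent.Lib.Cyc.CH.Vanish
import Groth.Agent.Lib.Cyc.CH.Bdl
import Mathlib.Data.Finset.Max

/-!
# The Chern classes of a filtered module with invertible quotients
-/

set_option autoImplicit false
set_option linter.style.haveILetI false
universe u

open CategoryTheory AlgebraicGeometry

noncomputable section

namespace Groth.Agent.Lib.Cyc.CH

open Groth.Agent.Lib Groth.Agent.Lib.Cyc

variable {X : Scheme.{u}} [IsLocallyNoetherian X] {δ : X → ℤ} (hδ : Cyc.IsDimFun X δ) {r : ℕ}
  {L : Fin r → X.Modules} (hL : ∀ i, PicF.IsInvertible (L i))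

/-- Elementary symmetric operators of the `c₁(Lᵢ)`, `i ≥ j`. -/
def esym : Fin (r + 1) → ℕ → AddMonoid.End (Tot X δ) :=
  Fin.reverseInduction (fun q => if q = 0 then 1 else 0) fun i E q =>
    match q with
    | 0 => 1
    | q + 1 => E (q + 1) + E q * c1 δ hδ (hL i)

theorem esym_zero (j : Fin (r + 1)) : esym hδ hL j 0 = 1 := by
  induction j using Fin.reverseInduction with
  | last => simp [esym, Fin.reverseInduction_last]
  | cast i _ => simp [esym, Fin.reverseInduction_castSucc]

theorem esym_castSucc (i : Fin r) (q : ℕ) (x : Tot X δ) :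
    esym hδ hL (Fin.castSucc i) (q + 1) x =
      esym hδ hL (Fin.succ i) (q + 1) x + esym hδ hL (Fin.succ i) q (c1 δ hδ (hL i) x) := by
  simp only [esym, Fin.reverseInduction_castSucc]
  rfl

theorem esym_last (q : ℕ) (x : Tot X δ) : esym hδ hL (Fin.last r) (q + 1) x = 0 := by
  simp only [esym, Fin.reverseInduction_last]
  rfl

theorem esym_eq_zero (j : Fin (r + 1)) : ∀ q, r - (j : ℕ) < q → ∀ x, esym hδ hL j q x = 0 := by
  induction j using Fin.reverseInduction with
  | last =>
    intro q hq x
    obtain ⟨q, rfl⟩ := Nat.exists_eq_succ_of_ne_zero (show q ≠ 0 by omega)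
    exact esym_last hδ hL q x
  | cast i ih =>
    intro q hq x
    have := i.2
    simp only [Fin.val_castSucc] at hq
    obtain ⟨q, rfl⟩ := Nat.exists_eq_succ_of_ne_zero (show q ≠ 0 by omega)
    rw [esym_castSucc, ih (q + 1) (by simp only [Fin.val_succ]; omega),
      ih q (by simp only [Fin.val_succ]; omega), add_zero]

section Bundle

variable {P : Scheme.{u}} [IsLocallyNoetherian P] {π : P ⟶ X} [IsProper π] {O1 : P.Modules} {n : ℕ}
  {δP : P → ℤ} (B : Bdl π O1 n δP δ)

theorem tail_h (j : Fin (r + 1)) (z : Tot P δP) :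
    tail hL δP B.dimP π B.inv j (B.h z) = B.h (tail hL δP B.dimP π B.inv j z) := by
  induction j using Fin.reverseInduction generalizing z with
  | last => simp only [tail, Fin.reverseInduction_last]; rfl
  | cast i ih =>
    rw [tail_castSucc, tail_castSucc, ← ih]
    congr 1
    show c1 δP B.dimP B.inv (B.h z) - c1 δP B.dimP _ (B.h z) =
      B.h (c1 δP B.dimP B.inv z - c1 δP B.dimP _ z)
    rw [map_sub]
    exact congrArg₂ (· - ·) rfl (c1_comm B.dimP _ _ z)

/-- Expansion of the product. -/
theorem tail_pb (j : Fin (r + 1)) : ∀ x,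
    tail hL δP B.dimP π B.inv j (B.pb x) =
      ∑ q ∈ Finset.range (r - (j : ℕ) + 1),
        ((-1 : ℤ) ^ q) • B.term (r - (j : ℕ) - q) (esym hδ hL j q x) := by
  haveI := B.flat
  induction j using Fin.reverseInduction with
  | last =>
    intro x
    simp [tail, esym_zero, Bdl.term_apply]
  | cast i ih =>
    intro x
    have hi := i.2
    rw [tail_castSucc]
    have hf : factor hL δP B.dimP π B.inv i (B.pb x) = B.h (B.pb x) - B.pb (c1 δ hδ (hL i) x) :=
      congrArg₂ (· - ·) rfl (pull_c1 B.dimP B.dimX π B.shift (hL i) x).symm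
    rw [hf, map_sub, tail_h, ih, ih, map_sum, Fin.val_castSucc, Fin.val_succ,
      show r - (i : ℕ) = r - ((i : ℕ) + 1) + 1 by omega]
    generalize hN : r - ((i : ℕ) + 1) = N at *
    rw [Finset.sum_range_succ' _ (N + 1)]
    have hterm : ∀ q, q ≤ N → B.h (((-1 : ℤ) ^ q) • B.term (N - q) (esym hδ hL (Fin.succ i) q x)) =
        ((-1 : ℤ) ^ q) • B.term (N + 1 - q) (esym hδ hL (Fin.succ i) q x) := fun q hq => by
      rw [map_zsmul]
      congr 1
      rw [show N + 1 - q = N - q + 1 by omega, Bdl.term_apply, Bdl.term_apply, pow_succ']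
      rfl
    rw [Finset.sum_congr rfl fun q hq => hterm q (Nat.le_of_lt_succ (Finset.mem_range.1 hq))]
    simp only [esym_castSucc, map_add, smul_add, Finset.sum_add_distrib, esym_zero, Nat.sub_zero,
      pow_zero, one_smul, Nat.add_sub_add_right]
    rw [Finset.sum_range_succ' _ N]
    rw [Finset.sum_range_succ
      (fun q => ((-1 : ℤ) ^ (q + 1)) • B.term (N - q) (esym hδ hL (Fin.succ i) (q + 1) x)) N]
    simp only [Nat.add_sub_add_right, esym_zero, Nat.sub_zero, pow_zero, one_smul]
    have htop : esym hδ hL (Fin.succ i) (N + 1) x = 0 := esym_eq_zero hδ hL _ _ (by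
      simp only [Fin.val_succ]; omega) x
    rw [htop, map_zero, smul_zero, add_zero]
    have hneg : ∀ q, ((-1 : ℤ) ^ (q + 1)) • B.term (N - q) (esym hδ hL (Fin.succ i) q (c1 δ hδ (hL i) x)) =
        -(((-1 : ℤ) ^ q) • B.term (N - q) (esym hδ hL (Fin.succ i) q (c1 δ hδ (hL i) x))) := fun q => by
      rw [pow_succ, mul_neg_one, neg_smul]
    simp only [hneg, Finset.sum_neg_distrib]
    abel

end Bundle

section Kappa

variable {k : ℤ} {α : AlgebraicCycle X ℤ} (hα : α ∈ Cyc.Zk X δ k) {t : (i : Fin r) → (ξ : X) → Cyc.secFibre (L i) ξ}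
  {κ : Finset (Fin r) → AlgebraicCycle X ℤ} (hκ0 : κ ∅ = α)
  (hκ : ∀ (I : Finset (Fin r)) (i : Fin r), (∀ i' ∈ I, i' < i) →
    ⇑(κ (insert i I)) = Cyc.c1CapFun δ (L i) ⇑(κ I) (t i))

include hδ hα hκ0 hκ in
theorem kappa_mem (I : Finset (Fin r)) : κ I ∈ Cyc.Zk X δ (k - (I.card : ℤ)) := by
  induction I using Finset.induction_on_max with
  | empty => simpa [hκ0] using hα
  | insert i I hI ih =>
    have hi : i ∉ I := fun h => lt_irrefl _ (hI i h)
    have := c1_mem δ ih (t i) (hκ I i hI) hδ
    rwa [Finset.card_insert_of_notMem hi, show k - ((I.card + 1 : ℕ) : ℤ) = k - (I.card : ℤ) - 1 by push_cast; ring]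

include hδ hα hκ0 hκ in
theorem esym_kappa (ht : ∀ i ξ, t i ξ ≠ 0) (j : Fin (r + 1)) :
    ∀ (q : ℕ) (I : Finset (Fin r)), (∀ i' ∈ I, (i' : ℕ) < j) →
      esym hδ hL j q (cls δ (k - (I.card : ℤ)) (κ I) (kappa_mem hδ hα hκ0 hκ I)) =
        ∑ J ∈ Finset.powersetCard q (Finset.univ.filter fun i : Fin r => (j : ℕ) ≤ i),
          cls δ (k - ((I ∪ J).card : ℤ)) (κ (I ∪ J)) (kappa_mem hδ hα hκ0 hκ _) := by
  classical
  induction j using Fin.reverseInduction with
  | last =>
    intro q I _
    have he : (Finset.univ.filter fun i : Fin r => ((Fin.last r : Fin (r + 1)) : ℕ) ≤ i) = ∅ :=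
      Finset.filter_eq_empty_iff.2 fun i _ => by simp
    rw [he]
    rcases q with _ | q
    · rw [esym_zero, Finset.powersetCard_zero, Finset.sum_singleton]
      exact cls_congr (by simp) (by simp)
    · rw [esym_last, Finset.powersetCard_eq_empty.2 (by simp), Finset.sum_empty]
  | cast i ih =>
    intro q I hI
    rcases q with _ | q
    · rw [esym_zero, Finset.powersetCard_zero, Finset.sum_singleton]
      exact cls_congr (by simp) (by simp)
    set S := Finset.univ.filter fun i' : Fin r => ((Fin.succ i : Fin (r + 1)) : ℕ) ≤ i' with hS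
    have hiS : i ∉ S := by simp [hS]
    have hins : (Finset.univ.filter fun i' : Fin r => ((Fin.castSucc i : Fin (r + 1)) : ℕ) ≤ i') = insert i S := by
      ext a
      simp only [hS, Finset.mem_filter, Finset.mem_univ, true_and, Finset.mem_insert, Fin.val_castSucc,
        Fin.val_succ, Fin.ext_iff]
      omega
    have hlt : ∀ i' ∈ I, i' < i := fun i' hi' => by simpa using hI i' hi'
    have hiI : i ∉ I := fun h => lt_irrefl _ (hlt i h)
    have hc : c1 δ hδ (hL i) (cls δ (k - (I.card : ℤ)) (κ I) (kappa_mem hδ hα hκ0 hκ I)) =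
        cls δ (k - ((insert i I).card : ℤ)) (κ (insert i I)) (kappa_mem hδ hα hκ0 hκ _) :=
      c1_cls δ hδ (hL i) _ (by rw [Finset.card_insert_of_notMem hiI]; push_cast; ring) _ (t i) (ht i)
        (hκ I i hlt)
    rw [esym_castSucc, hc, hins, Finset.powersetCard_succ_insert hiS, Finset.sum_union ?_,
      ih (q + 1) I (fun i' hi' => by simp only [Fin.val_succ]; have := hI i' hi'; simp only [Fin.val_castSucc] at this; omega),
      ih q (insert i I) (fun i' hi' => by
        rcases Finset.mem_insert.1 hi' with rfl | h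
        · simp
        · have := hI i' h
          simp only [Fin.val_castSucc] at this
          simp only [Fin.val_succ]
          omega), Finset.sum_image ?_]
    · congr 1
      refine Finset.sum_congr rfl fun J _ => ?_
      exact cls_congr (by rw [Finset.union_insert, Finset.insert_union]) (by rw [Finset.union_insert, Finset.insert_union])
    · intro A hA B hB he
      have hA' : i ∉ A := fun h => hiS ((Finset.mem_powersetCard.1 hA).1 h)
      have hB' : i ∉ B := fun h => hiS ((Finset.mem_powersetCard.1 hB).1 h)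
      rw [← Finset.erase_insert hA', ← Finset.erase_insert hB', show insert i A = insert i B from he]
    · refine Finset.disjoint_left.2 fun J hJ hJ' => hiS ?_
      obtain ⟨A, -, rfl⟩ := Finset.mem_image.1 hJ'
      exact (Finset.mem_powersetCard.1 hJ).1 (Finset.mem_insert_self i A)

end Kappa

end Groth.Agent.Lib.Cyc.CH
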