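import Groth.Agent.Lib.Cyc.FibLen
import Mathlib.Topology.Sober
import Mathlib.Topology.NoetherianSpace
import Mathlib.AlgebraicGeometry.Noetherian

/-!
# Existence of flat pullbacks of cycles
-/

set_option autoImplicit false
universe u

open CategoryTheory AlgebraicGeometry TopologicalSpace

namespace Groth.Agent.Lib.Cyc.CH.PullExists

open Groth.Agent.Lib.Cyc

variable {X Y : Scheme.{u}} [IsLocallyNoetherian X] (f : X ⟶ Y)

theorem finite_maxFib {W : X.Opens} (hW : IsAffineOpen W) (y : Y) :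
    {x | x ∈ W ∧ f x = y ∧ FibLen.IsMaxFib f x}.Finite := by
  haveI := IsLocallyNoetherian.component_noetherian (⟨W, hW⟩ : X.affineOpens)
  haveI : IsAffine W := hW
  haveI : IsNoetherianRing Γ((W : Scheme.{u}), ⊤) := isNoetherianRing_of_ringEquiv _
    W.topIso.symm.commRingCatIsoToRingEquiv
  haveI : NoetherianSpace ↥(W : Scheme.{u}) :=
    Topology.IsInducing.noetherianSpace (W : Scheme.{u}).isoSpec.hom.homeomorph.isInducing
  let S : Set X := (W : Set X) ∩ ⇑f ⁻¹' {y}
  haveI : NoetherianSpace ↥(W : Set X) := ‹NoetherianSpace ↥(W : Scheme.{u})›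
  haveI : NoetherianSpace S :=
    Topology.IsInducing.noetherianSpace
      (Topology.IsEmbedding.inclusion (Set.inter_subset_left : S ⊆ (W : Set X))).isInducing
  have hgen : ∀ Z ∈ irreducibleComponents S, ∃ g : X, f g = y ∧ ∀ x : S, x ∈ Z → g ⤳ x.1 := by
    intro Z hZ
    have hirr : IsIrreducible (Subtype.val '' Z : Set X) :=
      hZ.1.image _ continuous_subtype_val.continuousOn
    obtain ⟨g, hg⟩ := QuasiSober.sober hirr.closure isClosed_closure
    refine ⟨g, ?_, fun x hx => hg.specializes (subset_closure ⟨x, hx, rfl⟩)⟩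
    obtain ⟨x, hx⟩ := hZ.1.nonempty
    have h1 : f g ⤳ y := by
      have := (hg.specializes (subset_closure ⟨x, hx, rfl⟩)).map f.continuous
      rwa [show f x.1 = y from x.2.2] at this
    have h2 : y ⤳ f g := by
      rw [specializes_iff_mem_closure]
      refine closure_mono ?_ (image_closure_subset_closure_image f.continuous ⟨g, hg.mem, rfl⟩)
      rintro _ ⟨_, ⟨s, -, rfl⟩, rfl⟩
      exact s.2.2
    exact (h1.antisymm h2).eq
  choose g hg1 hg2 using hgen
  haveI : Finite (irreducibleComponents S) :=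
    (NoetherianSpace.finite_irreducibleComponents (α := S)).to_subtype
  refine (Set.finite_range fun Z : irreducibleComponents S => g Z.1 Z.2).subset ?_
  rintro x ⟨hxW, hxy, hmax⟩
  obtain ⟨Z, hZ, hxZ⟩ : ∃ Z ∈ irreducibleComponents S, (⟨x, hxW, hxy⟩ : S) ∈ Z :=
    ⟨irreducibleComponent _, irreducibleComponent_mem_irreducibleComponents _, mem_irreducibleComponent⟩
  exact ⟨⟨Z, hZ⟩, hmax _ ((hg1 Z hZ).trans hxy.symm) (hg2 Z hZ _ hxZ)⟩

theorem exists_pullFun {δX : X → ℤ} {δY : Y → ℤ} (c : ℤ) {k : ℤ} {α : AlgebraicCycle Y ℤ}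
    (hα : α ∈ Cyc.Zk Y δY k) :
    ∃ β : AlgebraicCycle X ℤ, β ∈ Cyc.Zk X δX (k + c) ∧ ⇑β = Cyc.pullFun f δX δY c ⇑α := by
  refine ⟨⟨Cyc.pullFun f δX δY c ⇑α, fun _ _ => trivial, fun z _ => ?_⟩, fun x hx => ?_, rfl⟩
  · obtain ⟨_, ⟨V, hV, rfl⟩, hzV, -⟩ :=
      Y.isBasis_affineOpens.exists_subset_of_mem_open (Set.mem_univ (f z)) isOpen_univ
    obtain ⟨_, ⟨W, hW, rfl⟩, hzW, hWV⟩ :=
      X.isBasis_affineOpens.exists_subset_of_mem_open (show z ∈ f ⁻¹ᵁ V from hzV) (f ⁻¹ᵁ V).2
    have hfin : ((V : Set Y) ∩ Function.support ⇑α).Finite :=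
      α.locallyFiniteSupport.finite_inter_support_of_isCompact hV.isCompact
    refine ⟨W, W.2.mem_nhds hzW, (hfin.biUnion fun y _ => finite_maxFib f hW y).subset ?_⟩
    rintro x ⟨hxW, hx⟩
    rw [Function.mem_support, FibLen.pullFun_apply] at hx
    split_ifs at hx
    · refine Set.mem_biUnion (show f x ∈ (V : Set Y) ∩ Function.support ⇑α from
        ⟨hWV hxW, left_ne_zero_of_mul hx⟩) ⟨hxW, rfl, ?_⟩
      by_contra hm
      exact hx (by rw [FibLen.toNat_fibLen_eq_zero f x hm]; simp)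
    · exact absurd rfl hx
  · show Cyc.pullFun f δX δY c ⇑α x = 0
    rw [FibLen.pullFun_apply]
    split_ifs with h
    · rw [hα (f x) (fun e => hx (by omega)), zero_mul]
    · rfl

end Groth.Agent.Lib.Cyc.CH.PullExists
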