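import Groth.Agent.Lib.Cyc.CH.Vanish
import Groth.Agent.Lib.Cyc.CH.PushCh
import Groth.Agent.Lib.Cyc.CH.ChComm

/-!
# The relation on a scheme with an invertible quotient of the bundle
-/

set_option autoImplicit false
set_option linter.style.haveILetI false
universe u

open CategoryTheory CategoryTheory.Limits AlgebraicGeometry

noncomputable section

namespace Groth.Agent.Lib.Cyc.CH

open Groth.Agent.Lib Groth.Agent.Lib.Cyc Modules.StalkModule

/-- Push forward along a section followed by the projection. -/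
theorem push_section {W Q : Scheme.{u}} [IsLocallyNoetherian W] [IsLocallyNoetherian Q] {δW : W → ℤ}
    {δQ : Q → ℤ} (hW : Cyc.IsDimFun W δW) (hQ : Cyc.IsDimFun Q δQ) (σ : W ⟶ Q) (pW : Q ⟶ W)
    [IsProper σ] [IsProper pW] (h : σ ≫ pW = 𝟙 W) (hσ : Cyc.DeltaCompat σ δW δQ)
    (hp : Cyc.DeltaCompat pW δQ δW) (y : Tot W δW) :
    push hQ hW pW hp (push hW hQ σ hσ y) = y := by
  refine DFunLike.congr_fun (hom_ext (A := (push hQ hW pW hp).comp (push hW hQ σ hσ))
    (B := AddMonoidHom.id _) fun k α hα => ?_) y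
  show push hQ hW pW hp (push hW hQ σ hσ _) = _
  rw [push_cls hW hQ σ hσ hα rfl (map_mem σ hα),
    push_cls hQ hW pW hp (map_mem σ hα) rfl (map_mem pW (map_mem σ hα))]
  refine cls_congr rfl ?_
  rw [Push.map_map_apply σ pW δW δQ δW hσ hp α]
  haveI : IsPreimmersion (σ ≫ pW) := by rw [h]; infer_instance
  have hpt : ∀ z, (σ ≫ pW) z = z := fun z => by rw [h]; rfl
  funext x
  rw [Push.map_apply, show ⇑(σ ≫ pW) ⁻¹' {x} = {x} from Set.ext fun z => by
      rw [Set.mem_preimage, hpt],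
    finsum_mem_singleton, AlgebraicCycle.mapCoeff, if_pos (by rw [hpt]),
    Residue.residueDegree_eq_one_of_surjective (f := σ ≫ pW) x (FieldDim.residueFieldMap_surjective _ x)]
  simp

variable {X Q : Scheme.{u}} {π : Q ⟶ X} [IsProper π] {O1 : Q.Modules} {F : X.Modules}
  {q : (Scheme.Modules.pullback π).obj F ⟶ O1}

/-- If `M` is an invertible quotient of the pullback of `F`, then
`Σ (-1)^i c_1(M)^{m-i} c_i(F) = 0`. -/
theorem quot_rel (hQ : KRR.IsProjBundle π F O1 q) {W QW : Scheme.{u}} [IsLocallyNoetherian W]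
    [IsLocallyNoetherian QW] {g : W ⟶ X} {pW : QW ⟶ W} {f' : QW ⟶ Q} [IsProper pW]
    (sq : IsPullback f' pW π g) {O1' : QW.Modules} {n : ℕ} {δQ : QW → ℤ} {δW : W → ℤ}
    (B : Bdl pW O1' n δQ δW) (huc : ∀ t : W, CAlg.IsUniversallyCatenary (W.presheaf.stalk t))
    (eO : O1' ≅ (Scheme.Modules.pullback f').obj O1) {M : W.Modules} (hM : PicF.IsInvertible M)
    (φ : (Scheme.Modules.pullback g).obj F ⟶ M) [Epi φ] (y : Tot W δW) :
    ∑ i ∈ Finset.range (n + 2),
      ((-1 : ℤ) ^ i) • B.ch (n + 1 - i) ((c1 δW B.dimX hM ^ i : AddMonoid.End (Tot W δW)) y) = 0 := by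
  obtain ⟨h, ⟨hg, e, -⟩, -⟩ := hQ.univ W g M (TensorMod.LocFree.of_isInvertible hM) φ inferInstance
  let σ := sq.lift h (𝟙 W) (by rw [hg, Category.id_comp])
  have hσ1 : σ ≫ f' = h := sq.lift_fst _ _ _
  have hσ2 : σ ≫ pW = 𝟙 W := sq.lift_snd _ _ _
  haveI : IsClosedImmersion (σ ≫ pW) := by rw [hσ2]; infer_instance
  haveI : IsClosedImmersion σ := IsClosedImmersion.of_comp σ pW
  have hσc : Cyc.DeltaCompat σ δW δQ :=
    deltaCompat_of_comm (π := pW) (π' := 𝟙 W) (f := 𝟙 W) (by rw [hσ2, Category.id_comp]) B.compat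
      (Residue.deltaCompat_id δW) (Residue.deltaCompat_id δW)
  have sq2 : IsPullback (pullback.fst pW pW) (pullback.snd pW pW) pW pW := IsPullback.of_hasPullback pW pW
  haveI : IsLocallyNoetherian (pullback pW pW) :=
    LocallyOfFiniteType.isLocallyNoetherian (pullback.snd pW pW)
  obtain ⟨δ2, hδ2⟩ := PP.P1Graph.exists_deltaCompat (pullback.snd pW pW) δQ
  have B2 := B.baseChange sq2 B.dimP (InducedDimFun.isDimFun (pullback.snd pW pW ≫ pW) B.dimX huc
    (Residue.deltaCompat_comp hδ2 B.compat)) hδ2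
  have := B.flat
  have := B2.flat
  have hfst : Cyc.DeltaCompat (pullback.fst pW pW) δ2 δQ := deltaCompat_of_comm sq2.w B.compat hδ2 B.compat
  have B2' := B.baseChange sq2.flip B.dimP B2.dimP hfst
  have := B2'.flat
  let R : AddMonoid.End (Tot QW δQ) :=
    ∑ i ∈ Finset.range (n + 2), ((-1 : ℤ) ^ i) • (B2.ch (n + 1 - i) * B.h ^ i)
  have hR : ∀ z, R z = ∑ i ∈ Finset.range (n + 2), ((-1 : ℤ) ^ i) • B2.ch (n + 1 - i) ((B.h ^ i) z) :=
    fun z => (AddMonoidHom.finsetSum_apply (fun i => (((-1 : ℤ) ^ i) • (B2.ch (n + 1 - i) * B.h ^ i) :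
      AddMonoid.End (Tot QW δQ))) (Finset.range (n + 2)) z).trans (Finset.sum_congr rfl fun _ _ => rfl)
  have hcomm : ∀ (j i : ℕ) (z : Tot QW δQ), B2.ch j ((B.h ^ i) z) = (B.h ^ i) (B2.ch j z) := by
    intro j i
    induction i with
    | zero => intro z; rfl
    | succ i ih =>
      intro z
      rw [pow_succ']
      show B2.ch j (B.h _) = B.h _
      exact (B2.ch_c1 B.inv j _).symm.trans (congrArg B.h (ih z))
  have hR0 : ∀ z, R z = 0 := by
    intro z
    obtain ⟨a, rfl⟩ := B.surj z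
    rw [map_sum]
    refine Finset.sum_eq_zero fun i _ => ?_
    rw [hR]
    have h1 := congrArg (fun v => (B.h ^ (i : ℕ)) v) (B.rel (a i))
    simp only [map_sum, map_zero] at h1
    refine Eq.trans (Finset.sum_congr rfl fun l _ => ?_) h1
    rw [map_zsmul]
    congr 1
    rw [Bdl.term_apply, Bdl.term_apply, hcomm, hcomm]
    have hp : B2.ch (n + 1 - l) (B.pb (a i)) = B.pb (B.ch (n + 1 - l) (a i)) :=
      (B.pull_ch sq2 B2 B.shift B2'.shift (n + 1 - l) (a i)).symm
    rw [hp]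
    exact DFunLike.congr_fun
      (show B.h ^ l * B.h ^ (i : ℕ) = B.h ^ (i : ℕ) * B.h ^ l by rw [← pow_add, ← pow_add, add_comm]) _
  have hMσ : c1 δW B.dimX (PicLoc.isInvertible_pullback σ B.inv) = c1 δW B.dimX hM :=
    c1_congr B.dimX _ _ ((Scheme.Modules.pullback σ).mapIso eO ≪≫
      (Scheme.Modules.pullbackComp σ f').app O1 ≪≫ (Scheme.Modules.pullbackCongr hσ1).app O1 ≪≫ e)
  have hpow : ∀ (i : ℕ) (v : Tot W δW), (B.h ^ i) (push B.dimX B.dimP σ hσc v) =
      push B.dimX B.dimP σ hσc ((c1 δW B.dimX hM ^ i : AddMonoid.End (Tot W δW)) v) := by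
    intro i
    induction i with
    | zero => intro v; rfl
    | succ i ih =>
      intro v
      rw [pow_succ', pow_succ']
      show B.h _ = push B.dimX B.dimP σ hσc (c1 δW B.dimX hM _)
      refine (congrArg B.h (ih v)).trans ?_
      rw [← hMσ]
      exact (push_c1 B.dimX B.dimP σ hσc B.inv _).symm
  haveI : IsProper (pullback.fst pW pW) := inferInstance
  have h0 := congrArg (push B.dimP B.dimX pW B.compat) (hR0 (push B.dimX B.dimP σ hσc y))
  rw [hR, map_sum, map_zero] at h0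
  refine Eq.trans (Finset.sum_congr rfl fun i _ => ?_) h0
  rw [map_zsmul, hpow, B.push_ch sq2 B2 B.compat, push_section B.dimX B.dimP σ pW hσ2 hσc B.compat]

end Groth.Agent.Lib.Cyc.CH
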