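import Groth.Agent.Lib.Cyc.CH.RatConn
import Groth.Agent.H97.GenLocusAffine
import Groth.Agent.Lib.AffineCompl.Basic

/-!
# A connected ample union of rational curves on a surface
-/

set_option autoImplicit false
set_option linter.style.haveILetI false
universe u

open CategoryTheory AlgebraicGeometry TopologicalSpace

noncomputable section

namespace Groth.Agent.Lib.Cyc.CH.RatConn

open Groth.Agent.Lib Groth.Agent.Lib.Cyc Groth.Agent.H34.SplitP1

variable {k : Type u} [Field k] {X : Scheme.{u}} (fX : X ⟶ Spec (CommRingCat.of k))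

include fX

/-- A closed irreducible subset inside an affine open of a proper scheme is a point. -/
theorem subsingleton_of_subset_affine [IsProper fX] {U : X.Opens} (hU : IsAffineOpen U) {C : Set X}
    (hC : IsClosed C) (hirr : IsIrreducible C) (hCU : C ⊆ U) : C.Subsingleton := by
  haveI : IsLocallyNoetherian X := LocallyOfFiniteType.isLocallyNoetherian fX
  let I := Scheme.IdealSheafData.vanishingIdeal ⟨C, hC⟩
  let i := I.subschemeι
  have hr : Set.range i = C := by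
    rw [show Set.range i = _ from I.range_subschemeι, Scheme.IdealSheafData.coe_support_vanishingIdeal]
    rfl
  have htop : i ⁻¹ᵁ U = ⊤ := top_le_iff.1 fun z _ => hCU (hr ▸ ⟨z, rfl⟩)
  haveI : IsAffine I.subscheme := by
    show IsAffine I.subscheme
    have h := hU.preimage i
    rw [htop] at h
    haveI : IsAffine (⊤ : I.subscheme.Opens) := h
    exact IsAffine.of_isIso (Scheme.topIso I.subscheme).inv
  haveI : IsFinite (i ≫ fX) := IsFinite.iff_isProper_and_isAffineHom.2 ⟨inferInstance, inferInstance⟩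
  haveI : Finite I.subscheme := by
    have h := (i ≫ fX).finite_preimage_singleton (IsLocalRing.closedPoint k)
    haveI : Subsingleton ↥(Spec (CommRingCat.of k)) := inferInstanceAs (Subsingleton (PrimeSpectrum k))
    exact Set.finite_univ_iff.1 (h.subset fun z _ => Subsingleton.elim (α := ↥(Spec (CommRingCat.of k))) _ _)
  haveI : JacobsonSpace I.subscheme := LocallyOfFiniteType.jacobsonSpace (i ≫ fX)
  haveI : DiscreteTopology I.subscheme := by
    refine discreteTopology_iff_forall_isClosed.2 fun s => (Set.toFinite s).isClosed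
  rw [← hr] at hirr ⊢
  have hU' : IsIrreducible (Set.univ : Set I.subscheme) := by
    refine ⟨?_, fun v w hv hw hv' hw' => ?_⟩
    · obtain ⟨_, ⟨z, rfl⟩⟩ := hirr.1
      exact ⟨z, trivial⟩
    obtain ⟨v', hv1, rfl⟩ := i.isEmbedding.isOpen_iff.1 hv
    obtain ⟨w', hw1, rfl⟩ := i.isEmbedding.isOpen_iff.1 hw
    obtain ⟨_, ⟨z, rfl⟩, h1, h2⟩ := hirr.2 v' w' hv1 hw1
      (let ⟨z, _, hz⟩ := hv'; ⟨i z, ⟨z, rfl⟩, hz⟩) (let ⟨z, _, hz⟩ := hw'; ⟨i z, ⟨z, rfl⟩, hz⟩)
    exact ⟨z, trivial, h1, h2⟩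
  rintro _ ⟨a, rfl⟩ _ ⟨b, rfl⟩
  obtain ⟨z, -, hz1, hz2⟩ := hU'.2 {a} {b} (isOpen_discrete _) (isOpen_discrete _) ⟨a, trivial, rfl⟩
    ⟨b, trivial, rfl⟩
  rw [← Set.mem_singleton_iff.1 hz1, ← Set.mem_singleton_iff.1 hz2]

variable [IsProper fX]

/-- In a surface, an irreducible closed proper subset with two points is maximal among those. -/
theorem eq_of_subset (hdim : topologicalKrullDim X = 2) {Z W : Set X} (hZ : IsClosed Z)
    (hZi : IsIrreducible Z) (hZn : Z.Nontrivial) (hW : IsClosed W) (hWi : IsIrreducible W)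
    (hWu : W ≠ Set.univ) [IrreducibleSpace X] (hZW : Z ⊆ W) : Z = W := by
  haveI : JacobsonSpace X := LocallyOfFiniteType.jacobsonSpace fX
  by_contra hne
  obtain ⟨c, hcZ, hc⟩ := nonempty_inter_closedPoints hZi.1 hZ.isLocallyClosed
  let F : Fin 4 → IrreducibleCloseds X := ![⟨{c}, isIrreducible_singleton, hc⟩, ⟨Z, hZi, hZ⟩,
    ⟨W, hWi, hW⟩, ⟨Set.univ, IrreducibleSpace.isIrreducible_univ X, isClosed_univ⟩]
  have h1 : ({c} : Set X) ⊂ Z := (Set.singleton_subset_iff.2 hcZ).ssubset_of_ne fun e =>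
    hZn.ne_singleton e.symm
  let p : LTSeries (IrreducibleCloseds X) :=
    ⟨3, F, fun i => by
      fin_cases i
      · exact h1
      · exact hZW.ssubset_of_ne hne
      · exact (Set.subset_univ W).ssubset_of_ne hWu⟩
  have h := Order.LTSeries.length_le_krullDim p
  change _ ≤ topologicalKrullDim X at h
  rw [hdim] at h
  have h2 : ((3 : ℕ) : WithBot ℕ∞) ≤ 2 := h
  exact absurd h2 (by decide)

/-- All closed points of a connected union of rational curves are equivalent. -/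
theorem ratEquiv_of_connected [IsAlgClosed k] [IrreducibleSpace X] (hdim : topologicalKrullDim X = 2)
    {H : Set X} (hH : IsClosed H) (hconn : _root_.IsConnected H) (hne : H ≠ Set.univ)
    (hrat : ∀ h ∈ H, IsClosed ({h} : Set X) → ∃ g : P1 k ⟶ X, g ≫ fX = CohB1.ProjSpace.toSpec 1 k ∧
      (Set.range g).Nontrivial ∧ h ∈ Set.range g ∧ Set.range g ⊆ H)
    {a b : X} (ha : IsClosed ({a} : Set X)) (hb : IsClosed ({b} : Set X)) (haH : a ∈ H) (hbH : b ∈ H) :
    Cyc.RatEquiv (FieldDim.fdelta fX) 0 (pc a) (pc b) := by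
  haveI : IsLocallyNoetherian X := LocallyOfFiniteType.isLocallyNoetherian fX
  haveI : CompactSpace X := QuasiCompact.compactSpace_of_compactSpace fX
  haveI : IsNoetherian X := {}
  haveI : JacobsonSpace X := LocallyOfFiniteType.jacobsonSpace fX
  have hd := FieldDim.isDimFun_fdelta fX
  obtain ⟨T, hTf, hTc, hTi, hT⟩ := NoetherianSpace.exists_finite_set_isClosed_irreducible hH
  have key : ∀ Z ∈ T, ∀ p q : X, p ∈ Z → q ∈ Z → IsClosed ({p} : Set X) → IsClosed ({q} : Set X) →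
      Cyc.RatEquiv (FieldDim.fdelta fX) 0 (pc p) (pc q) := by
    intro Z hZ p q hp hq hpc hqc
    rcases eq_or_ne p q with rfl | hpq
    · exact Ord.ratEquiv_refl _ _ _
    have hZn : Z.Nontrivial := ⟨p, hp, q, hq, hpq⟩
    let S := {W ∈ T | ¬ Z ⊆ W}
    have hS : IsClosed (⋃₀ S) :=
      (by rw [Set.sUnion_eq_biUnion]; exact (hTf.subset fun W h => h.1).isClosed_biUnion fun W h => hTc W h.1)
    have hnot : ¬ Z ⊆ ⋃₀ S := fun h => by
      obtain ⟨W, hW, hZW⟩ := isIrreducible_iff_sUnion_isClosed.1 (hTi Z hZ)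
        (hTf.subset fun W (h : W ∈ S) => h.1).toFinset
        (fun W hW => hTc W ((Set.Finite.mem_toFinset _).1 hW).1) (by rwa [Set.Finite.coe_toFinset])
      exact ((Set.Finite.mem_toFinset _).1 hW).2 hZW
    obtain ⟨h, ⟨hhZ, hhS⟩, hhc⟩ := nonempty_inter_closedPoints (Set.diff_nonempty.2 hnot)
      ((hTc Z hZ).isLocallyClosed.inter hS.isOpen_compl.isLocallyClosed)
    have hhH : h ∈ H := hT ▸ ⟨Z, hZ, hhZ⟩
    obtain ⟨g, hg, hgn, hgh, hgH⟩ := hrat h hhH hhc
    haveI : IsProper (g ≫ fX) := by rw [hg]; exact Groth.Agent.Lib.ProjSpace.Basic.isProper_toSpec 1 k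
    haveI : IsProper g := IsProper.of_comp g fX
    have hgc : IsClosed (Set.range g) := g.isClosedMap.isClosed_range
    have hgi : IsIrreducible (Set.range g) := by
      rw [← Set.image_univ]
      exact (IrreducibleSpace.isIrreducible_univ _).image _ g.continuous.continuousOn
    obtain ⟨W, hW, hgW⟩ := isIrreducible_iff_sUnion_isClosed.1 hgi hTf.toFinset
      (fun W hW => hTc W ((Set.Finite.mem_toFinset _).1 hW)) (by rwa [Set.Finite.coe_toFinset, ← hT])
    rw [Set.Finite.mem_toFinset] at hW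
    have hZW : Z ⊆ W := by
      by_contra h'
      exact hhS ⟨W, ⟨hW, h'⟩, hgW hgh⟩
    have hWu : W ≠ Set.univ := fun e => hne (Set.eq_univ_of_univ_subset (hT ▸ e ▸ Set.subset_sUnion_of_mem hW))
    have e1 := eq_of_subset fX hdim (hTc Z hZ) (hTi Z hZ) hZn (hTc W hW) (hTi W hW) hWu hZW
    have e2 := eq_of_subset fX hdim hgc hgi hgn (hTc W hW) (hTi W hW) hWu hgW
    have e : Z = Set.range g := e1.trans e2.symm
    exact curve_ratEquiv fX g hg hpc hqc (e ▸ hp) (e ▸ hq)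
  let A := {Z ∈ T | ∃ p ∈ Z, IsClosed ({p} : Set X) ∧ Cyc.RatEquiv (FieldDim.fdelta fX) 0 (pc a) (pc p)}
  let B := {Z ∈ T | Z ∉ A}
  have hAB : H ⊆ ⋃₀ A ∪ ⋃₀ B := fun x hx => by
    obtain ⟨Z, hZ, hxZ⟩ := (hT ▸ hx : x ∈ ⋃₀ T)
    by_cases h : Z ∈ A
    · exact Or.inl ⟨Z, h, hxZ⟩
    · exact Or.inr ⟨Z, ⟨hZ, h⟩, hxZ⟩
  obtain ⟨Zb, hZb, hbZ⟩ := (hT ▸ hbH : b ∈ ⋃₀ T)
  by_cases hbA : Zb ∈ A
  · obtain ⟨-, p, hp, hpc, hr⟩ := hbA
    exact Ord.ratEquiv_trans hr (key Zb hZb p b hp hbZ hpc hb)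
  exfalso
  have hcA : IsClosed (⋃₀ A) := (by rw [Set.sUnion_eq_biUnion]; exact (hTf.subset fun W h => h.1).isClosed_biUnion fun W h => hTc W h.1)
  have hcB : IsClosed (⋃₀ B) := (by rw [Set.sUnion_eq_biUnion]; exact (hTf.subset fun W h => h.1).isClosed_biUnion fun W h => hTc W h.1)
  obtain ⟨Za, hZa, haZ⟩ := (hT ▸ haH : a ∈ ⋃₀ T)
  obtain ⟨c, ⟨-, ⟨Z, hZ, hcZ⟩, Z', hZ', hcZ'⟩, hcc⟩ := nonempty_inter_closedPoints
    (isPreconnected_closed_iff.1 hconn.2 _ _ hcA hcB hAB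
      ⟨a, haH, Za, ⟨hZa, a, haZ, ha, Ord.ratEquiv_refl _ _ _⟩, haZ⟩ ⟨b, hbH, Zb, ⟨hZb, hbA⟩, hbZ⟩)
    (hH.inter (hcA.inter hcB)).isLocallyClosed
  obtain ⟨p, hp, hpc, hr⟩ := hZ.2
  exact hZ'.2 ⟨hZ'.1, c, hcZ', hcc, Ord.ratEquiv_trans hr (key Z hZ.1 p c hp hcZ hpc hcc)⟩

/-- Points on rational curves are equivalent when a connected ample union of rational curves exists. -/
theorem ratEquiv_of_ample [IsAlgClosed k] [IsIntegral X] (hdim : topologicalKrullDim X = 2)
    (L : X.Modules) (hL : CohB1.IsAmple L) (s : Coh.structureModule X ⟶ L) (hs : s ≠ 0)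
    (hconn : _root_.IsConnected ((CohB1.genLocus L s : Set X)ᶜ))
    (hrat : ∀ h ∈ ((CohB1.genLocus L s : Set X)ᶜ), IsClosed ({h} : Set X) →
      ∃ g : P1 k ⟶ X, g ≫ fX = CohB1.ProjSpace.toSpec 1 k ∧ (Set.range g).Nontrivial ∧
        h ∈ Set.range g ∧ Set.range g ⊆ (CohB1.genLocus L s : Set X)ᶜ)
    {x y : X} (hx : IsClosed ({x} : Set X)) (hy : IsClosed ({y} : Set X))
    (hxr : ∃ g : P1 k ⟶ X, g ≫ fX = CohB1.ProjSpace.toSpec 1 k ∧ (Set.range g).Nontrivial ∧ x ∈ Set.range g)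
    (hyr : ∃ g : P1 k ⟶ X, g ≫ fX = CohB1.ProjSpace.toSpec 1 k ∧ (Set.range g).Nontrivial ∧ y ∈ Set.range g) :
    Cyc.RatEquiv (FieldDim.fdelta fX) 0 (pc x) (pc y) := by
  haveI : JacobsonSpace X := LocallyOfFiniteType.jacobsonSpace fX
  haveI : IsLocallyNoetherian X := LocallyOfFiniteType.isLocallyNoetherian fX
  have hH : IsClosed ((CohB1.genLocus L s : Set X)ᶜ) := (CohB1.genLocus L s).isOpen.isClosed_compl
  haveI : Mono s := Curves.Positivity.mono_of_ne_zero (_root_.PicLoc.isInvertible_structureModule X) hL.1 hs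
  have hne : ((CohB1.genLocus L s : Set X)ᶜ) ≠ Set.univ := fun e => by
    obtain ⟨z, hz⟩ := AffineCompl.Basic.genLocus_nonempty hL.1 s
    exact (e.ge (Set.mem_univ z)) hz
  have hmove : ∀ z : X, IsClosed ({z} : Set X) → (∃ g : P1 k ⟶ X, g ≫ fX = CohB1.ProjSpace.toSpec 1 k ∧
      (Set.range g).Nontrivial ∧ z ∈ Set.range g) → ∃ h ∈ ((CohB1.genLocus L s : Set X)ᶜ),
      IsClosed ({h} : Set X) ∧ Cyc.RatEquiv (FieldDim.fdelta fX) 0 (pc z) (pc h) := by
    rintro z hz ⟨g, hg, hgn, hgz⟩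
    haveI : IsProper (g ≫ fX) := by rw [hg]; exact Groth.Agent.Lib.ProjSpace.Basic.isProper_toSpec 1 k
    haveI : IsProper g := IsProper.of_comp g fX
    have hgc : IsClosed (Set.range g) := g.isClosedMap.isClosed_range
    have hgi : IsIrreducible (Set.range g) := by
      rw [← Set.image_univ]
      exact (IrreducibleSpace.isIrreducible_univ _).image _ g.continuous.continuousOn
    have hmeet : (Set.range g ∩ (CohB1.genLocus L s : Set X)ᶜ).Nonempty := by
      by_contra h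
      exact hgn.not_subsingleton (subsingleton_of_subset_affine fX
        (Groth.Agent.H97.GenLocusAffine.isAffineOpen_genLocus fX hL s) hgc hgi fun w hw =>
          by_contra fun hw' => h ⟨w, hw, hw'⟩)
    obtain ⟨h, ⟨hhg, hhH⟩, hhc⟩ := nonempty_inter_closedPoints hmeet (hgc.inter hH).isLocallyClosed
    exact ⟨h, hhH, hhc, curve_ratEquiv fX g hg hz hhc hgz hhg⟩
  obtain ⟨hx', hx'H, hx'c, hxe⟩ := hmove x hx hxr
  obtain ⟨hy', hy'H, hy'c, hye⟩ := hmove y hy hyr
  exact Ord.ratEquiv_trans hxe (Ord.ratEquiv_trans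
    (ratEquiv_of_connected fX hdim hH hconn hne hrat hx'c hy'c hx'H hy'H)
    (Ord.ratEquiv_symm (FieldDim.isDimFun_fdelta fX) hye))

end Groth.Agent.Lib.Cyc.CH.RatConn
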