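import Mathlib.RingTheory.Regular.RegularSequence
import Mathlib.RingTheory.Regular.Flat
import Mathlib.RingTheory.Nakayama
import Mathlib.RingTheory.LocalRing.ResidueField.Basic
import Mathlib.RingTheory.RingHom.Flat
import Mathlib.LinearAlgebra.Matrix.Rank
import Mathlib.LinearAlgebra.Matrix.ToLin

/-!
# Exchanging a member of a regular sequence
-/

set_option autoImplicit false
set_option linter.style.haveILetI false
universe u v

open RingTheory.Sequence IsLocalRing Pointwise

namespace Groth.Agent.Lib.Cyc.CH.RegExchange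

variable {R : Type u} [CommRing R]

theorem ofList_ofFn {r : ℕ} (f : Fin r → R) : Ideal.ofList (List.ofFn f) = Ideal.span (Set.range f) := by
  simp only [Ideal.ofList]
  congr 1
  ext x
  simp

/-- Coefficients of a relation between the members of a weakly regular sequence lie in their ideal. -/
theorem coeff_mem : ∀ {r : ℕ} {f : Fin r → R}, IsWeaklyRegular R (List.ofFn f) →
    ∀ {c : Fin r → R}, ∑ i, c i * f i = 0 → ∀ i, c i ∈ Ideal.span (Set.range f) := by
  intro r
  induction r with
  | zero => exact fun _ _ _ i => i.elim0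
  | succ r ih =>
    intro f hf c hc
    rw [List.ofFn_succ', List.concat_eq_append, isWeaklyRegular_append_iff] at hf
    obtain ⟨h1, h2⟩ := hf
    set I := Ideal.span (Set.range fun i : Fin r => f i.castSucc) with hI
    have hle : I ≤ Ideal.span (Set.range f) := Ideal.span_mono (by
      rintro _ ⟨i, rfl⟩
      exact ⟨_, rfl⟩)
    rw [Fin.sum_univ_castSucc] at hc
    have hmem : c (Fin.last r) * f (Fin.last r) ∈ I := by
      rw [eq_neg_of_add_eq_zero_right hc]
      exact I.neg_mem (Ideal.sum_mem _ fun i _ =>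
        I.mul_mem_left _ (Ideal.subset_span ⟨i, rfl⟩))
    have hlast : c (Fin.last r) ∈ I := by
      rw [isWeaklyRegular_singleton_iff] at h2
      have h3 := h2 (a₁ := (Submodule.Quotient.mk (c (Fin.last r)) :
        R ⧸ (Ideal.ofList (List.ofFn fun i : Fin r => f i.castSucc) • (⊤ : Submodule R R)))) (a₂ := 0) (by
          simp only [smul_zero, ← Submodule.Quotient.mk_smul, Submodule.Quotient.mk_eq_zero]
          simpa [ofList_ofFn, smul_eq_mul, Ideal.mul_top, mul_comm] using hmem)
      rw [Submodule.Quotient.mk_eq_zero, ofList_ofFn, smul_eq_mul, Ideal.mul_top] at h3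
      exact h3
    obtain ⟨d, hd⟩ := Ideal.mem_span_range_iff_exists_fun.1 hlast
    have h4 : ∑ i : Fin r, (c i.castSucc + d i * f (Fin.last r)) * f i.castSucc = 0 := by
      rw [← hc, ← hd, Finset.sum_mul, ← Finset.sum_add_distrib]
      exact Finset.sum_congr rfl fun i _ => by ring
    intro i
    refine Fin.lastCases (hle hlast) (fun j => ?_) i
    have h5 := hle (ih h1 h4 j)
    have h6 : d j * f (Fin.last r) ∈ Ideal.span (Set.range f) :=
      Ideal.mul_mem_left _ _ (Ideal.subset_span ⟨_, rfl⟩)
    simpa using Ideal.sub_mem _ h5 h6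

variable [IsLocalRing R]

/-- A regular sequence is a shortest system of generators. -/
theorem le_card {r m : ℕ} {f : Fin r → R} {a : Fin m → R} (hf : IsWeaklyRegular R (List.ofFn f))
    (hm : Ideal.span (Set.range f) ≤ maximalIdeal R)
    (e : Ideal.span (Set.range f) = Ideal.span (Set.range a)) : r ≤ m := by
  classical
  choose N hN using fun i => Ideal.mem_span_range_iff_exists_fun.1
    (e ▸ Ideal.subset_span ⟨i, rfl⟩ : f i ∈ Ideal.span (Set.range a))
  choose M hM using fun j => Ideal.mem_span_range_iff_exists_fun.1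
    (e.symm ▸ Ideal.subset_span ⟨j, rfl⟩ : a j ∈ Ideal.span (Set.range f))
  let A : Matrix (Fin r) (Fin m) R := N
  let B : Matrix (Fin m) (Fin r) R := M
  have key : ∀ i i', residue R ((A * B) i i') = (1 : Matrix (Fin r) (Fin r) (ResidueField R)) i i' := by
    intro i i'
    have h0 : ∑ k, ((A * B) i k - (1 : Matrix (Fin r) (Fin r) R) i k) * f k = 0 := by
      simp only [sub_mul, Finset.sum_sub_distrib, Matrix.mul_apply, Finset.sum_mul, Matrix.one_apply,
        ite_mul, one_mul, zero_mul, Finset.sum_ite_eq, Finset.mem_univ, if_true]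
      rw [Finset.sum_comm, sub_eq_zero]
      conv_rhs => rw [← hN i]
      refine Finset.sum_congr rfl fun j _ => ?_
      rw [← hM j, Finset.mul_sum]
      exact Finset.sum_congr rfl fun k _ => mul_assoc _ _ _
    have h1 := (IsLocalRing.residue_eq_zero_iff _).2 (hm (coeff_mem hf h0 i'))
    rw [map_sub, sub_eq_zero] at h1
    rw [h1, Matrix.one_apply, Matrix.one_apply]
    split <;> simp
  have hmap : A.map (residue R) * B.map (residue R) =
      (1 : Matrix (Fin r) (Fin r) (ResidueField R)) := by
    rw [← Matrix.map_mul]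
    exact Matrix.ext key
  have h2 := Matrix.rank_mul_le_right (A.map (residue R)) (B.map (residue R))
  rw [hmap, Matrix.rank_one, Fintype.card_fin] at h2
  exact h2.trans (Matrix.rank_le_height _)

variable [IsNoetherianRing R]

theorem le_maximal {rs : List R} (h : IsRegular R rs) : Ideal.ofList rs ≤ maximalIdeal R := by
  refine le_maximalIdeal fun he => h.top_ne_smul ?_
  rw [he]
  simp

/-- A member of an ideal generated by a regular sequence of length `m + 1`, completing `m` elements
to generators, starts a regular sequence of generators. -/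
theorem exists_regular {m : ℕ} {f : Fin (m + 1) → R} (hf : IsRegular R (List.ofFn f)) {x : R}
    {a : Fin m → R} (e : Ideal.span (Set.range f) = Ideal.span {x} ⊔ Ideal.span (Set.range a)) :
    ∃ g : Fin m → R, IsRegular R (x :: List.ofFn g) ∧
      Ideal.span {x} ⊔ Ideal.span (Set.range g) = Ideal.span (Set.range f) := by
  classical
  set I := Ideal.span (Set.range f) with hIdef
  have hI : I ≤ maximalIdeal R := (ofList_ofFn f).ge.trans (le_maximal hf)
  have hxI : x ∈ I := e ▸ Ideal.mem_sup_left (Ideal.mem_span_singleton_self x)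
  obtain ⟨c, hc⟩ := Ideal.mem_span_range_iff_exists_fun.1 hxI
  obtain ⟨i, hi⟩ : ∃ i, IsUnit (c i) := by
    by_contra hno
    push_neg at hno
    have hx : x ∈ maximalIdeal R • I := hc ▸ Ideal.sum_mem _ fun i _ =>
      Submodule.smul_mem_smul ((mem_maximalIdeal _).2 (hno i)) (Ideal.subset_span ⟨i, rfl⟩)
    have hle : I ≤ Ideal.span (Set.range a) ⊔ maximalIdeal R • I := by
      conv_lhs => rw [e]
      exact sup_le (((Ideal.span_singleton_le_iff_mem _).2 hx).trans le_sup_right) le_sup_left
    have h1 : I ≤ Ideal.span (Set.range a) :=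
      Submodule.le_of_le_smul_of_le_jacobson_bot (IsNoetherian.noetherian I)
        (maximalIdeal_le_jacobson ⊥) hle
    have h2 := le_card hf.toIsWeaklyRegular hI (le_antisymm h1 (le_sup_right.trans_eq e.symm))
    omega
  let σ : Equiv.Perm (Fin (m + 1)) := Equiv.swap i (Fin.last m)
  let f' := f ∘ σ
  let g : Fin m → R := fun j => f' j.castSucc
  have hperm : List.Perm (List.ofFn f) (List.ofFn f') := (Equiv.Perm.ofFn_comp_perm σ f).symm
  have hf' : IsRegular R (List.ofFn f') := IsLocalRing.isRegular_of_perm hf hperm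
  have hrange : Ideal.span (Set.range f') = I := by
    rw [hIdef, show Set.range f' = Set.range f from σ.surjective.range_comp f]
  obtain ⟨d, hd, hd'⟩ : ∃ d : Fin (m + 1) → R, IsUnit (d (Fin.last m)) ∧ ∑ j, d j * f' j = x :=
    ⟨c ∘ σ, by simpa [σ] using hi, by rw [← hc]; exact Equiv.sum_comp σ fun j => c j * f j⟩
  rw [Fin.sum_univ_castSucc] at hd'
  have hsplit : List.ofFn f' = List.ofFn g ++ [f' (Fin.last m)] := by
    rw [List.ofFn_succ', List.concat_eq_append]
  have hG : IsWeaklyRegular R (List.ofFn g ++ [x]) := by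
    have h1 := hf'.toIsWeaklyRegular
    rw [hsplit, isWeaklyRegular_append_iff, isWeaklyRegular_singleton_iff] at h1
    rw [isWeaklyRegular_append_iff, isWeaklyRegular_singleton_iff]
    refine ⟨h1.1, fun p q hpq => ?_⟩
    have hker : ∀ z : R ⧸ (Ideal.ofList (List.ofFn g) • (⊤ : Submodule R R)),
        x • z = d (Fin.last m) • (f' (Fin.last m) • z) := fun z => by
      obtain ⟨z, rfl⟩ := Submodule.Quotient.mk_surjective _ z
      rw [← Submodule.Quotient.mk_smul, ← Submodule.Quotient.mk_smul, ← Submodule.Quotient.mk_smul,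
        Submodule.Quotient.eq, smul_eq_mul, smul_eq_mul, smul_eq_mul, ← hd', add_mul, mul_assoc,
        smul_eq_mul]
      rw [add_sub_cancel_right, ofList_ofFn, Ideal.mul_top, Finset.sum_mul]
      exact Ideal.sum_mem _ fun j _ => by
        rw [mul_assoc]
        exact Ideal.mul_mem_left _ _ (Ideal.mul_mem_right _ _ (Ideal.subset_span ⟨j, rfl⟩))
    simp only [hker] at hpq
    exact h1.2 (hd.smul_left_cancel.1 hpq)
  have hlast : f' (Fin.last m) ∈ Ideal.span {x} ⊔ Ideal.span (Set.range g) := by
    have h0 : d (Fin.last m) * f' (Fin.last m) ∈ Ideal.span {x} ⊔ Ideal.span (Set.range g) := by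
      rw [eq_sub_of_add_eq' hd']
      exact Ideal.sub_mem _ (Ideal.mem_sup_left (Ideal.mem_span_singleton_self x))
        (Ideal.mem_sup_right (Ideal.sum_mem _ fun j _ =>
          Ideal.mul_mem_left _ _ (Ideal.subset_span ⟨j, rfl⟩)))
    exact (Ideal.unit_mul_mem_iff_mem _ hd).1 h0
  have hspan : Ideal.span {x} ⊔ Ideal.span (Set.range g) = I := by
    refine le_antisymm (sup_le ((Ideal.span_singleton_le_iff_mem _).2 hxI) ?_) ?_
    · rw [← hrange]
      exact Ideal.span_mono (by rintro _ ⟨j, rfl⟩; exact ⟨_, rfl⟩)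
    · rw [← hrange, Ideal.span_le]
      rintro _ ⟨j, rfl⟩
      exact Fin.lastCases hlast (fun j => Ideal.mem_sup_right (Ideal.subset_span ⟨j, rfl⟩)) j
  refine ⟨g, IsLocalRing.isRegular_of_perm ?_ (List.perm_append_singleton x _), hspan⟩
  refine IsRegular.of_isWeaklyRegular_of_mem_maximalIdeal (mem := fun r hr => hI ?_) (reg := hG)
  rw [← hspan]
  rcases List.mem_append.1 hr with h | h
  · obtain ⟨j, rfl⟩ := List.mem_ofFn.1 h
    exact Ideal.mem_sup_right (Ideal.subset_span ⟨j, rfl⟩)
  · rw [List.mem_singleton.1 h]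
    exact Ideal.mem_sup_left (Ideal.mem_span_singleton_self x)

/-- The quotient by `x` carries the rest of the sequence. -/
theorem exists_regular_map {S : Type u} [CommRing S] [IsLocalRing S] (φ : R →+* S)
    (hφ : Function.Surjective φ) {m : ℕ} {f : Fin (m + 1) → R} (hf : IsRegular R (List.ofFn f)) {x : R}
    (hker : RingHom.ker φ = Ideal.span {x}) {a : Fin m → R}
    (e : Ideal.span (Set.range f) = Ideal.span {x} ⊔ Ideal.span (Set.range a)) :
    IsSMulRegular R x ∧ ∃ g : Fin m → S, IsRegular S (List.ofFn g) ∧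
      Ideal.span (Set.range g) = (Ideal.span (Set.range f)).map φ := by
  obtain ⟨g, hg, hs⟩ := exists_regular hf e
  rw [isRegular_cons_iff] at hg
  refine ⟨hg.1, φ ∘ g, ?_, ?_⟩
  · letI := φ.toAlgebra
    let e₀ : (R ⧸ (x • (⊤ : Submodule R R))) ≃ₗ[R] S :=
      (Submodule.quotEquivOfEq _ (LinearMap.ker (Algebra.linearMap R S)) (by
        rw [← Submodule.ideal_span_singleton_smul, smul_eq_mul, Ideal.mul_top, ← hker]
        rfl)).trans ((Algebra.linearMap R S).quotKerEquivOfSurjective hφ)
    have h2 : IsRegular S (List.ofFn g) := (LinearEquiv.isRegular_congr e₀ _).1 hg.2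
    have hw : IsWeaklyRegular S (List.ofFn (φ ∘ g)) := by
      have := (isWeaklyRegular_map_algebraMap_iff S S (List.ofFn g)).2 h2.toIsWeaklyRegular
      rwa [List.map_ofFn] at this
    refine IsRegular.of_isWeaklyRegular_of_mem_maximalIdeal (mem := fun r hr => ?_) (reg := hw)
    obtain ⟨j, rfl⟩ := List.mem_ofFn.1 hr
    have hj : g j ∈ maximalIdeal R := ((ofList_ofFn f).symm ▸ le_maximal hf :
      Ideal.span (Set.range f) ≤ maximalIdeal R) (hs ▸ Ideal.mem_sup_right (Ideal.subset_span ⟨j, rfl⟩))
    haveI := IsLocalHom.of_surjective φ hφ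
    exact map_nonunit φ _ hj
  · rw [← hs, Ideal.map_sup, Ideal.map_span, Ideal.map_span, Set.image_singleton, ← Set.range_comp,
      show φ x = 0 from (RingHom.mem_ker).1 (hker ▸ Ideal.mem_span_singleton_self x),
      Ideal.span_singleton_eq_bot.2 rfl, bot_sup_eq]

/-- Regular sequences along a flat local homomorphism. -/
theorem isRegular_map {S : Type u} [CommRing S] [IsLocalRing S] (φ : R →+* S) (hflat : φ.Flat)
    [IsLocalHom φ] {r : ℕ} {f : Fin r → R} (hf : IsRegular R (List.ofFn f)) :
    IsRegular S (List.ofFn (φ ∘ f)) := by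
  letI := φ.toAlgebra
  haveI : Module.Flat R S := hflat
  have hw : IsWeaklyRegular S (List.ofFn (φ ∘ f)) := by
    have := IsWeaklyRegular.of_flat (S := S) hf.toIsWeaklyRegular
    rwa [List.map_ofFn] at this
  refine IsRegular.of_isWeaklyRegular_of_mem_maximalIdeal (mem := fun r hr => ?_) (reg := hw)
  obtain ⟨j, rfl⟩ := List.mem_ofFn.1 hr
  exact map_nonunit φ _ ((ofList_ofFn f ▸ le_maximal hf :
    Ideal.span (Set.range f) ≤ maximalIdeal R) (Ideal.subset_span ⟨j, rfl⟩))

end Groth.Agent.Lib.Cyc.CH.RegExchange
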