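import Groth.Agent.Lib.Cyc.CH.DetAtlas

/-!
# The ideal cut out by a section at a point
-/

set_option autoImplicit false
set_option linter.style.haveILetI false
universe u

open CategoryTheory CategoryTheory.Limits AlgebraicGeometry Opposite TopologicalSpace

noncomputable section

namespace Groth.Agent.Lib.Cyc.CH.SecIdeal

open Groth.Agent.Lib Groth.Agent.Lib.Cyc Modules.StalkModule

section Algebra

variable {R : Type u} [CommRing R] {M N : Type u} [AddCommGroup M] [Module R M] [AddCommGroup N]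
  [Module R N]

variable (R) in
/-- The values of all functionals at `v`. -/
def ofVec (v : M) : Ideal R := LinearMap.range (Module.Dual.eval R M v)

theorem mem_ofVec (v : M) (l : Module.Dual R M) : (l v : R) ∈ ofVec R v := ⟨l, rfl⟩

theorem ofVec_eq_span {ι : Type*} [Fintype ι] (b : Module.Basis ι R M) (v : M) :
    ofVec R v = Ideal.span (Set.range fun i => b.repr v i) := by
  refine le_antisymm ?_ (Ideal.span_le.2 ?_)
  · rintro _ ⟨l, rfl⟩
    show l v ∈ Ideal.span (Set.range fun i => b.repr v i)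
    rw [show l v = ∑ i, l (b.repr v i • b i) by rw [← map_sum, b.sum_repr]]
    refine Submodule.sum_mem _ fun i _ => ?_
    rw [map_smul, smul_eq_mul]
    exact Ideal.mul_mem_right _ _ (Ideal.subset_span ⟨i, rfl⟩)
  · rintro _ ⟨i, rfl⟩
    exact ⟨b.coord i, rfl⟩

theorem ofVec_le (f : M →ₗ[R] N) (v : M) : ofVec R (f v) ≤ ofVec R v := by
  rintro _ ⟨l, rfl⟩
  exact ⟨l.comp f, rfl⟩

theorem ofVec_eq (f : M →ₗ[R] N) (g : N →ₗ[R] M) (h : ∀ v, g (f v) = v) (v : M) :
    ofVec R (f v) = ofVec R v :=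
  le_antisymm (ofVec_le f v) (by conv_lhs => rw [← h v]
                                 exact ofVec_le g (f v))

theorem ofVec_le_iff {ι : Type*} [Fintype ι] (b : Module.Basis ι R M) (v : M) (J : Ideal R) :
    ofVec R v ≤ J ↔ v ∈ J • (⊤ : Submodule R M) := by
  refine ⟨fun h => ?_, fun h => ?_⟩
  · rw [← b.sum_repr v]
    exact Submodule.sum_mem _ fun i _ =>
      Submodule.smul_mem_smul (h ⟨b.coord i, rfl⟩) trivial
  · rintro _ ⟨l, rfl⟩
    show l v ∈ J
    exact Submodule.smul_induction_on h (fun a ha w _ => by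
      rw [map_smul, smul_eq_mul]; exact Ideal.mul_mem_right _ _ ha) fun a b ha hb => by
      rw [map_add]; exact J.add_mem ha hb

end Algebra

variable {X : Scheme.{u}} {E F : X.Modules}

/-- The ideal of `s` at `x`. -/
def at' (s : Γ(E, ⊤)) (x : X) : Ideal (X.presheaf.stalk x) :=
  ofVec (X.presheaf.stalk x) (E.presheaf.germ ⊤ x trivial s)

theorem at'_pullback {r : ℕ} (hE : FlatMod.IsFinLocFreeOfRank r E) {Y : Scheme.{u}} (g : Y ⟶ X)
    (s : Γ(E, ⊤)) (y : Y) :
    at' (E := (Scheme.Modules.pullback g).obj E) (TensorMod.Pullback.unitSec g E s) y =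
      (at' s (g y)).map (g.stalkMap y).hom := by
  obtain ⟨b⟩ := CurveBundle.Coherent.exists_basis_stalk hE (g y)
  obtain ⟨b₀⟩ := CurveBundle.Coherent.exists_basis_stalk (TensorMod.LocFree.rank_pullback g hE) y
  obtain ⟨b', hb'⟩ := exists_basis_of_span b₀ (fun i => ust g E y (b i)) (by
    rw [show (Set.range fun i => ust g E y (b i)) = ust g E y '' Set.range b by
      rw [← Set.range_comp]; rfl]
    exact span_ust g E y b.span_eq)
  rw [at', at', ofVec_eq_span b, ofVec_eq_span b', Ideal.map_span, ← Set.range_comp]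
  have h : ∀ i, b'.repr (((Scheme.Modules.pullback g).obj E).presheaf.germ ⊤ y trivial
      (TensorMod.Pullback.unitSec g E s)) i = (g.stalkMap y).hom (b.repr (E.presheaf.germ ⊤ (g y) trivial s) i) := by
    intro i
    have h1 : ust g E y (E.presheaf.germ ⊤ (g y) trivial s) =
        ∑ j, (g.stalkMap y).hom (b.repr (E.presheaf.germ ⊤ (g y) trivial s) j) • b' j := by
      conv_lhs => rw [← b.sum_repr (E.presheaf.germ ⊤ (g y) trivial s), ust_sum]
      simp only [ust_smul, hb']
    rw [show ((Scheme.Modules.pullback g).obj E).presheaf.germ ⊤ y trivial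
      (TensorMod.Pullback.unitSec g E s) = ust g E y (E.presheaf.germ ⊤ (g y) trivial s) from
        (ust_germ g E (U := ⊤) y trivial s).symm, h1, Module.Basis.repr_sum_self]
  exact congrArg Ideal.span (congrArg Set.range (funext h))

theorem at'_le (f : E ⟶ F) (s : Γ(E, ⊤)) (x : X) : at' (f.app ⊤ s) x ≤ at' s x := by
  rw [at', ← stalkMapₗ_germ]
  exact ofVec_le _ _

theorem at'_iso (e : E ≅ F) (s : Γ(E, ⊤)) (x : X) : at' (e.hom.app ⊤ s) x = at' s x := by
  refine le_antisymm (at'_le e.hom s x) ?_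
  have h := at'_le e.inv (e.hom.app ⊤ s) x
  have e0 : e.hom.app ⊤ ≫ e.inv.app ⊤ = 𝟙 _ := by
    rw [← Scheme.Modules.Hom.comp_app, Iso.hom_inv_id]
    rfl
  rwa [show e.inv.app ⊤ (e.hom.app ⊤ s) = s from ConcreteCategory.congr_hom e0 s] at h

end Groth.Agent.Lib.Cyc.CH.SecIdeal
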