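import Groth.Agent.Lib.Cyc.Gys.Cycle
import Groth.Agent.Lib.Cyc.LimCyc
import Groth.Agent.Lib.Cyc.FlatDim
import Groth.Agent.Lib.Cyc.CH.Gysin
import Groth.Agent.Lib.CartierDescent.Stalk

/-!
# The Gysin map of a section is a left inverse of flat pullback
-/

set_option autoImplicit false
set_option linter.style.haveILetI false
universe u

open CategoryTheory CategoryTheory.Limits AlgebraicGeometry IsLocalRing

noncomputable section

namespace Groth.Agent.Lib.Cyc.CH.SecInv

open Groth.Agent.Lib Groth.Agent.Lib.Cyc Groth.Agent.Lib.Cyc.DimFun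

variable {F D : Scheme.{u}} [IsLocallyNoetherian F] [IsLocallyNoetherian D] (q : F ⟶ D) (z : D ⟶ F)
  [IsClosedImmersion z] {δ : F → ℤ} {δD : D → ℤ} {N : F.Modules}
  {s : N.presheaf.obj (Opposite.op ⊤)}

omit [IsLocallyNoetherian F] [IsLocallyNoetherian D] [IsClosedImmersion z] in
theorem q_z (hz : z ≫ q = 𝟙 D) (d : D) : q (z d) = d := by
  rw [← Scheme.Hom.comp_apply, hz]
  rfl

omit [IsLocallyNoetherian F] [IsLocallyNoetherian D] in
theorem max_le (hz : z ≫ q = 𝟙 D) (d : D) {f : F.presheaf.stalk (z d)}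
    (hker : RingHom.ker (z.stalkMap d).hom = Ideal.span {f}) :
    maximalIdeal (F.presheaf.stalk (z d)) ≤
      (maximalIdeal (D.presheaf.stalk (q (z d)))).map (q.stalkMap (z d)).hom ⊔ Ideal.span {f} := by
  intro x hx
  haveI : IsIso ((z ≫ q).stalkMap d) := by
    haveI : IsIso (z ≫ q) := by rw [hz]; infer_instance
    infer_instance
  obtain ⟨b, hb'⟩ : ∃ b : D.presheaf.stalk (q (z d)),
      (z.stalkMap d).hom ((q.stalkMap (z d)).hom b) = (z.stalkMap d).hom x := by
    obtain ⟨b, hb⟩ := (ConcreteCategory.bijective_of_isIso ((z ≫ q).stalkMap d)).2 ((z.stalkMap d).hom x)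
    rw [Scheme.Hom.stalkMap_comp] at hb
    exact ⟨b, hb⟩
  have hbm : b ∈ maximalIdeal (D.presheaf.stalk (q (z d))) := (mem_maximalIdeal _).2 fun hu => by
    refine (mem_maximalIdeal _).1 hx (isUnit_of_map_unit (z.stalkMap d).hom x ?_)
    rw [← hb']
    exact (hu.map _).map _
  have hxb : x - (q.stalkMap (z d)).hom b ∈ Ideal.span {f} := by
    rw [← hker, RingHom.mem_ker, map_sub, hb', sub_self]
  exact Submodule.mem_sup.2 ⟨_, Ideal.mem_map_of_mem _ hbm, _, hxb, by ring⟩

omit [IsLocallyNoetherian F] [IsLocallyNoetherian D] in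
theorem isDimFun_section (hδ : Cyc.IsDimFun F δ) (hz' : ∀ d, δ (z d) = δD d) : Cyc.IsDimFun D δD := by
  rw [show δD = fun d => δ (z d) from funext fun d => (hz' d).symm]
  exact Gys.Closed.isDimFun z hδ

/-- The germ data at a point of the section. -/
structure At (d : D) (ξ : F) : Prop where
  sp : ξ ⤳ z d
  ov : q ξ = d
  len : FibLen.fibLen q ξ = 1
  uniq : ∀ ξ', ξ' ⤳ z d → q ξ' = d → ξ' = z d ∨ ξ' = ξ
  ne : ξ ≠ z d
  ord : ∀ f : F.presheaf.stalk (z d), RingHom.ker (z.stalkMap d).hom = Ideal.span {f} →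
    Cyc.specMap (z d) ξ sp f ≠ 0 ∧
      Ring.ord (Cyc.LocQuot (z d) ξ sp) (Ideal.Quotient.mk _ f) = 1

omit [IsLocallyNoetherian D] in
theorem exists_at (hz : z ≫ q = 𝟙 D) (hD : Cyc.IsZeroSchemeOf z N s) (hshift : FP.Main.Shift q δ δD 1)
    (hz' : ∀ d, δ (z d) = δD d) (d : D) : ∃ ξ, At q z d ξ := by
  obtain ⟨t, f, ht, hs, hker⟩ := hD.2 d
  let I := (maximalIdeal (D.presheaf.stalk (q (z d)))).map (q.stalkMap (z d)).hom
  have hm : maximalIdeal (F.presheaf.stalk (z d)) ≤ I ⊔ Ideal.span {f} := max_le q z hz d hker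
  -- a point of the fibre above the section
  obtain ⟨ξ, hξ, hqξ, hmax⟩ := FlatDim.exists_isMaxFib_specializes q (z d)
  have hne : ξ ≠ z d := fun h => by
    have := hshift _ (h ▸ hmax : FibLen.IsMaxFib q (z d))
    rw [q_z q z hz, hz'] at this
    omega
  have hfm : f ∈ maximalIdeal (F.presheaf.stalk (z d)) := by
    refine (mem_maximalIdeal _).2 fun hu => ?_
    have h1 : (1 : F.presheaf.stalk (z d)) ∈ RingHom.ker (z.stalkMap d).hom := by
      rw [hker]; exact Ideal.mem_span_singleton.2 hu.dvd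
    rw [RingHom.mem_ker, map_one] at h1
    exact one_ne_zero h1
  -- every prime over the fibre other than the closed point is the fibre ideal
  have key : ∀ P : PrimeSpectrum (F.presheaf.stalk (z d)), I ≤ P.asIdeal →
      P.asIdeal ≠ maximalIdeal _ → P.asIdeal = I := by
    intro P hIP hPm
    have hfP : f ∉ P.asIdeal := fun h => hPm (le_antisymm (le_maximalIdeal P.isPrime.ne_top)
      (hm.trans (sup_le hIP ((Ideal.span_singleton_le_iff_mem _).2 h))))
    refine le_antisymm (Submodule.le_of_le_smul_of_le_jacobson_bot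
      (I := maximalIdeal (F.presheaf.stalk (z d))) (IsNoetherian.noetherian _)
      (maximalIdeal_le_jacobson ⊥) fun x hx => ?_) hIP
    have hxm : x ∈ I ⊔ Ideal.span {f} := hm (le_maximalIdeal P.isPrime.ne_top hx)
    obtain ⟨i, hi, j, hj, rfl⟩ := Submodule.mem_sup.1 hxm
    obtain ⟨r, rfl⟩ := Ideal.mem_span_singleton'.1 hj
    have hr : r ∈ P.asIdeal := (P.isPrime.mem_or_mem ((Ideal.add_mem_iff_right _ (hIP hi)).1 hx)).resolve_right hfP
    refine Submodule.mem_sup.2 ⟨i, hi, r * f, ?_, rfl⟩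
    rw [smul_eq_mul, mul_comm r f]
    exact Ideal.mul_mem_mul hfm hr
  have hgen : ∀ ξ', ξ' ⤳ z d → q ξ' = d → ∀ h : ξ' ⤳ z d, I ≤ (genPrime (z d) ξ' h).asIdeal :=
    fun ξ' _ hq h => (FibLen.map_le_iff q (z d) _).2 (by rw [fromSpecStalk_genPrime, hq, q_z q z hz])
  have hqξ' : q ξ = d := hqξ.trans (q_z q z hz d)
  have hPξ : (genPrime (z d) ξ hξ).asIdeal = I := key _ (hgen ξ hξ hqξ' hξ) fun h => hne (by
    rw [← fromSpecStalk_genPrime (z d) ξ hξ,
      show genPrime (z d) ξ hξ = closedPoint _ from PrimeSpectrum.ext h, Scheme.fromSpecStalk_closedPoint])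
  refine ⟨ξ, hξ, hqξ', ?_, fun ξ' hξ' hq => ?_, hne, fun f' hker' => ?_⟩
  · refine LimCyc.fibLen_eq_one q ξ (le_antisymm (Ideal.map_le_iff_le_comap.2 fun r hr => ?_) ?_)
    · exact (mem_maximalIdeal _).2 fun hu => (mem_maximalIdeal r).1 hr (isUnit_of_map_unit (q.stalkMap ξ).hom r hu)
    · intro x hx
      letI := (F.presheaf.stalkSpecializes hξ).hom.toAlgebra
      have hp : (genPrime (z d) ξ hξ).asIdeal = CDivInt.Factorial.primeOf hξ := by
        rw [genPrime_eq]
        rfl
      haveI := CartierDescent.isLocalization_stalkSpecializes hξ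
      rw [← IsLocalization.AtPrime.map_eq_maximalIdeal (CDivInt.Factorial.primeOf hξ) (F.presheaf.stalk ξ),
        ← hp, hPξ] at hx
      refine (?_ : _ ≤ Ideal.map (q.stalkMap ξ).hom _) hx
      rw [Ideal.map_map, Ideal.map_le_iff_le_comap]
      intro r hr
      rw [Ideal.mem_comap]
      have h1 : D.presheaf.stalkSpecializes (hξ.map q.continuous) r ∈
          maximalIdeal (D.presheaf.stalk (q ξ)) := by
        refine (mem_maximalIdeal _).2 fun hu => (mem_maximalIdeal r).1 hr ?_
        have hs : q (z d) ⤳ q ξ := specializes_of_eq (by rw [hqξ])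
        have h2 := hu.map (D.presheaf.stalkSpecializes hs).hom
        have e := ConcreteCategory.congr_hom
          (TopCat.Presheaf.stalkSpecializes_comp D.presheaf hs (hξ.map q.continuous)) r
        have e' := ConcreteCategory.congr_hom
          (TopCat.Presheaf.stalkSpecializes_refl D.presheaf (q (z d))) r
        have e2 := e.trans e'
        rw [ConcreteCategory.comp_apply, ConcreteCategory.id_apply] at e2
        exact e2 ▸ h2
      refine Eq.subst (motive := fun v => v ∈ Ideal.map (q.stalkMap ξ).hom _) ?_ (Ideal.mem_map_of_mem _ h1)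
      show (q.stalkMap ξ) (D.presheaf.stalkSpecializes _ r) = _
      rw [← CategoryTheory.comp_apply, Scheme.Hom.stalkSpecializes_stalkMap, CategoryTheory.comp_apply]
      rfl
  · by_cases h : ξ' = z d
    · exact Or.inl h
    · refine Or.inr ?_
      have h1 := key _ (hgen ξ' hξ' hq hξ') fun hh => h (by
        rw [← fromSpecStalk_genPrime (z d) ξ' hξ',
          show genPrime (z d) ξ' hξ' = closedPoint _ from PrimeSpectrum.ext hh,
          Scheme.fromSpecStalk_closedPoint])
      rw [← fromSpecStalk_genPrime (z d) ξ' hξ', ← fromSpecStalk_genPrime (z d) ξ hξ,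
        PrimeSpectrum.ext (h1.trans hPξ.symm)]
  · have hmax' : maximalIdeal (F.presheaf.stalk (z d)) ≤ I ⊔ Ideal.span {f'} := max_le q z hz d hker'
    have hP : RingHom.ker (Cyc.specMap (z d) ξ hξ) = I := hPξ
    haveI : IsLocalRing (Cyc.LocQuot (z d) ξ hξ) :=
      .of_surjective' (Ideal.Quotient.mk _) Ideal.Quotient.mk_surjective
    have hf' : f' ∈ maximalIdeal (F.presheaf.stalk (z d)) := by
      refine (mem_maximalIdeal _).2 fun hu => ?_
      have h1 : (1 : F.presheaf.stalk (z d)) ∈ RingHom.ker (z.stalkMap d).hom := by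
        rw [hker']; exact Ideal.mem_span_singleton.2 hu.dvd
      rw [RingHom.mem_ker, map_one] at h1
      exact one_ne_zero h1
    refine ⟨fun h0 => hne ?_, ?_⟩
    · have h1 : maximalIdeal (F.presheaf.stalk (z d)) ≤ (genPrime (z d) ξ hξ).asIdeal :=
        hmax'.trans (sup_le hPξ.ge ((Ideal.span_singleton_le_iff_mem _).2 h0))
      rw [← fromSpecStalk_genPrime (z d) ξ hξ, show genPrime (z d) ξ hξ = closedPoint _ from
        PrimeSpectrum.ext (le_antisymm (le_maximalIdeal (genPrime (z d) ξ hξ).isPrime.ne_top) h1),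
        Scheme.fromSpecStalk_closedPoint]
    · rw [Ring.ord, Module.length_eq_one_iff, isSimpleModule_iff_isCoatom]
      have hsp : Ideal.span {Ideal.Quotient.mk (RingHom.ker (Cyc.specMap (z d) ξ hξ)) f'} =
          maximalIdeal (Cyc.LocQuot (z d) ξ hξ) := by
        refine le_antisymm ((Ideal.span_singleton_le_iff_mem _).2 ((mem_maximalIdeal _).2 fun hu =>
          (mem_maximalIdeal _).1 hf' (isUnit_of_map_unit (Ideal.Quotient.mk _) f' hu))) fun x hx => ?_
        obtain ⟨a, rfl⟩ := Ideal.Quotient.mk_surjective x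
        have ha : a ∈ maximalIdeal (F.presheaf.stalk (z d)) := (mem_maximalIdeal _).2 fun hu =>
          (mem_maximalIdeal _).1 hx (hu.map _)
        obtain ⟨i, hi, j, hj, rfl⟩ := Submodule.mem_sup.1 (hmax' ha)
        obtain ⟨r, rfl⟩ := Ideal.mem_span_singleton'.1 hj
        rw [map_add, Ideal.Quotient.eq_zero_iff_mem.2 (hP.ge hi), zero_add, map_mul]
        exact Ideal.mul_mem_left _ _ (Ideal.mem_span_singleton_self _)
      rw [hsp]
      exact (IsLocalRing.maximalIdeal.isMaximal _).out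

variable [Flat q] [LocallyOfFiniteType q]

theorem gys_pull_eq (hz : z ≫ q = 𝟙 D) (hN : PicF.IsInvertible N) (hD : Cyc.IsZeroSchemeOf z N s)
    {w : (ξ : F) → Cyc.secFibre N ξ} (hw : ∀ ξ, w ξ ≠ 0) (hδ : Cyc.IsDimFun F δ)
    (hshift : FP.Main.Shift q δ δD 1) (hz' : ∀ d, δ (z d) = δD d) {k : ℤ} {α : AlgebraicCycle D ℤ}
    (hα : α ∈ Cyc.Zk D δD k) (d : D) :
    Cyc.c1CapFun δ N (Cyc.pullFun q δ δD 1 ⇑α) (Cyc.gysinChoice N s w) (z d) = α d := by
  classical
  obtain ⟨ξ, hA⟩ := exists_at q z hz hD hshift hz' d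
  unfold Cyc.c1CapFun
  have hδξ : δ (z d) + 1 = δ ξ := by
    have hne : δ (z d) < δ ξ := DimFun.lt_of_specializes hδ hA.sp hA.ne
    have h2 := FP.Main.delta_le q hδ hshift ξ
    rw [hA.ov] at h2
    rw [hz'] at hne ⊢
    omega
  rw [finsum_eq_single _ ξ fun x hx => ?_]
  · obtain ⟨t, f, ht, hs, hker⟩ := hD.2 d
    obtain ⟨hne, hord⟩ := hA.ord f hker
    have hmk : (Submodule.Quotient.mk ((N.presheaf.germ ⊤ ξ trivial) s) : Cyc.secFibre N ξ) =
        F.presheaf.stalkSpecializes hA.sp f •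
          (Submodule.Quotient.mk (N.presheaf.stalkSpecializes hA.sp t) : Cyc.secFibre N ξ) := by
      rw [← Submodule.Quotient.mk_smul, ← C1.stalkSpecializes_smul, ← hs]
      exact congrArg Submodule.Quotient.mk (ConcreteCategory.congr_hom
        (TopCat.Presheaf.germ_stalkSpecializes N.presheaf (U := ⊤) (y := z d) trivial hA.sp) s).symm
    have hne' : (Submodule.Quotient.mk ((N.presheaf.germ ⊤ ξ trivial) s) : Cyc.secFibre N ξ) ≠ 0 := by
      intro h0
      have hmem : ξ ∈ Set.range ⇑z := by rw [hD.1]; exact h0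
      obtain ⟨d', rfl⟩ := hmem
      exact hA.ne (congrArg z ((q_z q z hz d').symm.trans hA.ov))
    rw [Cyc.gysinChoice, if_pos hne', Cyc.secDivFun, dif_pos ⟨hA.sp, hδξ⟩,
      C1Indep.secOrdAt_eq hδ hN (z d) ξ hA.sp hδξ.ge _ hne' t ht _ hmk, FibLen.pullFun_apply,
      if_pos (by rw [hA.ov, ← hz', hδξ]), hA.len, hA.ov]
    show α d * ((1 : ℕ∞).toNat : ℤ) * Cyc.ordAt (z d) ξ hA.sp (Cyc.specMap (z d) ξ hA.sp f) = α d
    rw [Ord.ordAt_specMap hδ (z d) ξ hA.sp hδξ.ge f hne, hord]
    simp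
  · by_contra h
    obtain ⟨h1, h2⟩ := mul_ne_zero_iff.1 h
    rw [Cyc.secDivFun] at h2
    split_ifs at h2 with hc
    swap
    · exact h2 rfl
    rw [FibLen.pullFun_apply] at h1
    split_ifs at h1 with hδx
    swap
    · exact h1 rfl
    have hqx : δD (q x) = k := by
      by_contra hn
      exact h1 (by rw [hα _ hn, zero_mul])
    have hsp : q x ⤳ d := by
      have := hc.1.map q.continuous
      rwa [q_z q z hz] at this
    have heq : q x = d := by
      by_contra hqd
      have := (DimFun.lt_of_specializes (δ := δD) ?_ hsp hqd)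
      · have := hc.2
        rw [hz'] at this
        omega
      · exact isDimFun_section z hδ hz'
    rcases hA.uniq x hc.1 heq with e | e
    · rw [e] at hc
      have := hc.2
      omega
    · exact hx e

end Groth.Agent.Lib.Cyc.CH.SecInv
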