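import Groth.Agent.Lib.Cyc.CH.SecIdeal
import Groth.Agent.Lib.Cyc.PB.Univ

/-!
# The quotient of a section is a nonzerodivisor off the zero scheme
-/

set_option autoImplicit false
set_option linter.style.haveILetI false
universe u

open CategoryTheory CategoryTheory.Limits AlgebraicGeometry Opposite TopologicalSpace
open ZarCoh.FlatBC.PullbackSections

noncomputable section

namespace Groth.Agent.Lib.Cyc.CH.SecNZD

open Groth.Agent.Lib Groth.Agent.Lib.Cyc Modules.StalkModule TensorMod.Dual TensorMod.Gen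
open Groth.Agent.Lib.TensorMod.Basis (IsBasis comb)
open Groth.Agent.Lib.RefHull.SecHom (germ_rs germ_rf)

variable {X : Scheme.{u}} {E : X.Modules}

/-- A section not vanishing at `x` belongs to a frame near `x`. -/
theorem exists_frame {r : ℕ} (hE : FlatMod.IsFinLocFreeOfRank r E) (s : Γ(E, ⊤)) (x : X)
    (hx : ¬SecIdeal.at' s x ≤ IsLocalRing.maximalIdeal (X.presheaf.stalk x)) :
    ∃ (U : X.Opens) (_ : IsAffineOpen U) (_ : x ∈ U) (e : Fin r → Γ(E, U)) (k : Fin r),
      IsBasis e ∧ e k = rs E le_top s := by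
  classical
  obtain ⟨V, hxV, ⟨i⟩⟩ := hE x
  obtain ⟨e₀, he₀⟩ := TensorMod.Basis.exists_basis_of_iso i
  obtain ⟨a, ha⟩ := (he₀ V le_rfl).2 (rs E le_top s)
  obtain ⟨k, hk⟩ : ∃ k, IsUnit (X.presheaf.germ V x hxV (a k)) := by
    by_contra hno
    push Not at hno
    apply hx
    obtain ⟨b⟩ := CurveBundle.Coherent.exists_basis_stalk hE x
    rw [SecIdeal.at', SecIdeal.ofVec_le_iff b, ← germ_rs (le_top : V ≤ ⊤) hxV s, ← ha]
    simp only [comb, map_sum, Mero.germ_smul]
    exact Submodule.sum_mem _ fun j _ => Submodule.smul_mem_smul ((IsLocalRing.mem_maximalIdeal _).2 (hno j)) Submodule.mem_top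
  have hxB : x ∈ X.basicOpen (a k) := (X.toRingedSpace.mem_basicOpen (a k) x hxV).2 hk
  obtain ⟨U, hUa, hxU, hUB⟩ :=
    exists_isAffineOpen_mem_and_subset (X := X) (x := x) (U := X.basicOpen (a k)) hxB
  have hUV : U ≤ V := (show U ≤ X.basicOpen (a k) from hUB).trans (X.basicOpen_le _)
  let e₁ : Fin r → Γ(E, U) := fun j => rs E hUV (e₀ j)
  let C : Matrix (Fin r) (Fin r) Γ(X, U) :=
    (1 : Matrix (Fin r) (Fin r) Γ(X, U)).updateRow k fun j => rf hUV (a j)
  have hC : IsUnit C.det := by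
    have h1 : C = (1 : Matrix (Fin r) (Fin r) Γ(X, U)).updateRow k
        (∑ j, rf hUV (a j) • (1 : Matrix (Fin r) (Fin r) Γ(X, U)) j) := by
      have hrow : ∑ j, rf hUV (a j) • (1 : Matrix (Fin r) (Fin r) Γ(X, U)) j = fun j => rf hUV (a j) := by
        funext j
        rw [Finset.sum_apply, Finset.sum_eq_single j (fun b _ hb => by
          rw [Pi.smul_apply, Matrix.one_apply_ne hb, smul_zero]) (fun h => absurd (Finset.mem_univ j) h),
          Pi.smul_apply, Matrix.one_apply_eq, smul_eq_mul, mul_one]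
      rw [hrow]
    rw [h1, Matrix.det_updateRow_sum, Matrix.det_one, smul_eq_mul, mul_one]
    have h2 := X.toRingedSpace.isUnit_res_basicOpen (a k)
    have h3 := h2.map (X.presheaf.map (homOfLE (show U ≤ X.basicOpen (a k) from hUB)).op).hom
    convert h3 using 1
    exact (ConcreteCategory.congr_hom (X.presheaf.map_comp (homOfLE (X.basicOpen_le (a k))).op
      (homOfLE (show U ≤ X.basicOpen (a k) from hUB)).op) (a k))
  refine ⟨U, hUa, hxU, fun j => ∑ l, C j l • e₁ l, k, (he₀.res hUV).of_matrix C hC, ?_⟩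
  have h4 := congrArg (rs E hUV) ha
  rw [TensorMod.Basis.rs_comb, rs_rs] at h4
  rw [← h4]
  simp [C, e₁, comb, Matrix.updateRow_self]

theorem span_germ {L : X.Modules} {U : X.Opens} {g : Γ(L, U)} (hg : IsGen L U g) {x : X} (hx : x ∈ U) :
    Submodule.span (X.presheaf.stalk x) {L.presheaf.germ U x hx g} = ⊤ := by
  refine eq_top_iff.2 fun v _ => ?_
  obtain ⟨W, hxW, m, rfl⟩ := TopCat.Presheaf.exists_germ_eq L.presheaf v
  obtain ⟨c, hc⟩ := (hg (W ⊓ U) inf_le_right).2 (rs L inf_le_left m)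
  refine Submodule.mem_span_singleton.2 ⟨X.presheaf.germ (W ⊓ U) x ⟨hxW, hx⟩ c, ?_⟩
  rw [← germ_rs (inf_le_right : W ⊓ U ≤ U) ⟨hxW, hx⟩ g, ← Mero.germ_smul,
    ← germ_rs (inf_le_left : W ⊓ U ≤ W) ⟨hxW, hx⟩ m]
  exact congrArg _ hc

/-- `q(π^* s)` is a nonzerodivisor over the points where `s` does not vanish. -/
theorem regular {P : Scheme.{u}} {π : P ⟶ X} {O1 : P.Modules}
    {q : (Scheme.Modules.pullback π).obj E ⟶ O1} (hP : KRR.IsProjBundle π E O1 q) {n : ℕ}
    (hE : FlatMod.IsFinLocFreeOfRank (n + 1) E) (s : Γ(E, ⊤)) (y : P)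
    (hy : ¬SecIdeal.at' s (π y) ≤ IsLocalRing.maximalIdeal (X.presheaf.stalk (π y))) :
    Function.Injective (fun a : P.presheaf.stalk y =>
      a • O1.presheaf.germ ⊤ y trivial (q.app ⊤ (TensorMod.Pullback.unitSec π E s))) := by
  obtain ⟨U, hUa, hxU, e, k, he, hek⟩ := exists_frame hE s (π y) hy
  have hsec : PB.Univ.sec q e k =
      rs O1 (le_top : π ⁻¹ᵁ U ≤ ⊤) (q.app ⊤ (TensorMod.Pullback.unitSec π E s)) := by
    rw [PB.Univ.sec, hek, PB.Sect.pbRes_rs,
      show pbRes π E ((le_refl (π ⁻¹ᵁ U)).trans (π.preimage_mono (le_top : U ≤ ⊤))) s =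
        rs _ (le_top : π ⁻¹ᵁ U ≤ ⊤) (TensorMod.Pullback.unitSec π E s) from rfl]
    exact (TensorMod.HomGlue.rs_app q _ _).symm
  obtain ⟨l, hl⟩ := PB.Univ.exists_mem_locus e hP he y hxU
  have hyU : y ∈ π ⁻¹ᵁ U := hxU
  have hg : O1.presheaf.germ ⊤ y trivial (q.app ⊤ (TensorMod.Pullback.unitSec π E s)) =
      O1.presheaf.germ (π ⁻¹ᵁ U) y hyU (PB.Univ.sec q e k) := by
    rw [hsec, germ_rs]
  have hgenl : Function.Injective (fun a : P.presheaf.stalk y =>
      a • O1.presheaf.germ (PB.Univ.locus q e l) y hl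
        (rs O1 (PB.Univ.locus_le (q := q) e l) (PB.Univ.sec q e l))) := by
    intro a a' haa
    exact (bijective_smul_of_span (PB.Univ.invertible hP) (span_germ (PB.Univ.isGen_locus (q := q) e l) hl)).1 haa
  have hcoef : O1.presheaf.germ (π ⁻¹ᵁ U) y hyU (PB.Univ.sec q e k) =
      P.presheaf.germ _ y hl (PB.Univ.coef (q := q) e l k) •
        O1.presheaf.germ (PB.Univ.locus q e l) y hl
          (rs O1 (PB.Univ.locus_le (q := q) e l) (PB.Univ.sec q e l)) := by
    rw [← Mero.germ_smul, PB.Univ.coef_spec, germ_rs]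
  suffices hreg : IsLeftRegular (P.presheaf.germ _ y hl (PB.Univ.coef (q := q) e l k)) by
    intro a a' haa
    simp only [hg, hcoef, smul_smul] at haa
    have := hgenl haa
    exact hreg (by simpa [mul_comm] using this)
  obtain ⟨z, rfl⟩ : y ∈ Set.range (PB.Univ.chart hUa e hP he l) := by
    rw [PB.Univ.range_chart]; exact hl
  haveI := PB.Univ.isOpenImmersion_chart hUa e hP he l
  have hst : Function.Injective ((PB.Univ.chart hUa e hP he l).stalkMap z).hom :=
    (ConcreteCategory.bijective_of_isIso ((PB.Univ.chart hUa e hP he l).stalkMap z)).1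
  have hcoord : ((PB.Univ.chart hUa e hP he l).stalkMap z).hom
      (P.presheaf.germ _ _ hl (PB.Univ.coef (q := q) e l k)) =
      (PB.Univ.Std U l).presheaf.germ ⊤ z trivial (PB.Univ.coord (U := U) l k) := by
    rw [← PB.Univ.chart_coef hUa e hP he l k, Scheme.Hom.germ_stalkMap_apply, Scheme.Hom.appLE,
      ConcreteCategory.comp_apply, TopCat.Presheaf.germ_res_apply]
  suffices h0 : IsLeftRegular ((PB.Univ.Std U l).presheaf.germ ⊤ z trivial (PB.Univ.coord (U := U) l k)) by
    rw [← hcoord] at h0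
    intro a a' haa
    refine hst (h0 ?_)
    show _ * _ = _ * _
    rw [← map_mul, ← map_mul]
    exact congrArg _ haa
  letI := TopCat.Presheaf.algebra_section_stalk (PB.Univ.Std U l).presheaf (⟨z, trivial⟩ : (⊤ : (PB.Univ.Std U l).Opens))
  have hloc := (isAffineOpen_top (PB.Univ.Std U l)).isLocalization_stalk ⟨z, trivial⟩
  by_cases hkl : k = l
  · rw [PB.Univ.coord, dif_pos hkl, map_one]
    exact isRegular_one.left
  have hX : IsRegular (PB.Univ.coord (U := U) l k) := by
    rw [PB.Univ.coord, dif_neg hkl]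
    have h1 : IsRegular (MvPolynomial.X ⟨k, hkl⟩ : MvPolynomial (PB.Var l) Γ(X, U)) :=
      MvPolynomial.isRegular_X
    have hb : Function.Bijective (PB.Univ.fn (U := U) l) :=
      ConcreteCategory.bijective_of_isIso
        (Scheme.ΓSpecIso (CommRingCat.of (MvPolynomial (PB.Var l) Γ(X, U)))).inv
    refine isRegular_iff_mem_nonZeroDivisors.2 ?_
    have h2 := isRegular_iff_mem_nonZeroDivisors.1 h1
    rw [mem_nonZeroDivisors_iff_right] at h2 ⊢
    intro w hw
    obtain ⟨w, rfl⟩ := hb.2 w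
    rw [← map_mul] at hw
    rw [h2 w (hb.1 (hw.trans (map_zero _).symm)), map_zero]
  have := IsLocalization.map_nonZeroDivisors_le
    ((isAffineOpen_top (PB.Univ.Std U l)).primeIdealOf ⟨z, trivial⟩).asIdeal.primeCompl
    ((PB.Univ.Std U l).presheaf.stalk z)
    (Submonoid.mem_map.2 ⟨_, isRegular_iff_mem_nonZeroDivisors.1 hX, rfl⟩)
  exact (isRegular_iff_mem_nonZeroDivisors.2 this).left

end Groth.Agent.Lib.Cyc.CH.SecNZD
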