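import Groth.Agent.Lib.QCAlgPush.Basic
import Groth.Agent.Lib.SymAlg.Sections
import Groth.Agent.Lib.ClSub.Basis
import Mathlib.Algebra.TrivSqZeroExt.Basic

/-!
# Morphisms of relative spectra on functions, and closed immersions of vector bundles
-/

set_option autoImplicit false
set_option linter.style.haveILetI false
universe u

open CategoryTheory CategoryTheory.Limits AlgebraicGeometry TopologicalSpace Opposite

noncomputable section

namespace Groth.Agent.Lib.Cyc.CH.SpecGamma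

open Groth.Agent.Lib

variable {S : Scheme.{u}} {A B : RelSpec.QCAlg S}

theorem preimage_eq (φ : A ⟶ B) (U : S.Opens) :
    RelSpec.QCAlg.specMap φ ⁻¹ᵁ (A.π ⁻¹ᵁ U) = B.π ⁻¹ᵁ U := by
  rw [← Scheme.Hom.comp_preimage, RelSpec.QCAlg.specMap_π]

theorem gammaAff_specMap (φ : A ⟶ B) {U : S.Opens} (hU : IsAffineOpen U) :
    (RelSpec.QCAlg.specMap φ).appLE (A.π ⁻¹ᵁ U) (B.π ⁻¹ᵁ U) (preimage_eq φ U).ge ≫ B.gammaAff U hU =
      A.gammaAff U hU ≫ φ.hom.app (op U) := by
  rw [RelSpec.QCAlg.gammaAff, RelSpec.QCAlg.gammaAff, Category.assoc, Scheme.Hom.appLE_comp_appLE_assoc]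
  have key : ∀ (k : Spec (B.presheaf.obj (op U)) ⟶ A.spec) (e : ⊤ ≤ k ⁻¹ᵁ (A.π ⁻¹ᵁ U)),
      k = Spec.map (φ.hom.app (op U)) ≫ A.ι U hU →
      k.appLE (A.π ⁻¹ᵁ U) ⊤ e ≫ (Scheme.ΓSpecIso _).hom =
        (A.ι U hU).appLE (A.π ⁻¹ᵁ U) ⊤ (A.top_le_preimage U hU) ≫ (Scheme.ΓSpecIso _).hom ≫ φ.hom.app (op U) := by
    rintro k e rfl
    rw [← Scheme.Hom.appLE_comp_appLE (Spec.map (φ.hom.app (op U))) (A.ι U hU) (A.π ⁻¹ᵁ U) ⊤ ⊤
      (A.top_le_preimage U hU) le_top, Category.assoc, ← Scheme.ΓSpecIso_naturality]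
    congr 2
  exact key _ _ (RelSpec.QCAlg.ι_specMap U hU φ)

/-- The identification of functions is natural in the algebra. -/
theorem gammaIso_inv_specMap (φ : A ⟶ B) {U : S.Opens} (hU : IsAffineOpen U) (a : A.presheaf.obj (op U)) :
    (RelSpec.QCAlg.specMap φ).appLE (A.π ⁻¹ᵁ U) (B.π ⁻¹ᵁ U) (preimage_eq φ U).ge
        ((QCAlgPush.gammaIso A).inv.hom.app (op U) a) =
      (QCAlgPush.gammaIso B).inv.hom.app (op U) (φ.hom.app (op U) a) := by
  haveI := RelSpecBasics.Gamma.isIso_gammaAff B U hU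
  refine (ConcreteCategory.bijective_of_isIso (B.gammaAff U hU)).1 ?_
  have hA : A.gammaAff U hU ((QCAlgPush.gammaIso A).inv.hom.app (op U) a) = a := by
    rw [← A.gammaMap_app U hU]
    exact congr(($((QCAlgPush.gammaIso A).inv_hom_id)).hom.app (op U) a)
  have hB : B.gammaAff U hU ((QCAlgPush.gammaIso B).inv.hom.app (op U) (φ.hom.app (op U) a)) =
      φ.hom.app (op U) a := by
    rw [← B.gammaMap_app U hU]
    exact congr(($((QCAlgPush.gammaIso B).inv_hom_id)).hom.app (op U) (φ.hom.app (op U) a))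
  rw [hB]
  exact (ConcreteCategory.congr_hom (gammaAff_specMap φ hU) _).trans (congrArg (φ.hom.app (op U)) hA)

/-- A closed immersion of relative spectra is surjective on affine sections. -/
theorem surjective_app (φ : A ⟶ B) [IsClosedImmersion (RelSpec.QCAlg.specMap φ)] {U : S.Opens}
    (hU : IsAffineOpen U) : Function.Surjective (φ.hom.app (op U)) := by
  haveI : IsClosedImmersion (Spec.map (φ.hom.app (op U))) :=
    MorphismProperty.of_isPullback (P := @IsClosedImmersion) (SymAlg.Sections.isPullback_chart φ U hU) inferInstance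
  intro a
  obtain ⟨b, hb⟩ := (IsClosedImmersion.isAffine_surjective_of_isAffine (Spec.map (φ.hom.app (op U)))).2
    ((Scheme.ΓSpecIso _).inv a)
  refine ⟨(Scheme.ΓSpecIso _).hom b, ?_⟩
  rw [← ConcreteCategory.comp_apply, ← Scheme.ΓSpecIso_naturality, ConcreteCategory.comp_apply, hb,
    ← ConcreteCategory.comp_apply, Iso.inv_hom_id]
  rfl

/-- A module map whose symmetric algebra map is surjective is an epimorphism. -/
theorem epi_of_closedImmersion {E F : S.Modules} [E.IsQuasicoherent] [F.IsQuasicoherent]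
    {j : E ⟶ A.toModule} {k : F ⟶ B.toModule} (hA : RelSpec.IsSymAlg E A j) (hB : RelSpec.IsSymAlg F B k)
    (φ : A ⟶ B) [IsClosedImmersion (RelSpec.QCAlg.specMap φ)] (d : E ⟶ F)
    (hφ : j ≫ RelSpec.QCAlg.Hom.toModuleMap φ = d ≫ k) : Epi d := by
  refine ClSub.Basis.epi_of_surjective_affine d fun U y => ?_
  let R := Γ(S, U.1)
  let dl : Γ(E, U.1) →ₗ[R] Γ(F, U.1) :=
    { toFun := fun m => d.app U.1 m
      map_add' := map_add _
      map_smul' := fun r m => d.app_smul r m }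
  let Q := Γ(F, U.1) ⧸ LinearMap.range dl
  letI : Module Rᵐᵒᵖ Q := Module.compHom Q ((RingHom.id R).fromOpposite mul_comm)
  haveI : IsCentralScalar R Q := ⟨fun r m => rfl⟩
  let toT : Γ(F, U.1) →ₗ[R] TrivSqZeroExt R Q :=
    (TrivSqZeroExt.inrHom R Q).comp (LinearMap.range dl).mkQ
  let ev : SymmetricAlgebra R Γ(F, U.1) →+* TrivSqZeroExt R Q := (SymmetricAlgebra.lift toT).toRingHom
  let Φ : SymmetricAlgebra R Γ(E, U.1) →+* SymmetricAlgebra R Γ(F, U.1) :=
    SymAlg.Loc.map (RingHom.id R) (AddMonoidHom.mk' (fun m => d.app U.1 m) (map_add _)) fun r m => d.app_smul r m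
  have hcomm : (SymAlg.Sections.cmp B k U.1).comp Φ = (φ.hom.app (op U.1)).hom.comp (SymAlg.Sections.cmp A j U.1) :=
    SymAlg.Loc.ringHom_ext (fun r => by
        rw [RingHom.comp_apply, RingHom.comp_apply, SymAlg.Sections.cmp_algebraMap, SymAlg.Loc.map_algebraMap,
          RingHom.id_apply, SymAlg.Sections.cmp_algebraMap]
        exact congr($(NatTrans.congr_app φ.comm (op U.1)) r).symm)
      (fun m => by
        rw [RingHom.comp_apply, RingHom.comp_apply, SymAlg.Sections.cmp_ι, SymAlg.Loc.map_ι,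
          SymAlg.Sections.cmp_ι]
        exact congr(Scheme.Modules.Hom.app $hφ U.1 m).symm)
  have hzero : ∀ z, TrivSqZeroExt.snd (ev (Φ z)) = 0 := fun z => by
    induction z using SymmetricAlgebra.induction with
    | algebraMap r =>
      rw [SymAlg.Loc.map_algebraMap, RingHom.id_apply]
      show TrivSqZeroExt.snd (SymmetricAlgebra.lift toT (algebraMap R _ r)) = 0
      rw [AlgHom.commutes]
      exact TrivSqZeroExt.snd_inl Q r
    | ι m =>
      rw [SymAlg.Loc.map_ι]
      show TrivSqZeroExt.snd (SymmetricAlgebra.lift toT (SymmetricAlgebra.ι R _ (d.app U.1 m))) = 0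
      rw [SymmetricAlgebra.lift_ι_apply]
      show (LinearMap.range dl).mkQ (d.app U.1 m) = 0
      exact (Submodule.Quotient.mk_eq_zero _).2 ⟨m, rfl⟩
    | mul a b ha hb => rw [map_mul, map_mul, TrivSqZeroExt.snd_mul, ha, hb, smul_zero, smul_zero, add_zero]
    | add a b ha hb => rw [map_add, map_add, TrivSqZeroExt.snd_add, ha, hb, add_zero]
  obtain ⟨x, hx⟩ := surjective_app φ U.2 (k.app U.1 y)
  obtain ⟨z, rfl⟩ := (SymAlg.Sections.cmp_bijective hA U.2).2 x
  have h1 : SymmetricAlgebra.ι R Γ(F, U.1) y = Φ z := (SymAlg.Sections.cmp_bijective hB U.2).1 (by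
    rw [SymAlg.Sections.cmp_ι, ← hx]
    exact (DFunLike.congr_fun hcomm z).symm)
  have h2 := hzero z
  rw [← h1] at h2
  have h3 : (LinearMap.range dl).mkQ y = 0 := by
    refine Eq.trans ?_ h2
    show _ = TrivSqZeroExt.snd (SymmetricAlgebra.lift toT (SymmetricAlgebra.ι R _ y))
    rw [SymmetricAlgebra.lift_ι_apply]
    rfl
  obtain ⟨m, hm⟩ := (Submodule.Quotient.mk_eq_zero _).1 h3
  exact ⟨m, hm⟩

end Groth.Agent.Lib.Cyc.CH.SpecGamma
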