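import Groth.Agent.Lib.Cyc.CH.SpecGamma
import Groth.Agent.Lib.TensorMod.HomGlue

/-!
# Morphisms into relative spectra as algebra maps
-/

set_option autoImplicit false
set_option linter.style.haveILetI false
universe u

open CategoryTheory CategoryTheory.Limits AlgebraicGeometry TopologicalSpace Opposite

noncomputable section

namespace Groth.Agent.Lib.Cyc.CH.SpecHom

open Groth.Agent.Lib TensorMod.Gen TensorMod.Dual

variable {X : Scheme.{u}}

section Scale

variable {B C : RelSpec.QCAlg X}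

/-- Multiplication by a global element. -/
def scale (B : RelSpec.QCAlg X) (c : B.presheaf.obj (op ⊤)) : B.toModule ⟶ B.toModule :=
  ⟨letI := B.moduleSect
   PresheafOfModules.homMk
    { app := fun U => AddCommGrpCat.ofHom
        (show B.presheaf.obj U →+ B.presheaf.obj U from
          AddMonoidHom.mulLeft (B.presheaf.map (homOfLE (le_top : U.unop ≤ ⊤)).op c : B.presheaf.obj U))
      naturality := fun U V i => by
        ext m
        show (B.presheaf.map (homOfLE (le_top : V.unop ≤ ⊤)).op c : B.presheaf.obj V) *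
            B.presheaf.map i (show B.presheaf.obj U from m) =
          B.presheaf.map i ((B.presheaf.map (homOfLE (le_top : U.unop ≤ ⊤)).op c : B.presheaf.obj U) *
            (show B.presheaf.obj U from m))
        rw [map_mul, ← CommRingCat.comp_apply (B.presheaf.map _) (B.presheaf.map i), ← Functor.map_comp]
        rfl }
    fun U r m => by
      show (B.presheaf.map (homOfLE (le_top : U.unop ≤ ⊤)).op c : B.presheaf.obj U) *
          (B.str.app U r * (show B.presheaf.obj U from m)) =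
        B.str.app U r * ((B.presheaf.map (homOfLE (le_top : U.unop ≤ ⊤)).op c : B.presheaf.obj U) *
          (show B.presheaf.obj U from m))
      ring⟩

theorem scale_app (c : B.presheaf.obj (op ⊤)) (U : X.Opens) (m : B.presheaf.obj (op U)) :
    (scale B c).app U m = (B.presheaf.map (homOfLE (le_top : U ≤ ⊤)).op c : B.presheaf.obj (op U)) * m := rfl

theorem scale_one : scale B 1 = 𝟙 _ := by
  refine Scheme.Modules.hom_ext _ _ fun U => ?_
  ext m
  show (B.presheaf.map (homOfLE (le_top : U ≤ ⊤)).op 1 : B.presheaf.obj (op U)) *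
    (show B.presheaf.obj (op U) from m) = _
  rw [map_one, one_mul]
  rfl

theorem scale_comp (a b : B.presheaf.obj (op ⊤)) : scale B a ≫ scale B b = scale B (b * a) := by
  refine Scheme.Modules.hom_ext _ _ fun U => ?_
  ext m
  show (B.presheaf.map (homOfLE (le_top : U ≤ ⊤)).op b : B.presheaf.obj (op U)) *
    ((B.presheaf.map (homOfLE (le_top : U ≤ ⊤)).op a : B.presheaf.obj (op U)) *
      (show B.presheaf.obj (op U) from m)) = _
  rw [← mul_assoc, ← map_mul]
  rfl

theorem scale_comm (f : B ⟶ C) (c : B.presheaf.obj (op ⊤)) :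
    scale B c ≫ RelSpec.QCAlg.Hom.toModuleMap f =
      RelSpec.QCAlg.Hom.toModuleMap f ≫ scale C (f.hom.app (op ⊤) c) := by
  refine Scheme.Modules.hom_ext _ _ fun U => ?_
  ext m
  show f.hom.app (op U) ((B.presheaf.map (homOfLE (le_top : U ≤ ⊤)).op c : B.presheaf.obj (op U)) *
      (show B.presheaf.obj (op U) from m)) =
    (C.presheaf.map (homOfLE (le_top : U ≤ ⊤)).op (f.hom.app (op ⊤) c) : C.presheaf.obj (op U)) *
      f.hom.app (op U) (show B.presheaf.obj (op U) from m)
  rw [map_mul]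
  exact congrArg (· * _) (ConcreteCategory.congr_hom (f.hom.naturality (homOfLE (le_top : U ≤ ⊤)).op) c)

/-- Maps out of the structure sheaf agree as soon as they do at one. -/
theorem unit_ext {M : X.Modules} {φ φ' : Coh.structureModule X ⟶ M}
    (h : φ.app ⊤ (one X ⊤) = φ'.app ⊤ (one X ⊤)) : φ = φ' := by
  refine Scheme.Modules.hom_ext _ _ fun U => ?_
  ext a
  refine (app_eq_smul φ a).trans (Eq.trans ?_ (app_eq_smul φ' a).symm)
  rw [← rs_app_one φ (le_top : U ≤ ⊤), ← rs_app_one φ' (le_top : U ≤ ⊤), h]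

theorem unit_hom_ext {f g : RelSpec.QCAlg.unit X ⟶ B} : f = g := by
  refine RelSpec.QCAlg.hom_ext ?_
  have h1 := f.comm
  have h2 := g.comm
  simp only [RelSpec.QCAlg.unit, Category.id_comp] at h1 h2
  exact h1.trans h2.symm

end Scale

section Hom

theorem isAffineHom_specMap {A B : RelSpec.QCAlg X} (φ : A ⟶ B) :
    IsAffineHom (RelSpec.QCAlg.specMap φ) := by
  choose U hU hx _hle using fun x : A.spec =>
    exists_isAffineOpen_mem_and_subset (X := X) (x := A.π x) (U := ⊤) trivial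
  let 𝒰 : A.spec.OpenCover :=
    { I₀ := A.spec
      X := fun x => Spec (A.presheaf.obj (op (U x)))
      f := fun x => A.ι (U x) (hU x)
      mem₀ := by
        rw [Scheme.presieve₀_mem_precoverage_iff]
        exact ⟨fun x => ⟨x, (A.π_preimage (U x) (hU x)).le (hx x)⟩, fun x => inferInstance⟩ }
  refine IsZariskiLocalAtTarget.of_openCover (P := @IsAffineHom) 𝒰 fun x => ?_
  show IsAffineHom (pullback.snd (RelSpec.QCAlg.specMap φ) (A.ι (U x) (hU x)))
  rw [← (SymAlg.Sections.isPullback_chart φ (U x) (hU x)).isoPullback_inv_snd]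
  infer_instance

variable {T T' : Scheme.{u}} {A : RelSpec.QCAlg X} (g : T ⟶ X) [QuasiCompact g] [QuasiSeparated g]

/-- The algebra map of a morphism into a relative spectrum. -/
def hom (h : T ⟶ A.spec) (w : h ≫ A.π = g) : A ⟶ RelSpec.QCAlg.directImage g :=
  (QCAlgPush.gammaIso A).inv ≫ QCAlgPush.ofHom A.π g h w

theorem hom_injective {h₁ h₂ : T ⟶ A.spec} {w₁ : h₁ ≫ A.π = g} {w₂ : h₂ ≫ A.π = g}
    (e : hom g h₁ w₁ = hom g h₂ w₂) : h₁ = h₂ :=
  QCAlgPush.ofHom_injective ((cancel_epi (QCAlgPush.gammaIso A).inv).1 e)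

theorem hom_congr {h₁ h₂ : T ⟶ A.spec} {w₁ : h₁ ≫ A.π = g} {w₂ : h₂ ≫ A.π = g} (e : h₁ = h₂) :
    hom g h₁ w₁ = hom g h₂ w₂ := by
  subst e
  rfl

theorem exists_hom (φ : A ⟶ RelSpec.QCAlg.directImage g) :
    ∃ (h : T ⟶ A.spec) (w : h ≫ A.π = g), hom g h w = φ := by
  obtain ⟨h, w, e⟩ := QCAlgPush.ofHom_surjective (f := A.π) ((QCAlgPush.gammaIso A).hom ≫ φ)
  exact ⟨h, w, by rw [hom, e, Iso.inv_hom_id_assoc]⟩

theorem hom_comp (h : T ⟶ A.spec) (w : h ≫ A.π = g) (g' : T' ⟶ X) [QuasiCompact g'] [QuasiSeparated g']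
    (k : T' ⟶ T) (w' : k ≫ g = g') :
    hom g' (k ≫ h) (by rw [Category.assoc, w, w']) = hom g h w ≫ QCAlgPush.ofHom g g' k w' := by
  exact ((Category.assoc _ _ _).trans
    (congrArg ((QCAlgPush.gammaIso A).inv ≫ ·) (QCAlgPush.ofHom_comp h w k w'))).symm

/-- The algebra map of a map of relative spectra. -/
theorem hom_specMap {E : X.Modules} [E.IsQuasicoherent] {B : RelSpec.QCAlg X} {j : E ⟶ A.toModule}
    (hA : RelSpec.IsSymAlg E A j) (φ : A ⟶ B) :
    hom B.π (RelSpec.QCAlg.specMap φ) (RelSpec.QCAlg.specMap_π φ) = φ ≫ (QCAlgPush.gammaIso B).inv := by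
  refine (hA _ (j ≫ RelSpec.QCAlg.Hom.toModuleMap (φ ≫ (QCAlgPush.gammaIso B).inv))).unique ?_ rfl
  refine SymAlg.Main.module_hom_ext _ fun U m => ?_
  show ((QCAlgPush.gammaIso A).inv.hom ≫
      AffAlg.algHom A.π B.π (RelSpec.QCAlg.specMap φ) (RelSpec.QCAlg.specMap_π φ)).app (op U.toOpens)
      (j.app U.toOpens m) = (QCAlgPush.gammaIso B).inv.hom.app (op U.toOpens)
        (φ.hom.app (op U.toOpens) (j.app U.toOpens m))
  rw [← SpecGamma.gammaIso_inv_specMap φ U.2, NatTrans.comp_app, CommRingCat.comp_apply, AffAlgBij.algHom_app]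
  rfl

theorem hom_comp_specMap {E : X.Modules} [E.IsQuasicoherent] {B : RelSpec.QCAlg X} {j : E ⟶ A.toModule}
    (hA : RelSpec.IsSymAlg E A j) (φ : A ⟶ B) (h : T ⟶ B.spec) (w : h ≫ B.π = g) :
    hom g (h ≫ RelSpec.QCAlg.specMap φ) (by rw [Category.assoc, RelSpec.QCAlg.specMap_π, w]) =
      φ ≫ hom g h w := by
  rw [hom_comp B.π (RelSpec.QCAlg.specMap φ) (RelSpec.QCAlg.specMap_π φ) g h w, hom_specMap hA φ, hom,
    Category.assoc]

end Hom

end Groth.Agent.Lib.Cyc.CH.SpecHom
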