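import Groth.Agent.Lib.Cyc.CH.Split
import Groth.Agent.Lib.Perfect.Top

/-!
# Kernels of surjections of locally free modules and their inverse images
-/

set_option autoImplicit false
set_option linter.style.haveILetI false
universe u

open CategoryTheory CategoryTheory.Limits AlgebraicGeometry Opposite TopologicalSpace
open scoped TensorProduct

noncomputable section

namespace Groth.Agent.Lib.Cyc.CH.SplitPullback

open Groth.Agent.Lib Groth.Agent.Lib.Cyc Modules.StalkModule

/-- A retraction on a stalk pulls back. -/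
theorem exists_retraction_pullback {X Y : Scheme.{u}} (f : X ⟶ Y) {A B : Y.Modules} (σ : A ⟶ B)
    (x : X) (h : ∃ r : B.presheaf.stalk (f x) →ₗ[Y.presheaf.stalk (f x)] A.presheaf.stalk (f x),
      ∀ v, r (stalkMapₗ σ (f x) v) = v) :
    ∃ r : ((Scheme.Modules.pullback f).obj B).presheaf.stalk x →ₗ[X.presheaf.stalk x]
        ((Scheme.Modules.pullback f).obj A).presheaf.stalk x,
      ∀ v, r (stalkMapₗ ((Scheme.Modules.pullback f).map σ) x v) = v := by
  obtain ⟨r, hr⟩ := h
  letI : Algebra (Y.presheaf.stalk (f x)) (X.presheaf.stalk x) := (f.stalkMap x).hom.toAlgebra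
  let eA : (X.presheaf.stalk x ⊗[Y.presheaf.stalk (f x)] A.presheaf.stalk (f x)) ≃ₗ[X.presheaf.stalk x]
      ((Scheme.Modules.pullback f).obj A).presheaf.stalk x :=
    (asIso ((DerivedOX.PullbackStalk.comparison f x).app A)).toLinearEquiv
  let eB : (X.presheaf.stalk x ⊗[Y.presheaf.stalk (f x)] B.presheaf.stalk (f x)) ≃ₗ[X.presheaf.stalk x]
      ((Scheme.Modules.pullback f).obj B).presheaf.stalk x :=
    (asIso ((DerivedOX.PullbackStalk.comparison f x).app B)).toLinearEquiv
  refine ⟨eA.toLinearMap ∘ₗ (LinearMap.baseChange (X.presheaf.stalk x) r) ∘ₗ eB.symm.toLinearMap, ?_⟩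
  intro v
  obtain ⟨t, rfl⟩ := eA.surjective v
  induction t using TensorProduct.induction_on with
  | zero => simp only [map_zero]
  | add p q hp hq => simp only [map_add, hp, hq]
  | tmul c v =>
    have h1 : stalkMapₗ ((Scheme.Modules.pullback f).map σ) x (eA (c ⊗ₜ v)) =
        eB (c ⊗ₜ stalkMapₗ σ (f x) v) :=
      (ConcreteCategory.congr_hom ((DerivedOX.PullbackStalk.comparison f x).naturality σ) (c ⊗ₜ v)).symm
    rw [h1]
    simp only [LinearMap.comp_apply, LinearEquiv.coe_coe, LinearEquiv.symm_apply_apply]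
    exact congrArg eA (by rw [LinearMap.baseChange_tmul, hr])

variable {X : Scheme.{u}} {G F : X.Modules} (q : G ⟶ F) [Epi q]

/-- On stalks the kernel of a surjection onto a locally free module is a direct summand. -/
theorem exists_retraction_kernel {n : ℕ} (hF : FlatMod.IsFinLocFreeOfRank n F) (x : X) :
    ∃ r : G.presheaf.stalk x →ₗ[X.presheaf.stalk x] (kernel q).presheaf.stalk x,
      ∀ v, r (stalkMapₗ (kernel.ι q) x v) = v := by
  have hex : (ShortComplex.mk (kernel.ι q) q (kernel.condition q)).ShortExact :=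
    { exact := ShortComplex.exact_of_f_is_kernel _ (kernelIsKernel q) }
  obtain ⟨hinj, hexact, hsurj⟩ := CurveBundle.Rank.stalk_exact hex x
  dsimp only at hinj hexact hsurj
  obtain ⟨b⟩ := CurveBundle.Coherent.exists_basis_stalk hF x
  haveI := Module.Free.of_basis b
  obtain ⟨sec, hsec⟩ := Module.projective_lifting_property (stalkMapₗ q x) LinearMap.id hsurj
  let ι₀ := stalkMapₗ (kernel.ι q) x
  let pr : G.presheaf.stalk x →ₗ[X.presheaf.stalk x] G.presheaf.stalk x :=
    LinearMap.id - sec ∘ₗ stalkMapₗ q x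
  have hpr : ∀ v, pr v ∈ LinearMap.range ι₀ := fun v => (hexact _).1 (by
    have h0 : stalkMapₗ q x (sec (stalkMapₗ q x v)) = stalkMapₗ q x v := LinearMap.congr_fun hsec _
    simp only [pr, LinearMap.sub_apply, LinearMap.comp_apply, LinearMap.id_apply, map_sub, h0, sub_self])
  let r := (LinearEquiv.ofInjective ι₀ hinj).symm.toLinearMap ∘ₗ pr.codRestrict _ hpr
  refine ⟨r, fun v => (LinearEquiv.ofInjective ι₀ hinj).injective (Subtype.ext ?_)⟩
  simp only [r, LinearMap.comp_apply, LinearEquiv.coe_coe, LinearEquiv.apply_symm_apply]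
  show pr (ι₀ v) = ι₀ v
  simp only [pr, LinearMap.sub_apply, LinearMap.comp_apply, LinearMap.id_apply]
  rw [show stalkMapₗ q x (ι₀ v) = 0 from hexact.apply_apply_eq_zero v, map_zero, sub_zero]

/-- The rank of the kernel. -/
theorem rank_kernel {m n : ℕ} (hG : FlatMod.IsFinLocFreeOfRank (m + n) G)
    (hF : FlatMod.IsFinLocFreeOfRank n F) : FlatMod.IsFinLocFreeOfRank m (kernel q) := by
  intro x
  obtain ⟨U, d, hx, ⟨i⟩⟩ := Perfect.Top.isFinLocFree_kernel q (TensorMod.LocFree.of_rank hG)
    (TensorMod.LocFree.of_rank hF) x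
  obtain ⟨s, hs⟩ := CurveBundle.Coherent.exists_basis_sections i
  let bK := Module.Basis.mk (hs x hx).1 (hs x hx).2.ge
  obtain ⟨bG⟩ := CurveBundle.Coherent.exists_basis_stalk hG x
  obtain ⟨bF⟩ := CurveBundle.Coherent.exists_basis_stalk hF x
  have hex : (ShortComplex.mk (kernel.ι q) q (kernel.condition q)).ShortExact :=
    { exact := ShortComplex.exact_of_f_is_kernel _ (kernelIsKernel q) }
  obtain ⟨hinj, hexact, hsurj⟩ := CurveBundle.Rank.stalk_exact hex x
  dsimp only at hinj hexact hsurj
  haveI := Module.Free.of_basis bF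
  obtain ⟨sec, hsec⟩ := Module.projective_lifting_property (stalkMapₗ q x) LinearMap.id hsurj
  obtain ⟨e, -⟩ := hexact.splitSurjectiveEquiv hinj ⟨sec, hsec⟩
  have h1 := ((bK.prod bF).map e.symm).indexEquiv bG
  obtain rfl : d = m := by
    have h2 := Fintype.card_congr h1
    simp only [Fintype.card_sum, Fintype.card_fin] at h2
    omega
  exact ⟨U, hx, ⟨i⟩⟩

end Groth.Agent.Lib.Cyc.CH.SplitPullback
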