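import Groth.Agent.Lib.Cyc.CH.Comm
import Groth.Agent.Lib.Cyc.CH.BdlBC
import Groth.Agent.Lib.Cyc.FieldDim

/-!
# Chern operators and flat pullback
-/

set_option autoImplicit false
set_option linter.style.haveILetI false
universe u

open CategoryTheory AlgebraicGeometry

noncomputable section

namespace Groth.Agent.Lib.Cyc.CH

open Groth.Agent.Lib Groth.Agent.Lib.Cyc

variable {X Y P P' : Scheme.{u}} {π : P ⟶ X} {π' : P' ⟶ Y} {f : Y ⟶ X} {f' : P' ⟶ P}
  {δP : P → ℤ} {δ : X → ℤ} {δP' : P' → ℤ} {δY : Y → ℤ}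

theorem deltaCompat_of_comm (e : f' ≫ π = π' ≫ f) (hπ : Cyc.DeltaCompat π δP δ)
    (hπ' : Cyc.DeltaCompat π' δP' δY) (hf : Cyc.DeltaCompat f δY δ) :
    Cyc.DeltaCompat f' δP' δP := by
  intro x
  obtain ⟨m, hm, hm'⟩ := Residue.exists_trdegAt (Residue.deltaCompat_comp hπ' hf) x
  obtain ⟨a, ha, ha'⟩ := Residue.exists_trdegAt hπ (f' x)
  rw [← e] at hm
  rw [show (π' ≫ f) x = π (f' x) by rw [← e]; rfl] at hm'
  rw [Residue.trdegAt_comp, ha] at hm
  obtain ⟨b, hb⟩ := Cardinal.lt_aleph0.1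
    (lt_of_le_of_lt (le_add_self.trans_eq hm) (Cardinal.natCast_lt_aleph0 (n := m)))
  refine ⟨b, hb, ?_⟩
  rw [hb] at hm
  have h1 : a + b = m := by exact_mod_cast hm
  omega

section Pull

variable [IsLocallyNoetherian X] [IsLocallyNoetherian P] [IsLocallyNoetherian Y]
  [IsLocallyNoetherian P'] [IsProper π] [IsProper π'] {O1 : P.Modules} {n : ℕ}
  (B : Bdl π O1 n δP δ)

/-- Chern operators commute with flat pullback. -/
theorem Bdl.pull_ch (hsq : IsPullback f' π' π f)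
    (B' : Bdl π' ((Scheme.Modules.pullback f').obj O1) n δP' δY) [Flat f] [Flat f'] {c : ℤ}
    (hc : FP.Main.Shift f δY δ c) (hc' : FP.Main.Shift f' δP' δP c) (j : ℕ) (x : Tot X δ) :
    pull B'.dimX B.dimX f hc (B.ch j x) = B'.ch j (pull B'.dimX B.dimX f hc x) := by
  haveI := B.flat
  haveI := B'.flat
  refine B.intertwine B' _ (pull B'.dimP B.dimP f' hc') (fun z => ?_) (fun z => ?_) j x
  · exact pull_c1 B'.dimP B.dimP f' hc' B.inv z
  · have h1 : FP.Main.Shift (f' ≫ π) δP' δ (c + n) := FibLen.shift_comp f' π δP' δP δ c n hc' B.shift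
    refine (pull_comp B'.dimP B.dimP f' hc' B.dimX π B.shift (f' ≫ π) rfl h1 rfl z).trans ?_
    refine (pull_comp B'.dimP B'.dimX π' B'.shift B.dimX f hc (f' ≫ π) hsq.w.symm h1 ?_ z).symm
    ring

end Pull

end Groth.Agent.Lib.Cyc.CH
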