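import Groth.Agent.Lib.Cyc.CH.Zero
import Groth.Agent.Lib.Cyc.Gys.MulMap
import Groth.Agent.Lib.Cyc.PP.GysPush
import Groth.Agent.Lib.ClSub.Cartier

/-!
# The zero scheme of a section of an invertible module
-/

set_option autoImplicit false
set_option linter.style.haveILetI false
universe u

open CategoryTheory CategoryTheory.Limits AlgebraicGeometry IsLocalRing

noncomputable section

namespace Groth.Agent.Lib.Cyc.CH.ZeroSec

open Groth.Agent.Lib Groth.Agent.Lib.Cyc Groth.Agent.Lib.Modules.StalkModule Groth.Agent.Lib.Cyc.C1K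

/-- The stalkwise ideal of an inverse image of a closed subscheme. -/
theorem ker_fst {X X' D : Scheme.{u}} (f : X' ⟶ X) (i : D ⟶ X) [IsClosedImmersion i]
    (I : ∀ y : X, Ideal (X.presheaf.stalk y)) (hI : ∀ d, RingHom.ker (i.stalkMap d).hom = I (i d))
    (z : (pullback f i : Scheme.{u})) :
    RingHom.ker ((pullback.fst f i).stalkMap z).hom =
      (I (f (pullback.fst f i z))).map (f.stalkMap (pullback.fst f i z)).hom := by
  obtain ⟨U, V, hU, hV, -, -, e⟩ := Ideal.Comap.exists_affine_le_preimage f (pullback.fst f i z)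
    (W := ⊤) trivial (U := ⊤) trivial
  have key : ∀ (y : X) (hy : y ∈ U.1) (d : D), y = i d →
      (i.ker.ideal U).map (X.presheaf.germ U.1 y hy).hom = I y := by
    rintro y hy d rfl
    exact (PP.GysPush.ker_stalkMap_eq i U d hy).symm.trans (hI d)
  have hg : f.appLE U.1 V.1 e ≫ X'.presheaf.germ V.1 (pullback.fst f i z) hV =
      X.presheaf.germ U.1 (f (pullback.fst f i z)) hU ≫ f.stalkMap (pullback.fst f i z) := by
    rw [Scheme.Hom.germ_stalkMap, Scheme.Hom.appLE, Category.assoc, TopCat.Presheaf.germ_res]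
  rw [PP.GysPush.ker_stalkMap_eq (pullback.fst f i) V z hV,
    Scheme.IdealSheafData.ker_fst_of_isClosedImmersion,
    Ideal.Comap.ideal_comap f _ U V e, Ideal.map_map, ← CommRingCat.hom_comp, hg,
    CommRingCat.hom_comp, ← Ideal.map_map, key _ hU (pullback.snd f i z) (PP.GysPush.cond_apply f i z)]

variable {X : Scheme.{u}} {L : X.Modules}

/-- The zero scheme of a section, with its factorisation criterion. -/
theorem exists_zeroScheme (hL : PicF.IsInvertible L) (s : L.presheaf.obj (Opposite.op ⊤)) :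
    ∃ (D : Scheme.{u}) (i : D ⟶ X) (_ : IsClosedImmersion i), Cyc.IsZeroSchemeOf i L s ∧
      ∀ {T : Scheme.{u}} (g : T ⟶ X), (Scheme.Modules.pullback g).map (ClSub.Cartier.ofSection L s) = 0 →
        ∃ h : T ⟶ D, h ≫ i = g := by
  haveI := TensorMod.QCohInv.isQCoh_of_isInvertible hL
  haveI := TensorMod.QCohInv.isQCoh_of_isInvertible (PicLoc.isInvertible_structureModule X)
  have hF := TensorMod.LocFree.of_rank (TensorMod.LocFree.of_isInvertible hL)
  let σ := ClSub.Cartier.ofSection L s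
  let I := Modules.ZeroLocus.idealSheaf σ hF
  have key : ∀ (U : X.affineOpens) (z : X) (hz : z ∈ U.1),
      ∃ (t : L.presheaf.stalk z) (a : X.presheaf.stalk z),
        Submodule.span (X.presheaf.stalk z) {t} = ⊤ ∧ L.presheaf.germ ⊤ z trivial s = a • t ∧
          (I.ideal U).map (X.presheaf.germ U.1 z hz).hom = Ideal.span {a} := by
    intro U z hz
    obtain ⟨t, a, ht, hs⟩ := Gys.MulMap.exists_coeff L s hL z
    exact ⟨t, a, ht, hs, Zero.ideal_stalk σ hL hF U hz (C1.span_one z) ht
      (by rw [Gys.MulMap.ofSection_one, hs])⟩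
  refine ⟨I.subscheme, I.subschemeι, inferInstance, ⟨?_, fun d => ?_⟩,
    fun g hg => (Modules.ZeroLocus.factors_iff σ hF g).2 hg⟩
  · ext z
    obtain ⟨U, hU, hz, -⟩ := exists_isAffineOpen_mem_and_subset (U := ⊤) (x := z) trivial
    obtain ⟨t, a, ht, hst, hI⟩ := key ⟨U, hU⟩ z hz
    rw [I.range_subschemeι, SetLike.mem_coe, Scheme.IdealSheafData.mem_support_iff_of_mem
      (U := ⟨U, hU⟩) hz, Set.mem_setOf_eq, hst]
    have h1 : z ∈ X.zeroLocus (U := U) (I.ideal ⟨U, hU⟩ : Set Γ(X, U)) ↔ a ∈ maximalIdeal _ := by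
      rw [← Ideal.span_singleton_le_iff_mem, ← hI, Ideal.map_le_iff_le_comap,
        Scheme.mem_zeroLocus_iff]
      refine forall_congr' fun f => imp_congr_right fun _ => ?_
      rw [X.mem_basicOpen f z hz, Ideal.mem_comap, mem_maximalIdeal, mem_nonunits_iff]
    rw [h1]
    refine ⟨fun h => ?_, fun h => ?_⟩
    · rw [Submodule.Quotient.mk_eq_zero]
      exact Submodule.smul_mem_smul h trivial
    · by_contra hu
      have hau : IsUnit a := by
        by_contra hn
        exact hu ((mem_maximalIdeal a).2 hn)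
      exact C1Indep.mk_ne_zero hL z (by rw [Submodule.span_singleton_smul_eq hau, ht]) h
  · obtain ⟨U, hU, hz, -⟩ := exists_isAffineOpen_mem_and_subset (U := ⊤) (x := I.subschemeι d) trivial
    obtain ⟨t, a, ht, hst, hI⟩ := key ⟨U, hU⟩ _ hz
    refine ⟨t, a, ht, hst, ?_⟩
    rw [PP.GysPush.ker_stalkMap_eq I.subschemeι ⟨U, hU⟩ d hz, I.ker_subschemeι, hI]

end Groth.Agent.Lib.Cyc.CH.ZeroSec
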