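import Groth.Agent.Lib.Cyc.CH.SecNZD
import Groth.Agent.Lib.Cyc.CH.RegExchange
import Groth.Agent.Lib.Cyc.CH.SplitPullback
import Groth.Agent.Lib.Cyc.CH.ZeroSec
import Groth.Agent.Lib.Cyc.CH.GysFund
import Groth.Agent.Lib.Cyc.CH.SubBundle
import Groth.Agent.Lib.Cyc.CH.ChernDet
import Groth.Agent.Lib.Cyc.Bivar.ChernOp

/-!
# Auxiliary facts for the top Chern class of a section
-/

set_option autoImplicit false
set_option linter.style.haveILetI false
universe u

open CategoryTheory CategoryTheory.Limits AlgebraicGeometry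
open ZarCoh.FlatBC.PullbackSections

noncomputable section

namespace Groth.Agent.Lib.Cyc.CH.TopAux

open Groth.Agent.Lib Groth.Agent.Lib.Cyc Modules.StalkModule
open Groth.Agent.Lib.RefHull.SecHom (sec_ext)

section Ideals

variable {R S : Type u} [CommRing R] [CommRing S]

theorem map_le_maximal_iff [IsLocalRing R] [IsLocalRing S] (φ : R →+* S) [IsLocalHom φ] (I : Ideal R) :
    I.map φ ≤ IsLocalRing.maximalIdeal S ↔ I ≤ IsLocalRing.maximalIdeal R := by
  rw [Ideal.map_le_iff_le_comap, IsLocalRing.maximalIdeal_comap φ]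

theorem sup_eq_of_map_eq (φ : R →+* S) (hφ : Function.Surjective φ) {I J K : Ideal R}
    (hK : RingHom.ker φ = K) (hI : K ≤ I) (h : I.map φ = J.map φ) : I = K ⊔ J := by
  have h1 := Ideal.comap_map_of_surjective φ hφ I
  have h2 := Ideal.comap_map_of_surjective φ hφ J
  rw [h] at h1
  rw [h2, ← RingHom.ker_eq_comap_bot, hK, sup_eq_left.2 hI] at h1
  rw [← h1, sup_comm]

end Ideals

variable {X : Scheme.{u}}

/-- The stalk kernels along a factorisation of closed immersions. -/
theorem ker_of_comp {Z D : Scheme.{u}} {ι : Z ⟶ D} {j : D ⟶ X} [IsClosedImmersion j] {k : Z ⟶ X}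
    (h : ι ≫ j = k) (I : ∀ y : X, Ideal (X.presheaf.stalk y))
    (hk : ∀ z, RingHom.ker (k.stalkMap z).hom = I (k z)) (z : Z) :
    RingHom.ker (ι.stalkMap z).hom = (I (j (ι z))).map (j.stalkMap (ι z)).hom := by
  subst h
  have h1 := hk z
  rw [Scheme.Hom.stalkMap_comp] at h1
  have h2 : (RingHom.ker (ι.stalkMap z).hom).comap (j.stalkMap (ι z)).hom = I (j (ι z)) :=
    (RingHom.comap_ker (ι.stalkMap z).hom (j.stalkMap (ι z)).hom).trans h1
  rw [← h2]
  exact (Ideal.map_comap_of_surjective _ (j.stalkMap_surjective (ι z)) _).symm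

/-- The ideal of a section of an invertible module. -/
theorem at'_line {L : X.Modules} (hL : PicF.IsInvertible L) {s : Γ(L, ⊤)} {x : X}
    {t : L.presheaf.stalk x} {f : X.presheaf.stalk x}
    (ht : Submodule.span (X.presheaf.stalk x) {t} = ⊤) (hs : L.presheaf.germ ⊤ x trivial s = f • t) :
    SecIdeal.at' s x = Ideal.span {f} := by
  let e := LinearEquiv.ofBijective (LinearMap.toSpanSingleton (X.presheaf.stalk x) _ t)
    (bijective_smul_of_span hL ht)
  refine le_antisymm ?_ ((Ideal.span_singleton_le_iff_mem _).2 ⟨e.symm.toLinearMap, ?_⟩)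
  · rintro _ ⟨l, rfl⟩
    show l (L.presheaf.germ ⊤ x trivial s) ∈ _
    rw [hs, map_smul, smul_eq_mul]
    exact Ideal.mul_mem_right _ _ (Ideal.mem_span_singleton_self f)
  · show e.symm (L.presheaf.germ ⊤ x trivial s) = f
    rw [hs, LinearEquiv.symm_apply_eq]
    rfl

/-- A section with zero ideal has zero germ. -/
theorem germ_eq_zero {E : X.Modules} {r : ℕ} (hE : FlatMod.IsFinLocFreeOfRank r E) {s : Γ(E, ⊤)} {x : X}
    (h : SecIdeal.at' s x = ⊥) : E.presheaf.germ ⊤ x trivial s = 0 := by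
  obtain ⟨b⟩ := CurveBundle.Coherent.exists_basis_stalk hE x
  have h1 := (SecIdeal.ofVec_le_iff b _ ⊥).1 h.le
  rwa [Submodule.bot_smul, Submodule.mem_bot] at h1

theorem unitSec_natural {Y : Scheme.{u}} (g : Y ⟶ X) {M N : X.Modules} (φ : M ⟶ N) (s : Γ(M, ⊤)) :
    ((Scheme.Modules.pullback g).map φ).app ⊤ (TensorMod.Pullback.unitSec g M s) =
      TensorMod.Pullback.unitSec g N (φ.app ⊤ s) := by
  have h := DescAlg.PbSec.pbRes_natural g φ (le_refl (g ⁻¹ᵁ (⊤ : X.Opens))) s
  have e1 : ∀ (F : X.Modules) (v : Γ(F, ⊤)),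
      pbRes g F (le_refl (g ⁻¹ᵁ (⊤ : X.Opens))) v = TensorMod.Pullback.unitSec g F v := fun F v => by
    show ((Scheme.Modules.pullback g).obj F).presheaf.map (homOfLE le_rfl).op _ = _
    rw [show (homOfLE (le_refl (g ⁻¹ᵁ (⊤ : X.Opens)))).op = 𝟙 _ from rfl, CategoryTheory.Functor.map_id]
    rfl
  rw [e1, e1] at h
  exact h

/-- An inverse image where the ideal of the section vanishes kills the section. -/
theorem pullback_germ_eq_zero {E : X.Modules} {r : ℕ} (hE : FlatMod.IsFinLocFreeOfRank r E) {Y : Scheme.{u}}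
    (g : Y ⟶ X) (s : Γ(E, ⊤)) (y : Y) (h : SecIdeal.at' s (g y) ≤ RingHom.ker (g.stalkMap y).hom) :
    ((Scheme.Modules.pullback g).obj E).presheaf.germ ⊤ y trivial (TensorMod.Pullback.unitSec g E s) = 0 :=
  germ_eq_zero (TensorMod.LocFree.rank_pullback g hE)
    ((SecIdeal.at'_pullback hE g s y).trans (by rwa [Ideal.map_eq_bot_iff_le_ker]))

/-- The inverse image of the map attached to a section killed there is zero. -/
theorem pullback_ofSection_eq_zero {L : X.Modules} (hL : PicF.IsInvertible L) {Y : Scheme.{u}}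
    (g : Y ⟶ X) (s : Γ(L, ⊤)) (h : ∀ y, SecIdeal.at' s (g y) ≤ RingHom.ker (g.stalkMap y).hom) :
    (Scheme.Modules.pullback g).map (ClSub.Cartier.ofSection L s) = 0 := by
  refine hom_ext_stalkMapₗ fun y => LinearMap.ext_on
    (span_ust g (Coh.structureModule X) y (C1.span_one (g y))) ?_
  rintro _ ⟨v, rfl, rfl⟩
  rw [stalkMapₗ_zero, LinearMap.zero_apply]
  have h1 : C1.one (g y) = (Coh.structureModule X).presheaf.germ ⊤ (g y) trivial (1 : Γ(X, ⊤)) := rfl
  rw [h1, ust_germ]
  refine (stalkMapₗ_germ _ (U := ⊤) trivial _).trans ?_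
  rw [unitSec_natural]
  have h2 : (ClSub.Cartier.ofSection L s).app ⊤ (1 : Γ(X, ⊤)) = s := by
    refine (ClSub.Cartier.ofSection_app L s ⊤ _).trans ?_
    rw [show homOfLE (le_top : (⊤ : X.Opens) ≤ ⊤) = 𝟙 _ from Subsingleton.elim _ _, op_id,
      CategoryTheory.Functor.map_id]
    exact one_smul _ _
  rw [h2]
  exact pullback_germ_eq_zero (TensorMod.LocFree.of_isInvertible hL) g s y (h y)

/-- The section of the kernel under a section killed by the surjection. -/
theorem exists_kernel_section {Y : Scheme.{u}} (g : Y ⟶ X) {G F : X.Modules} (q : G ⟶ F) [Epi q]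
    [Mono ((Scheme.Modules.pullback g).map (kernel.ι q))] (v : Γ((Scheme.Modules.pullback g).obj G, ⊤))
    (hv : ((Scheme.Modules.pullback g).map q).app ⊤ v = 0) :
    ∃ w, ((Scheme.Modules.pullback g).map (kernel.ι q)).app ⊤ w = v := by
  have hS : (ShortComplex.mk (kernel.ι q) q (kernel.condition q)).ShortExact :=
    { exact := ShortComplex.exact_of_f_is_kernel _ (kernelIsKernel q) }
  haveI : PreservesColimitsOfSize.{0, 0} (Scheme.Modules.pullback g) :=
    (Scheme.Modules.pullbackPushforwardAdjunction g).leftAdjoint_preservesColimits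
  haveI : (Scheme.Modules.pullback g).Additive :=
    (Scheme.Modules.pullbackPushforwardAdjunction g).left_adjoint_additive
  let S := (ShortComplex.mk (kernel.ι q) q (kernel.condition q)).map (Scheme.Modules.pullback g)
  have hex : S.Exact := ShortComplex.exact_of_g_is_cokernel S
    (CokernelCofork.mapIsColimit _ hS.gIsCokernel (Scheme.Modules.pullback g))
  haveI : Mono S.f := ‹_›
  let σ := ClSub.Cartier.ofSection ((Scheme.Modules.pullback g).obj G) v
  have hσ : ∀ (M : Y.Modules) (u : Γ(M, ⊤)), (ClSub.Cartier.ofSection M u).app ⊤ (1 : Γ(Y, ⊤)) = u :=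
    fun M u => by
      refine (ClSub.Cartier.ofSection_app M u ⊤ _).trans ?_
      rw [show homOfLE (le_top : (⊤ : Y.Opens) ≤ ⊤) = 𝟙 _ from Subsingleton.elim _ _, op_id,
        CategoryTheory.Functor.map_id]
      exact one_smul _ _
  have h0 : σ ≫ S.g = 0 := by
    refine hom_ext_stalkMapₗ fun y => LinearMap.ext_on (C1.span_one y) ?_
    rintro _ rfl
    rw [stalkMapₗ_zero, LinearMap.zero_apply, stalkMapₗ_comp, LinearMap.comp_apply,
      Gys.MulMap.ofSection_one, stalkMapₗ_germ]
    refine (congrArg _ ?_).trans (map_zero _)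
    exact hv
  refine ⟨(hex.lift σ h0).app ⊤ (1 : Γ(Y, ⊤)), ?_⟩
  have h1 := congr(Scheme.Modules.Hom.app $(hex.lift_f σ h0) ⊤ (1 : Γ(Y, ⊤)))
  exact (Eq.trans (by rfl) h1).trans (hσ _ v)

section Chern

variable {δ : X → ℤ}

/-- The first Chern operator of an invertible module. -/
theorem chern_line [IsLocallyNoetherian X] (hX : Cyc.IsSetup X δ) {L : X.Modules} (hL : PicF.IsInvertible L)
    (hr : FlatMod.IsFinLocFreeOfRank 1 L) (x : Tot X δ) :
    Bivar.chern hX hr 1 x = c1 δ hX.2.2 hL x := by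
  obtain ⟨A⟩ := (Filt.singleton hL).nonempty_detAtlas
  rw [(Bivar.isChern_chern hX hr).ch_one hX hr A]
  exact congrArg (fun f : AddMonoid.End (Tot X δ) => f x)
    (c1_congr hX.2.2 _ _ (TensorMod.Basic.rightUnit L))

theorem pb_injective [IsLocallyNoetherian X] {P : Scheme.{u}} [IsLocallyNoetherian P] {π : P ⟶ X} [IsProper π]
    {O1 : P.Modules} {n : ℕ} {δP : P → ℤ} (B : Bdl π O1 n δP δ) {a b : Tot X δ} (h : B.pb a = B.pb b) :
    a = b := by
  classical
  have h1 := B.inj (a := fun i : Fin (n + 1) => if i = 0 then a - b else 0) (by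
    rw [Finset.sum_eq_single 0 (fun i _ hi => by rw [if_neg hi, map_zero]) (fun h => absurd (Finset.mem_univ 0) h)]
    rw [if_pos rfl, map_sub, sub_eq_zero]
    exact h) 0
  rw [if_pos rfl] at h1
  exact sub_eq_zero.1 h1

end Chern

/-- A point on which some nonzerodivisor vanishes has a proper generization. -/
theorem exists_generization [IsLocallyNoetherian X] {y : X} {f : X.presheaf.stalk y}
    (hf : f ∈ IsLocalRing.maximalIdeal (X.presheaf.stalk y)) (hreg : ∀ b, b * f = 0 → b = 0) :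
    ∃ y' : X, y' ⤳ y ∧ y' ≠ y := by
  obtain ⟨p, hp⟩ := Ideal.nonempty_minimalPrimes (R := X.presheaf.stalk y) (I := ⊥) bot_ne_top
  haveI := Ideal.minimalPrimes_isPrime hp
  have hfp : f ∉ p := fun hfp => Set.disjoint_left.1
    (Ideal.disjoint_nonZeroDivisors_of_mem_minimalPrimes hp) hfp
      (mem_nonZeroDivisors_iff_right.2 hreg)
  refine ⟨X.fromSpecStalk y ⟨p, inferInstance⟩, ?_, fun he => ?_⟩
  · have hr : X.fromSpecStalk y ⟨p, inferInstance⟩ ∈ Set.range (X.fromSpecStalk y) := ⟨_, rfl⟩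
    rw [Scheme.range_fromSpecStalk] at hr
    exact hr
  · have hc : X.fromSpecStalk y (IsLocalRing.closedPoint (X.presheaf.stalk y)) = y :=
      Scheme.fromSpecStalk_closedPoint
    have := (X.fromSpecStalk y).injective (he.trans hc.symm)
    have hI : p = IsLocalRing.maximalIdeal (X.presheaf.stalk y) := congrArg PrimeSpectrum.asIdeal this
    exact hfp (hI ▸ hf)

end Groth.Agent.Lib.Cyc.CH.TopAux
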