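import Groth.Agent.Lib.Cyc.CH.TopAux
import Groth.Agent.Lib.Cyc.CH.BdlExists
import Groth.Agent.Lib.Cyc.CH.PushCh
import Groth.Agent.Lib.Cyc.PP.SubSetup

/-!
# The top Chern class and the zero scheme of a section
-/

set_option autoImplicit false
set_option linter.style.haveILetI false
universe u

open CategoryTheory CategoryTheory.Limits AlgebraicGeometry

noncomputable section

namespace Groth.Agent.Lib.Cyc.CH.TopChern

open Groth.Agent.Lib Groth.Agent.Lib.Cyc Modules.StalkModule

set_option maxHeartbeats 1600000 in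
/-- If the zero scheme of a section has the expected dimension and is regularly cut out at its
top points, it represents the top Chern class. -/
theorem top_chern : ∀ (r : ℕ) {X : Scheme.{u}} [IsLocallyNoetherian X] {δ : X → ℤ} (hX : Cyc.IsSetup X δ)
    (n : ℤ) (_ : ∀ x, δ x ≤ n) {E : X.Modules} (hE : FlatMod.IsFinLocFreeOfRank r E) (s : Γ(E, ⊤))
    {Z : Scheme.{u}} (i : Z ⟶ X) [IsClosedImmersion i]
    (_ : ∀ x, x ∈ Set.range ⇑i ↔ SecIdeal.at' s x ≤ IsLocalRing.maximalIdeal (X.presheaf.stalk x))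
    (_ : ∀ z, RingHom.ker (i.stalkMap z).hom = SecIdeal.at' s (i z))
    (_ : ∀ z, δ (i z) ≤ n - (r : ℤ))
    (_ : ∀ z, δ (i z) = n - (r : ℤ) → ∃ f : Fin r → X.presheaf.stalk (i z),
      RingTheory.Sequence.IsRegular (X.presheaf.stalk (i z)) (List.ofFn f) ∧
        Ideal.span (Set.range f) = SecIdeal.at' s (i z))
    {α : AlgebraicCycle X ℤ} (hα : α ∈ Cyc.Zk X δ n) (_ : ⇑α = Cyc.subschemeFun δ n (𝟙 X))
    {ζ : AlgebraicCycle X ℤ} (hζ : ζ ∈ Cyc.Zk X δ (n - (r : ℤ)))
    (_ : ⇑ζ = Cyc.subschemeFun δ (n - (r : ℤ)) i),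
    Bivar.chern hX hE r (cls δ n α hα) = cls δ (n - (r : ℤ)) ζ hζ := by
  intro r
  induction r with
  | zero =>
    intro X _ δ hX n _ E hE s Z i _ hZ1 hZ2 _ _ α hα eα ζ hζ eζ
    have hat : ∀ x, SecIdeal.at' s x = ⊥ := fun x => by
      obtain ⟨b⟩ := CurveBundle.Coherent.exists_basis_stalk hE x
      rw [SecIdeal.at', SecIdeal.ofVec_eq_span b,
        Set.range_eq_empty (f := fun i => b.repr (E.presheaf.germ ⊤ x trivial s) i), Ideal.span_empty]
    rw [Bivar.chern_zero]
    show cls δ n α hα = _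
    refine cls_congr (by simp) (funext fun x => ?_)
    rw [eα, eζ]
    obtain ⟨z, rfl⟩ : x ∈ Set.range ⇑i := (hZ1 x).2 ((hat x).le.trans bot_le)
    have hinj : Function.Injective (i.stalkMap z).hom := (RingHom.injective_iff_ker_eq_bot _).2 ((hZ2 z).trans (hat _))
    let e : X.presheaf.stalk (i z) ≃+* Z.presheaf.stalk z :=
      RingEquiv.ofBijective (i.stalkMap z).hom ⟨hinj, i.stalkMap_surjective z⟩
    have hset : {a : Z | i a = i z} = {z} := Set.ext fun a =>
      ⟨fun h => Gys.Closed.injective i h, fun h => by rw [Set.mem_singleton_iff.1 h]; rfl⟩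
    simp only [Cyc.subschemeFun, Nat.cast_zero, sub_zero, hset, finsum_mem_singleton]
    rw [show {a : X | (𝟙 X : X ⟶ X) a = i z} = {i z} from rfl, finsum_mem_singleton,
      BCLen.length_eq_of_ringEquiv e]
  | succ m ih =>
    intro X _ δ hX n hn E hE s Z i _ hZ1 hZ2 hZ3 hZ4 α hα eα ζ hζ eζ
    haveI : E.IsQuasicoherent := (CurveBundle.Coherent.isCoh (TensorMod.LocFree.of_rank hE)).1
    obtain ⟨P, π, O1, q, hP, hp, -⟩ := BdlExists.exists_proper E (TensorMod.LocFree.of_rank hE)
    haveI := hp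
    haveI := hP.epi
    obtain ⟨δP, hPs, hδP⟩ := exists_setup π hX
    haveI := hPs.1
    have B := Bdl.of_isProjBundle hX.2.2 hPs.2.2 hδP hP hE
    haveI := B.flat
    have hrel := Fund.hasRelDim B
    have hle : ∀ y, δP y ≤ δ (π y) + (m : ℤ) := fun y => FP.Main.delta_le π hPs.2.2 B.shift y
    have hO := PB.Univ.invertible hP
    have hEP := TensorMod.LocFree.rank_pullback π hE
    -- sections
    set sP : Γ((Scheme.Modules.pullback π).obj E, ⊤) := TensorMod.Pullback.unitSec π E s with hsP
    have hatP : ∀ y, SecIdeal.at' sP y = (SecIdeal.at' s (π y)).map (π.stalkMap y).hom :=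
      fun y => SecIdeal.at'_pullback hE π s y
    set s1 : Γ(O1, ⊤) := q.app ⊤ sP with hs1
    have hs1le : ∀ y, SecIdeal.at' s1 y ≤ SecIdeal.at' sP y := fun y => SecIdeal.at'_le q sP y
    -- kernel
    have hK : FlatMod.IsFinLocFreeOfRank m (kernel q) :=
      SplitPullback.rank_kernel q (m := m) (n := 1) hEP hP.invertible
    -- the divisor
    obtain ⟨D, j, hj, hD, hfac⟩ := ZeroSec.exists_zeroScheme hO s1
    haveI := hj
    haveI : IsLocallyNoetherian D := LocallyOfFiniteType.isLocallyNoetherian j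
    have hDs := PP.SubSetup.isSetup j hPs
    have hjc : Cyc.DeltaCompat j (fun d => δP (j d)) δP := PP.SubSetup.deltaCompat j
    have hcoef : ∀ d, ∃ (t : O1.presheaf.stalk (j d)) (c : P.presheaf.stalk (j d)),
        Submodule.span (P.presheaf.stalk (j d)) {t} = ⊤ ∧ O1.presheaf.germ ⊤ (j d) trivial s1 = c • t ∧
        RingHom.ker (j.stalkMap d).hom = Ideal.span {c} ∧ Ideal.span {c} ≤ SecIdeal.at' sP (j d) := by
      intro d
      obtain ⟨t, c, ht, hs, hker⟩ := hD.2 d
      exact ⟨t, c, ht, hs, hker, TopAux.at'_line hO ht hs ▸ hs1le (j d)⟩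
    haveI : Mono ((Scheme.Modules.pullback j).map (kernel.ι q)) := by
      rw [mono_iff_stalkMapₗ_injective]
      intro d
      obtain ⟨r, hr⟩ := SplitPullback.exists_retraction_pullback j (kernel.ι q) d
        (SplitPullback.exists_retraction_kernel q hP.invertible (j d))
      exact Function.LeftInverse.injective hr
    obtain ⟨s', hs'⟩ := TopAux.exists_kernel_section j q (TensorMod.Pullback.unitSec j _ sP) (by
      rw [TopAux.unitSec_natural]
      refine Groth.Agent.Lib.RefHull.SecHom.sec_ext fun d _ => ?_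
      obtain ⟨t, c, ht, hs, hker, -⟩ := hcoef d
      exact (TopAux.pullback_germ_eq_zero hP.invertible j s1 d
        (by rw [TopAux.at'_line hO ht hs, hker])).trans (map_zero _).symm)
    have hK' := TensorMod.LocFree.rank_pullback j hK
    have hat' : ∀ d, SecIdeal.at' s' d = (SecIdeal.at' sP (j d)).map (j.stalkMap d).hom := by
      intro d
      obtain ⟨r, hr⟩ := SplitPullback.exists_retraction_pullback j (kernel.ι q) d
        (SplitPullback.exists_retraction_kernel q hP.invertible (j d))
      rw [← SecIdeal.at'_pullback hEP j sP d, ← hs', SecIdeal.at', SecIdeal.at', ← stalkMapₗ_germ]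
      exact (SecIdeal.ofVec_eq _ r hr _).symm
    -- the zero scheme upstairs
    let ZP : Scheme.{u} := pullback π i
    let i' : ZP ⟶ P := pullback.fst π i
    let g : ZP ⟶ Z := pullback.snd π i
    haveI : IsClosedImmersion i' := MorphismProperty.pullback_fst _ _ inferInstance
    haveI : IsLocallyNoetherian Z := LocallyOfFiniteType.isLocallyNoetherian i
    haveI : IsLocallyNoetherian ZP := LocallyOfFiniteType.isLocallyNoetherian i'
    have hkerP : ∀ z, RingHom.ker (i'.stalkMap z).hom = SecIdeal.at' sP (i' z) := fun z =>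
      (ZeroSec.ker_fst π i (SecIdeal.at' s) hZ2 z).trans (hatP _).symm
    have hrangeP : ∀ y, y ∈ Set.range ⇑i' ↔ SecIdeal.at' sP y ≤ IsLocalRing.maximalIdeal (P.presheaf.stalk y) :=
      fun y => by
        rw [PP.GysPush.mem_range_fst, hZ1, hatP, TopAux.map_le_maximal_iff]
    have hZPle : ∀ z, δP (i' z) ≤ n - 1 := fun z => by
      obtain ⟨w, hw⟩ := (PP.GysPush.mem_range_fst π i (i' z)).1 ⟨z, rfl⟩
      have h1 := hle (i' z)
      have h2 := hZ3 w
      rw [hw] at h2
      push_cast at h2
      omega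
    -- top points of the inverse image
    have hexch : ∀ d, j d ∈ Set.range ⇑i' → δP (j d) = n - 1 →
        Function.Injective (fun a : P.presheaf.stalk (j d) => a • O1.presheaf.germ ⊤ (j d) trivial s1) ∧
        ∃ f : Fin m → D.presheaf.stalk d, RingTheory.Sequence.IsRegular (D.presheaf.stalk d) (List.ofFn f) ∧
          Ideal.span (Set.range f) = SecIdeal.at' s' d := by
      intro d hd heq
      obtain ⟨w, hw⟩ := (PP.GysPush.mem_range_fst π i (j d)).1 hd
      have h1 := hle (j d)
      have h2 := hZ3 w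
      have h3 : δ (i w) = n - ((m + 1 : ℕ) : ℤ) := by
        rw [hw] at h2 ⊢
        push_cast at h2 ⊢
        omega
      obtain ⟨f0, hf0, hf0'⟩ := hZ4 w h3
      obtain ⟨f, hf, hspan⟩ : ∃ f : Fin (m + 1) → X.presheaf.stalk (π (j d)),
          RingTheory.Sequence.IsRegular (X.presheaf.stalk (π (j d))) (List.ofFn f) ∧
            Ideal.span (Set.range f) = SecIdeal.at' s (π (j d)) := by
        revert f0
        rw [hw]
        exact fun f0 hf0 hf0' => ⟨f0, hf0, hf0'⟩
      obtain ⟨t, c, ht, hs, hker, hcle⟩ := hcoef d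
      haveI : IsNoetherianRing (X.presheaf.stalk (π (j d))) := inferInstance
      have hflat : (π.stalkMap (j d)).hom.Flat := Flat.stalkMap π (j d)
      have hF := RegExchange.isRegular_map (π.stalkMap (j d)).hom hflat hf
      have hFspan : Ideal.span (Set.range ((π.stalkMap (j d)).hom ∘ f)) = SecIdeal.at' sP (j d) := by
        rw [hatP, ← hspan, Ideal.map_span, ← Set.range_comp]
      obtain ⟨b⟩ := CurveBundle.Coherent.exists_basis_stalk hK' d
      choose a ha using fun l : Fin m =>
        j.stalkMap_surjective d (b.repr (((Scheme.Modules.pullback j).obj (kernel q)).presheaf.germ ⊤ d trivial s') l)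
      have hsup : Ideal.span (Set.range ((π.stalkMap (j d)).hom ∘ f)) =
          Ideal.span {c} ⊔ Ideal.span (Set.range a) := by
        rw [hFspan]
        refine TopAux.sup_eq_of_map_eq (j.stalkMap d).hom (j.stalkMap_surjective d) hker hcle ?_
        rw [← hat', SecIdeal.at', SecIdeal.ofVec_eq_span b, Ideal.map_span, ← Set.range_comp]
        exact congrArg Ideal.span (congrArg Set.range (funext fun l => (ha l).symm))
      obtain ⟨hreg, f', hf', hf''⟩ := RegExchange.exists_regular_map (j.stalkMap d).hom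
        (j.stalkMap_surjective d) hF hker hsup
      refine ⟨fun p p' hpp => ?_, f', hf', ?_⟩
      · simp only [hs, smul_smul] at hpp
        have hb := (bijective_smul_of_span hO ht).1 hpp
        exact hreg (by simpa [mul_comm, smul_eq_mul] using hb)
      · rw [hf'', hFspan, hat']
    -- the section is regular elsewhere
    have hregoff : ∀ y, π y ∉ Set.range ⇑i → Function.Injective
        (fun a : P.presheaf.stalk y => a • O1.presheaf.germ ⊤ y trivial s1) := fun y hy =>
      SecNZD.regular hP hE s y fun h => hy ((hZ1 (π y)).2 h)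
    -- dimensions
    have hPk : ∀ y, δP y ≤ n + (m : ℤ) := fun y => (hle y).trans (Int.add_le_add_right (hn _) _)
    have hDk : ∀ d, δP (j d) ≤ n + (m : ℤ) - 1 := by
      intro d
      by_contra hlt
      have heq : δP (j d) = n + (m : ℤ) := by have := hPk (j d); omega
      have hoff : π (j d) ∉ Set.range ⇑i := fun h => by
        obtain ⟨z, hz⟩ := (PP.GysPush.mem_range_fst π i (j d)).2 h
        have := hZPle z
        rw [show i' z = j d from hz] at this
        omega
      obtain ⟨t, c, ht, hs, hker, -⟩ := hcoef d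
      have hcm : c ∈ IsLocalRing.maximalIdeal (P.presheaf.stalk (j d)) :=
        (IsLocalRing.le_maximalIdeal (hker ▸ RingHom.ker_ne_top _))
          (hker ▸ Ideal.mem_span_singleton_self c : c ∈ RingHom.ker (j.stalkMap d).hom)
      have hreg : ∀ b, b * c = 0 → b = 0 := fun b hb => hregoff (j d) hoff (by
        show b • _ = (0 : P.presheaf.stalk (j d)) • _
        rw [hs, smul_smul, hb, zero_smul, zero_smul])
      obtain ⟨y', hy', hne⟩ := TopAux.exists_generization hcm hreg
      have := (hPs.2.2 y' (j d) hy' hne).1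
      have := hPk y'
      omega
    -- the zero scheme inside the divisor
    obtain ⟨ι, hι⟩ := hfac i' (TopAux.pullback_ofSection_eq_zero hO i' s1 fun z =>
      (hs1le _).trans (hkerP z).ge)
    haveI : IsClosedImmersion (ι ≫ j) := by rw [hι]; infer_instance
    haveI : IsClosedImmersion ι := IsClosedImmersion.of_comp ι j
    have hιj : ∀ z, j (ι z) = i' z := fun z => by rw [← Scheme.Hom.comp_apply, hι]
    have hι1 : ∀ d, d ∈ Set.range ⇑ι ↔
        SecIdeal.at' s' d ≤ IsLocalRing.maximalIdeal (D.presheaf.stalk d) := fun d => by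
      rw [hat', TopAux.map_le_maximal_iff, ← hrangeP]
      exact ⟨fun ⟨z, hz⟩ => ⟨z, by rw [← hιj, hz]⟩,
        fun ⟨z, hz⟩ => ⟨z, Gys.Closed.injective j ((hιj z).trans hz)⟩⟩
    have hι2 : ∀ z, RingHom.ker (ι.stalkMap z).hom = SecIdeal.at' s' (ι z) := fun z => by
      rw [hat']
      exact TopAux.ker_of_comp hι (SecIdeal.at' sP) hkerP z
    have hnm : n + (m : ℤ) - 1 - (m : ℤ) = n - 1 := by ring
    -- cycles
    obtain ⟨αP, eαP, hαP⟩ := Fund.exists_fund hPs (n + m) hPk
    obtain ⟨αD, eαD, hαD⟩ := Fund.exists_fund hDs (n + m - 1) hDk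
    have hZs := PP.SubSetup.isSetup i hX
    have hZPs := PP.SubSetup.isSetup i' hPs
    obtain ⟨αZ, eαZ, hαZ⟩ := Fund.exists_fund hZs (n - ((m + 1 : ℕ) : ℤ)) hZ3
    obtain ⟨αZP, eαZP, hαZP⟩ := Fund.exists_fund hZPs (n - 1) hZPle
    let δZ' : ZP → ℤ := fun z => δP (j (ι z))
    have hιc : Cyc.DeltaCompat ι δZ' (fun d => δP (j d)) := PP.SubSetup.deltaCompat (δ := fun d => δP (j d)) ι
    obtain ⟨αZD, eαZD, hαZD⟩ := Fund.exists_fund (PP.SubSetup.isSetup ι hDs) (n - 1)
      (fun z => by show δP (j (ι z)) ≤ _; rw [hιj]; exact hZPle z)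
    have hζD := map_mem (δY := fun d => δP (j d)) ι hαZD
    have eζD := Fund.map_fund hDs (PP.SubSetup.isSetup ι hDs) ι hιc (n - 1)
      (fun z => by show δP (j (ι z)) ≤ _; rw [hιj]; exact hZPle z) αZD eαZD
    -- induction
    have hrec := ih hDs (n + (m : ℤ) - 1) hDk hK' s' ι hι1 hι2
      (fun z => by rw [hιj, hnm]; exact hZPle z)
      (fun z hz => by
        refine (hexch (ι z) ⟨z, (hιj z).symm⟩ (hz.trans hnm)).2)
      hαD eαD (hnm.symm ▸ hζD) (by rw [hnm]; exact eζD)
    -- the classes on the bundle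
    have hfund := GysFund.c1_fund j hO hD hPs (n + m - 1) (fun y => by rw [sub_add_cancel]; exact hPk y)
      hDk (fun d hd => by
        by_cases hoff : π (j d) ∈ Set.range ⇑i
        · have h1 : j d ∈ Set.range ⇑i' := (PP.GysPush.mem_range_fst π i (j d)).2 hoff
          obtain ⟨z, hz⟩ := h1
          have := hZPle z
          rw [hz] at this
          exact (hexch d ⟨z, hz⟩ (by omega)).1
        · exact hregoff (j d) hoff)
      hjc ((sub_add_cancel (n + (m : ℤ)) 1).symm ▸ hαP) (by rw [sub_add_cancel]; exact eαP) hαD eαD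
    have hk1 : cls δP (n + (m : ℤ) - 1 + 1) αP ((sub_add_cancel (n + (m : ℤ)) 1).symm ▸ hαP) =
        cls δP (n + m) αP hαP := cls_congr (by ring) rfl
    rw [hk1] at hfund
    have hpb : B.pb (cls δ n α hα) = cls δP (n + m) αP hαP := by
      refine B.pb_cls hα rfl hαP ?_
      rw [eαP, eα]
      exact (Fund.pullFun_fund hX hPs π m hrel hδP n hn).2.symm
    have hnat : B.pb (Bivar.chern hX hE (m + 1) (cls δ n α hα)) =
        Bivar.chern hPs hEP (m + 1) (B.pb (cls δ n α hα)) :=
      Bivar.pull_chern hX hPs hE hEP π hrel hδP (Iso.refl _) (m + 1) (cls δ n α hα)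
    have hex : (ShortComplex.mk (kernel.ι q) q (kernel.condition q)).ShortExact :=
      { exact := ShortComplex.exact_of_f_is_kernel _ (kernelIsKernel q) }
    have hW := IsChern.whitney hPs (Bivar.isChern_chern hPs hK) (Bivar.isChern_chern hPs hEP)
      (Bivar.isChern_chern hPs hP.invertible) (kernel.ι q) q (kernel.condition q) hex (m + 1)
    refine TopAux.pb_injective B ?_
    rw [hnat, hW, hpb]
    refine (AddMonoidHom.finsetSum_apply (fun l => (Bivar.chern hPs hK l *
      Bivar.chern hPs hP.invertible (m + 1 - l) : AddMonoid.End (Tot P δP)))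
      (Finset.range (m + 1 + 1)) _).trans ?_
    rw [Finset.sum_eq_single m ?_ (fun h => absurd (Finset.mem_range.2 (by omega)) h)]
    swap
    · intro l hl hlm
      have := Finset.mem_range.1 hl
      rcases Nat.lt_or_ge l m with h | h
      · rw [Bivar.chern_eq_zero hPs hP.invertible (show 1 < m + 1 - l by omega), mul_zero]
        rfl
      · rw [Bivar.chern_eq_zero hPs hK (show m < l by omega), zero_mul]
        rfl
    show Bivar.chern hPs hK m (Bivar.chern hPs hP.invertible (m + 1 - m) _) = _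
    rw [show m + 1 - m = 1 by omega, TopAux.chern_line hPs hO, hfund,
      ← Bivar.push_chern hPs hDs hK hK' j hjc (Iso.refl _), hrec,
      push_cls _ hPs.2.2 j hjc (hnm.symm ▸ hζD) rfl (map_mem j (hnm.symm ▸ hζD))]
    -- the pullback of the cycle of `Z`
    have hsq : IsPullback i' g π i := IsPullback.of_hasPullback π i
    have hic : Cyc.DeltaCompat i (fun z => δ (i z)) δ := PP.SubSetup.deltaCompat i
    have hi'c : Cyc.DeltaCompat i' (fun z => δP (i' z)) δP := PP.SubSetup.deltaCompat i'
    haveI : IsProper g := MorphismProperty.of_isPullback hsq inferInstance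
    have hgc : Cyc.DeltaCompat g (fun z => δP (i' z)) (fun z => δ (i z)) :=
      deltaCompat_of_comm hsq.w.symm hic hi'c hδP
    have B' := B.baseChange hsq hZs.2.2 hZPs.2.2 hgc
    haveI := B'.flat
    have hζi : cls δ (n - ((m + 1 : ℕ) : ℤ)) ζ hζ = push hZs.2.2 hX.2.2 i hic
        (cls (fun z => δ (i z)) (n - ((m + 1 : ℕ) : ℤ)) αZ hαZ) := by
      rw [push_cls _ hX.2.2 i hic hαZ rfl (map_mem i hαZ)]
      exact cls_congr rfl (by rw [eζ, Fund.map_fund hX hZs i hic _ hZ3 αZ eαZ])
    rw [hζi]
    refine Eq.trans ?_ (pull_push hX.2.2 hPs.2.2 hZs.2.2 hZPs.2.2 hsq hic hi'c B.shift B'.shift _).symm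
    have hg1 : n - 1 = n - ((m + 1 : ℕ) : ℤ) + (m : ℤ) := by push_cast; ring
    rw [pull_cls hZPs.2.2 hZs.2.2 g B'.shift hαZ hg1 hαZP (by
        rw [eαZP, eαZ, hg1]
        exact (Fund.pullFun_fund hZs hZPs g m (Fund.hasRelDim B') hgc _ hZ3).2.symm),
      push_cls _ hPs.2.2 i' hi'c hαZP rfl (map_mem i' hαZP)]
    refine cls_congr hnm ?_
    rw [Fund.map_fund hPs hZPs i' hi'c (n - 1) hZPle αZP eαZP]
    funext y
    by_cases hy : y ∈ Set.range ⇑j
    · obtain ⟨d, rfl⟩ := hy
      rw [Gys.Closed.map_apply_image, eζD]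
      simp only [Cyc.subschemeFun]
      have hset : {z : ZP | ι z = d} = {z : ZP | i' z = j d} := Set.ext fun z =>
        ⟨fun h => by rw [Set.mem_setOf_eq, ← hιj, show ι z = d from h],
          fun h => Gys.Closed.injective j ((hιj z).trans h)⟩
      rw [hset]
    · rw [Gys.Closed.map_apply_of_not_mem j _ hy]
      simp only [Cyc.subschemeFun]
      have hset : {z : ZP | i' z = y} = ∅ := Set.eq_empty_iff_forall_notMem.2 fun z hz =>
        hy ⟨ι z, (hιj z).trans hz⟩
      rw [hset, finsum_mem_empty, ite_self]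

end Groth.Agent.Lib.Cyc.CH.TopChern
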