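import Groth.Agent.Lib.Cyc.CH.PullExists
import Groth.Agent.Lib.Cyc.Ord
import Groth.Agent.Lib.Cyc.PP.Main
import Groth.Agent.Lib.Cyc.FP.Rat
import Groth.Agent.Lib.Cyc.Gys.C1
import Groth.Agent.Lib.Cyc.C1Indep
import Groth.Prelude.Def_ChowOps
import Mathlib.Algebra.DirectSum.Basic
import Mathlib.Algebra.Group.Hom.End

/-!
# The total Chow group and its homogeneous operators
-/

set_option autoImplicit false
set_option linter.style.haveILetI false
universe u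

open CategoryTheory AlgebraicGeometry
open scoped DirectSum

noncomputable section

namespace Groth.Agent.Lib.Cyc.CH

open Groth.Agent.Lib Groth.Agent.Lib.Cyc

variable {X Y Z : Scheme.{u}}

/-- The Chow groups in all degrees together. -/
abbrev Tot (X : Scheme.{u}) (δ : X → ℤ) : Type u := ⨁ k : ℤ, ChowOps.CH X δ k

section Classes

variable {δ : X → ℤ} {k k' : ℤ}

/-- The class of a `k`-cycle. -/
def cls (δ : X → ℤ) (k : ℤ) (α : AlgebraicCycle X ℤ) (h : α ∈ Cyc.Zk X δ k) : Tot X δ :=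
  DirectSum.of (fun k => ChowOps.CH X δ k) k (ChowOps.cl α h)

theorem cls_congr {α α' : AlgebraicCycle X ℤ} {h : α ∈ Cyc.Zk X δ k} {h' : α' ∈ Cyc.Zk X δ k'}
    (hk : k = k') (e : (α : X → ℤ) = α') : cls δ k α h = cls δ k' α' h' := by
  subst hk
  obtain rfl : α = α' := Function.locallyFinsuppWithin.ext fun x => congrFun e x
  rfl

theorem mem_add {α β : AlgebraicCycle X ℤ} (hα : α ∈ Cyc.Zk X δ k) (hβ : β ∈ Cyc.Zk X δ k) :
    α + β ∈ Cyc.Zk X δ k := (ChowOps.zk X δ k).add_mem hα hβ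

theorem mem_sub {α β : AlgebraicCycle X ℤ} (hα : α ∈ Cyc.Zk X δ k) (hβ : β ∈ Cyc.Zk X δ k) :
    α - β ∈ Cyc.Zk X δ k := (ChowOps.zk X δ k).sub_mem hα hβ

theorem mem_zero : (0 : AlgebraicCycle X ℤ) ∈ Cyc.Zk X δ k := (ChowOps.zk X δ k).zero_mem

theorem mem_zsmul (a : ℤ) {α : AlgebraicCycle X ℤ} (hα : α ∈ Cyc.Zk X δ k) :
    a • α ∈ Cyc.Zk X δ k := (ChowOps.zk X δ k).zsmul_mem hα a

theorem cls_add {α β : AlgebraicCycle X ℤ} (hα : α ∈ Cyc.Zk X δ k) (hβ : β ∈ Cyc.Zk X δ k) :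
    cls δ k (α + β) (mem_add hα hβ) = cls δ k α hα + cls δ k β hβ := by
  rw [cls, cls, cls, ← map_add]
  rfl

theorem cls_sub {α β : AlgebraicCycle X ℤ} (hα : α ∈ Cyc.Zk X δ k) (hβ : β ∈ Cyc.Zk X δ k) :
    cls δ k (α - β) (mem_sub hα hβ) = cls δ k α hα - cls δ k β hβ := by
  rw [cls, cls, cls, ← map_sub]
  rfl

theorem cls_zero : cls δ k (0 : AlgebraicCycle X ℤ) mem_zero = 0 := by
  rw [cls, show ChowOps.cl (0 : AlgebraicCycle X ℤ) mem_zero = (0 : ChowOps.CH X δ k) from rfl, map_zero]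

theorem cls_zsmul (a : ℤ) {α : AlgebraicCycle X ℤ} (hα : α ∈ Cyc.Zk X δ k) :
    cls δ k (a • α) (mem_zsmul a hα) = a • cls δ k α hα := by
  rw [cls, cls, ← map_zsmul]
  rfl

theorem cls_sum {ι : Type*} (s : Finset ι) (a : ι → AlgebraicCycle X ℤ)
    (h : ∀ i, a i ∈ Cyc.Zk X δ k) (hs : ∑ i ∈ s, a i ∈ Cyc.Zk X δ k) :
    cls δ k (∑ i ∈ s, a i) hs = ∑ i ∈ s, cls δ k (a i) (h i) := by
  classical
  induction s using Finset.induction_on with
  | empty => simpa using cls_zero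
  | insert i s hi ih =>
    have hs' : ∑ j ∈ s, a j ∈ Cyc.Zk X δ k := (ChowOps.zk X δ k).sum_mem fun j _ => h j
    rw [Finset.sum_insert (f := fun j => cls δ k (a j) (h j)) hi, ← ih hs']
    exact (cls_congr rfl (by rw [Finset.sum_insert hi])).trans (cls_add (h i) hs')

variable [IsLocallyNoetherian X] (hδ : Cyc.IsDimFun X δ)

include hδ in
theorem cls_eq_zero_iff {α : AlgebraicCycle X ℤ} (hα : α ∈ Cyc.Zk X δ k) :
    cls δ k α hα = 0 ↔ Cyc.RatEquivZero δ k α := by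
  rw [cls, ← (DirectSum.of (fun k => ChowOps.CH X δ k) k).map_zero]
  refine (DirectSum.of_injective (β := fun k => ChowOps.CH X δ k) k).eq_iff.trans ?_
  refine (QuotientAddGroup.eq_zero_iff _).trans ?_
  refine ⟨fun h => ?_, fun h => AddSubgroup.subset_closure h⟩
  exact AddSubgroup.closure_induction (p := fun (a : ↥(ChowOps.zk X δ k)) _ => Cyc.RatEquivZero δ k (a : AlgebraicCycle X ℤ))
    (fun _ ha => ha) (Ord.ratEquivZero_zero δ k) (fun _ _ _ _ => Ord.ratEquivZero_add)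
    (fun _ _ => Ord.ratEquivZero_neg hδ) h

include hδ in
theorem cls_eq_iff {α β : AlgebraicCycle X ℤ} (hα : α ∈ Cyc.Zk X δ k) (hβ : β ∈ Cyc.Zk X δ k) :
    cls δ k α hα = cls δ k β hβ ↔ Cyc.RatEquiv δ k α β := by
  rw [← sub_eq_zero, ← cls_sub, cls_eq_zero_iff hδ]
  rfl

end Classes

variable {δ : X → ℤ} {δY : Y → ℤ} {δZ : Z → ℤ}

/-- Homomorphisms agree as soon as they agree on classes of cycles. -/
theorem hom_ext {M : Type*} [AddCommGroup M] {A B : Tot X δ →+ M}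
    (h : ∀ k α hα, A (cls δ k α hα) = B (cls δ k α hα)) : A = B := by
  refine DirectSum.addHom_ext fun k x => ?_
  obtain ⟨⟨α, hα⟩, rfl⟩ := QuotientAddGroup.mk_surjective x
  exact h k α hα

/-- `A` has degree `c`. -/
def Homog (c : ℤ) (A : Tot X δ →+ Tot Y δY) : Prop :=
  ∀ k α hα, ∃ β hβ, A (cls δ k α hα) = cls δY (k + c) β hβ

/-- The part of degree `m`. -/
def proj (X : Scheme.{u}) (δ : X → ℤ) (m : ℤ) : Tot X δ →+ Tot X δ :=
  (DirectSum.of (fun k => ChowOps.CH X δ k) m).comp (DFinsupp.evalAddMonoidHom m)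

theorem proj_cls (m k : ℤ) (α : AlgebraicCycle X ℤ) (hα : α ∈ Cyc.Zk X δ k) :
    proj X δ m (cls δ k α hα) = if k = m then cls δ k α hα else 0 := by
  simp only [proj, cls, AddMonoidHom.comp_apply]
  by_cases h : k = m
  · subst h
    rw [if_pos rfl]
    exact congrArg _ (DirectSum.of_eq_same _ _)
  · rw [if_neg h]
    refine (congrArg _ ?_).trans (map_zero _)
    exact DirectSum.of_eq_of_ne _ _ _ (Ne.symm h)

theorem exists_rep (m : ℤ) (x : Tot X δ) : ∃ α hα, proj X δ m x = cls δ m α hα := by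
  obtain ⟨⟨α, hα⟩, h⟩ := QuotientAddGroup.mk_surjective (DFinsupp.evalAddMonoidHom m x)
  exact ⟨α, hα, congrArg (DirectSum.of (fun k => ChowOps.CH X δ k) m) h.symm⟩

theorem eq_zero_of_proj {x : Tot X δ} (h : ∀ m, proj X δ m x = 0) : x = 0 :=
  DFinsupp.ext fun m => DirectSum.of_injective (β := fun k => ChowOps.CH X δ k) m
    ((h m).trans (map_zero _).symm)

theorem Homog.proj_comp {c : ℤ} {A : Tot X δ →+ Tot Y δY} (hA : Homog c A) (m : ℤ) :
    (proj Y δY (m + c)).comp A = A.comp (proj X δ m) := hom_ext fun k α hα => by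
  obtain ⟨β, hβ, e⟩ := hA k α hα
  rw [AddMonoidHom.comp_apply, AddMonoidHom.comp_apply, e, proj_cls, proj_cls]
  by_cases h : k = m
  · rw [if_pos (by omega), if_pos h, e]
  · rw [if_neg (by omega), if_neg h, map_zero]

theorem Homog.comp {c c' : ℤ} {A : Tot X δ →+ Tot Y δY} {B : Tot Y δY →+ Tot Z δZ} (hA : Homog c A)
    (hB : Homog c' B) : Homog (c + c') (B.comp A) := fun k α hα => by
  obtain ⟨β, hβ, e⟩ := hA k α hα
  obtain ⟨γ, hγ, e'⟩ := hB (k + c) β hβ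
  refine ⟨γ, by rwa [← add_assoc], ?_⟩
  rw [AddMonoidHom.comp_apply, e, e']
  exact cls_congr (add_assoc k c c') rfl

/-- An operation on cycles, given on coefficients, descending to rational equivalence. -/
structure CycleOp (δ : X → ℤ) (δY : Y → ℤ) (c : ℤ) (F : AlgebraicCycle X ℤ → Y → ℤ) : Prop where
  ex : ∀ (k : ℤ) (α : AlgebraicCycle X ℤ), α ∈ Cyc.Zk X δ k →
    ∃ β : AlgebraicCycle Y ℤ, β ∈ Cyc.Zk Y δY (k + c) ∧ ⇑β = F α
  add : ∀ (α β : AlgebraicCycle X ℤ) (y : Y), F (α + β) y = F α y + F β y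
  rat : ∀ (k : ℤ) (α : AlgebraicCycle X ℤ), α ∈ Cyc.Zk X δ k → Cyc.RatEquivZero δ k α →
    ∀ β : AlgebraicCycle Y ℤ, ⇑β = F α → Cyc.RatEquivZero δY (k + c) β

namespace CycleOp

variable {c : ℤ} {F : AlgebraicCycle X ℤ → Y → ℤ} (O : CycleOp δ δY c F)
  [IsLocallyNoetherian Y] (hY : Cyc.IsDimFun Y δY)

/-- The value on a cycle. -/
def val (k : ℤ) (α : ↥(ChowOps.zk X δ k)) : Tot Y δY :=
  cls δY (k + c) (O.ex k α.1 α.2).choose (O.ex k α.1 α.2).choose_spec.1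

theorem val_eq {k : ℤ} (α : ↥(ChowOps.zk X δ k)) {k' : ℤ} {β : AlgebraicCycle Y ℤ}
    (hk : k' = k + c) (hβ : β ∈ Cyc.Zk Y δY k') (e : ⇑β = F α.1) :
    O.val k α = cls δY k' β hβ :=
  cls_congr hk.symm ((O.ex k α.1 α.2).choose_spec.2.trans e.symm)

theorem val_add {k : ℤ} (α β : ↥(ChowOps.zk X δ k)) : O.val k (α + β) = O.val k α + O.val k β := by
  have h := (O.ex k α.1 α.2).choose_spec
  have h' := (O.ex k β.1 β.2).choose_spec
  rw [val, val, val, ← cls_add h.1 h'.1]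
  refine cls_congr rfl ?_
  rw [(O.ex k (α + β).1 (α + β).2).choose_spec.2]
  funext y
  rw [Function.locallyFinsuppWithin.coe_add, Pi.add_apply, h.2, h'.2]
  exact O.add _ _ y

include hY in
theorem ratTriv_le (k : ℤ) : ChowOps.ratTriv X δ k ≤ (AddMonoidHom.mk' (O.val k) O.val_add).ker :=
  (AddSubgroup.closure_le _).2 fun α hα =>
    (cls_eq_zero_iff hY _).2 (O.rat k α.1 α.2 hα _ (O.ex k α.1 α.2).choose_spec.2)

/-- The operator. -/
def op : Tot X δ →+ Tot Y δY :=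
  DirectSum.toAddMonoid fun k =>
    QuotientAddGroup.lift (ChowOps.ratTriv X δ k) (AddMonoidHom.mk' (O.val k) O.val_add) (O.ratTriv_le hY k)

theorem op_cls {k k' : ℤ} {α : AlgebraicCycle X ℤ} (hα : α ∈ Cyc.Zk X δ k) {β : AlgebraicCycle Y ℤ}
    (hk : k' = k + c) (hβ : β ∈ Cyc.Zk Y δY k') (e : ⇑β = F α) :
    O.op hY (cls δ k α hα) = cls δY k' β hβ := by
  rw [op, cls, DirectSum.toAddMonoid_of]
  exact O.val_eq ⟨α, hα⟩ hk hβ e

theorem homog : Homog c (O.op hY) := fun k α hα => by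
  obtain ⟨β, hβ, e⟩ := O.ex k α hα
  exact ⟨β, hβ, O.op_cls hY hα rfl hβ e⟩

end CycleOp

section C1

variable (δ) [IsLocallyNoetherian X] (hδ : Cyc.IsDimFun X δ) {L : X.Modules} (hL : PicF.IsInvertible L)

omit [IsLocallyNoetherian X] in
include hL in
theorem exists_sections : ∃ s : (ξ : X) → Cyc.secFibre L ξ, ∀ ξ, s ξ ≠ 0 := by
  have h : ∀ ξ : X, ∃ v : Cyc.secFibre L ξ, v ≠ 0 := fun ξ => by
    obtain ⟨v, hv, -⟩ := C1Indep.exists_free_gen hL ξ
    exact ⟨_, C1Indep.mk_ne_zero hL ξ hv⟩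
  choose s hs using h
  exact ⟨s, hs⟩

include hδ hL in
theorem c1_cycleOp {s : (ξ : X) → Cyc.secFibre L ξ} (hs : ∀ ξ, s ξ ≠ 0) :
    CycleOp δ δ (-1) fun α => Cyc.c1CapFun δ L ⇑α s where
  ex k α hα := by
    have hα' : α ∈ Cyc.Zk X δ (k + -1 + 1) := by rwa [neg_add_cancel_right]
    obtain ⟨β, hβ⟩ := Gys.C1.exists_cap hδ hL hα' s hs
    exact ⟨β, Gys.C1.cap_mem hδ hα' s β hβ, hβ⟩
  add α β y := Gys.C1.c1Cap_add α β s y
  rat k α hα h β hβ := C1K.Chow.ratEquivZero_c1 hδ hL (k := k + -1)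
    (by rwa [neg_add_cancel_right]) s hs β hβ

/-- `c₁(L) ∩`. -/
def c1 : AddMonoid.End (Tot X δ) :=
  (c1_cycleOp δ hδ hL (exists_sections hL).choose_spec).op hδ

theorem c1_homog : Homog (-1) (c1 δ hδ hL) :=
  (c1_cycleOp δ hδ hL (exists_sections hL).choose_spec).homog hδ

theorem c1_cls {k k' : ℤ} {α : AlgebraicCycle X ℤ} (hα : α ∈ Cyc.Zk X δ k) {β : AlgebraicCycle X ℤ}
    (hk : k' = k - 1) (hβ : β ∈ Cyc.Zk X δ k') (s : (ξ : X) → Cyc.secFibre L ξ) (hs : ∀ ξ, s ξ ≠ 0)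
    (e : ⇑β = Cyc.c1CapFun δ L ⇑α s) : c1 δ hδ hL (cls δ k α hα) = cls δ k' β hβ := by
  subst hk
  have hs₀ := (exists_sections (X := X) hL).choose_spec
  have hα' : α ∈ Cyc.Zk X δ (k - 1 + 1) := by rwa [sub_add_cancel]
  obtain ⟨β₀, hβ₀⟩ := Gys.C1.exists_cap hδ hL hα' _ hs₀
  have h₀ := Gys.C1.cap_mem hδ hα' _ β₀ hβ₀
  refine ((c1_cycleOp δ hδ hL hs₀).op_cls hδ hα (sub_eq_add_neg k 1) h₀ hβ₀).trans ?_
  rw [cls_eq_iff hδ]
  exact C1Indep.ratEquiv_c1Cap hδ hL hα' _ s (fun ξ _ => hs₀ ξ) (fun ξ _ => hs ξ) hβ₀ e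

theorem c1_mem {k : ℤ} {α β : AlgebraicCycle X ℤ} (hα : α ∈ Cyc.Zk X δ k)
    (s : (ξ : X) → Cyc.secFibre L ξ) (e : ⇑β = Cyc.c1CapFun δ L ⇑α s) (hδ : Cyc.IsDimFun X δ) :
    β ∈ Cyc.Zk X δ (k - 1) :=
  Gys.C1.cap_mem hδ (k := k - 1) (by rwa [sub_add_cancel]) s β e

end C1

section Pull

variable [IsLocallyNoetherian X] [IsLocallyNoetherian Y] (hX : Cyc.IsDimFun X δ)
  (hY : Cyc.IsDimFun Y δY) (f : X ⟶ Y) [Flat f] {c : ℤ} (hc : FP.Main.Shift f δ δY c)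

include hX hY hc in
theorem pull_cycleOp : CycleOp δY δ c fun α => Cyc.pullFun f δ δY c ⇑α where
  ex k α hα := PullExists.exists_pullFun f c hα
  add α β y := by
    simp only [FibLen.pullFun_apply, Function.locallyFinsuppWithin.coe_add, Pi.add_apply]
    split_ifs <;> ring
  rat k α hα h β hβ := by
    have := FP.Rat.ratEquiv_pull f hX hY hc (α := α) (β := 0) (by rwa [Cyc.RatEquiv, sub_zero]) β 0 hβ
      (funext fun z => by simp [FibLen.pullFun_apply])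
    rwa [Cyc.RatEquiv, sub_zero] at this

/-- Flat pullback. -/
def pull : Tot Y δY →+ Tot X δ := (pull_cycleOp hX hY f hc).op hX

theorem pull_homog : Homog c (pull hX hY f hc) := (pull_cycleOp hX hY f hc).homog hX

theorem pull_cls {k k' : ℤ} {α : AlgebraicCycle Y ℤ} (hα : α ∈ Cyc.Zk Y δY k) {β : AlgebraicCycle X ℤ}
    (hk : k' = k + c) (hβ : β ∈ Cyc.Zk X δ k') (e : ⇑β = Cyc.pullFun f δ δY c ⇑α) :
    pull hX hY f hc (cls δY k α hα) = cls δ k' β hβ :=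
  (pull_cycleOp hX hY f hc).op_cls hX hα hk hβ e

end Pull

section Push

variable [IsLocallyNoetherian X] [IsLocallyNoetherian Y] (hX : Cyc.IsDimFun X δ)
  (hY : Cyc.IsDimFun Y δY) (f : X ⟶ Y) [IsProper f] (hf : Cyc.DeltaCompat f δ δY)

omit [IsLocallyNoetherian X] [IsLocallyNoetherian Y] in
theorem map_mem {k : ℤ} {α : AlgebraicCycle X ℤ} (hα : α ∈ Cyc.Zk X δ k) :
    AlgebraicCycle.map f δ δY α ∈ Cyc.Zk Y δY k := fun y hy => by
  rw [Push.map_apply]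
  refine finsum_mem_eq_zero_of_forall_eq_zero fun x hx => ?_
  by_cases h : δ x = δY (f x)
  · rw [show f x = y from hx] at h
    rw [hα x (h ▸ hy), zero_mul]
  · simp [AlgebraicCycle.mapCoeff, h]

include hX hY hf in
theorem push_cycleOp : CycleOp δ δY 0 fun α => ⇑(AlgebraicCycle.map f δ δY α) where
  ex k α hα := ⟨_, by rw [add_zero]; exact map_mem f hα, rfl⟩
  add α β y := by
    have := PP.Div.map_sub_apply (δX := δ) (δY := δY) f (α + β) β y
    rw [add_sub_cancel_right] at this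
    omega
  rat k α hα h β hβ := by
    obtain rfl : β = AlgebraicCycle.map f δ δY α :=
      Function.locallyFinsuppWithin.ext fun y => congrFun hβ y
    rw [add_zero]
    exact PP.Main.ratEquivZero_map f hX hY hf h

/-- Proper pushforward. -/
def push : Tot X δ →+ Tot Y δY := (push_cycleOp hX hY f hf).op hY

theorem push_homog : Homog 0 (push hX hY f hf) := (push_cycleOp hX hY f hf).homog hY

theorem push_cls {k k' : ℤ} {α : AlgebraicCycle X ℤ} (hα : α ∈ Cyc.Zk X δ k) (hk : k' = k)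
    (hβ : AlgebraicCycle.map f δ δY α ∈ Cyc.Zk Y δY k') :
    push hX hY f hf (cls δ k α hα) = cls δY k' (AlgebraicCycle.map f δ δY α) hβ :=
  (push_cycleOp hX hY f hf).op_cls hY hα (by omega) hβ rfl

end Push

end Groth.Agent.Lib.Cyc.CH
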