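import Groth.Agent.Lib.Cyc.Gys.MulMap
import Groth.Agent.Lib.Cyc.PP.GysPush
import Groth.Agent.Lib.Modules.ZeroLocus
import Groth.Agent.Lib.TensorMod.LocFree
import Groth.Agent.Lib.TensorMod.QCohInv

/-!
# The zero scheme of a map of invertible modules
-/

set_option autoImplicit false
set_option linter.style.haveILetI false
universe u

open CategoryTheory CategoryTheory.Limits AlgebraicGeometry IsLocalRing
open scoped TensorProduct

noncomputable section

namespace Groth.Agent.Lib.Cyc.CH.Zero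

open Groth.Agent.Lib Groth.Agent.Lib.Cyc Groth.Agent.Lib.Modules.StalkModule
  Groth.Agent.Lib.TensorMod.Basic Groth.Agent.Lib.Cyc.C1K

variable {Z : Scheme.{u}} {A M : Z.Modules} (σ : A ⟶ M)

/-- The stalk of the ideal of the zero locus is generated by the coefficient. -/
theorem ideal_stalk [A.IsQuasicoherent] [M.IsQuasicoherent] (hM : PicF.IsInvertible M)
    (hF : FlatMod.IsFinLocFree M) (U : Z.affineOpens) {z : Z} (hz : z ∈ U.1)
    {l : A.presheaf.stalk z} {u : M.presheaf.stalk z} {a : Z.presheaf.stalk z}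
    (hl : Submodule.span (Z.presheaf.stalk z) {l} = ⊤) (hu : Submodule.span (Z.presheaf.stalk z) {u} = ⊤)
    (ha : stalkMapₗ σ z l = a • u) :
    ((Modules.ZeroLocus.idealSheaf σ hF).ideal U).map (Z.presheaf.germ U.1 z hz).hom = Ideal.span {a} := by
  have hv : (Modules.ZeroLocus.idealSheaf σ hF).ideal U = Ideal.span (Modules.ZeroLocus.vals σ U.1) := rfl
  rw [hv, Ideal.map_span]
  set J := Ideal.span ((Z.presheaf.germ U.1 z hz).hom '' Modules.ZeroLocus.vals σ U.1) with hJ
  refine le_antisymm (Ideal.span_le.2 ?_) ((Ideal.span_singleton_le_iff_mem _).2 ?_)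
  · rintro _ ⟨_, ⟨φ, e, rfl⟩, rfl⟩
    obtain ⟨ψ, hψ⟩ := Modules.ZeroLocus.exists_dual_germ U.2 hz φ
    obtain ⟨r, hr⟩ := Submodule.mem_span_singleton.1
      (show A.presheaf.germ U.1 z hz e ∈ Submodule.span _ {l} by rw [hl]; trivial)
    refine Ideal.mem_span_singleton'.2 ⟨r * ψ u, ?_⟩
    show _ = Z.presheaf.germ U.1 z hz (φ (σ.app U.1 e))
    rw [← hψ, ← stalkMapₗ_germ, ← hr, map_smul, ha, map_smul, map_smul, smul_eq_mul, smul_eq_mul]
    ring
  · obtain ⟨hfin, hproj⟩ := Modules.AffineSections.finite_projective_sections (M := M) hF U.2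
    obtain ⟨k, p, s, -, -, hps⟩ := Module.Finite.exists_comp_eq_id_of_projective Γ(Z, U.1) Γ(M, U.1)
    obtain ⟨c, e, hc, he⟩ := QCoh.Stalk.exists_smul_eq_germ A U.2 hz l
    have hcu : IsUnit (Z.presheaf.germ U.1 z hz c) := (Z.mem_basicOpen c _ hz).mp hc
    obtain ⟨u₀, hu₀, hfree⟩ := C1Indep.exists_free_gen hM z
    obtain ⟨b, hb⟩ := Submodule.mem_span_singleton.1
      (show u₀ ∈ Submodule.span _ {u} by rw [hu]; trivial)
    let R := Z.presheaf.stalk z
    let coord : R →ₗ[R] M.presheaf.stalk z := LinearMap.toSpanSingleton R _ u₀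
    have hcoord : Function.Bijective coord := ⟨(injective_iff_map_eq_zero coord).2 hfree, fun v => by
      obtain ⟨r, hr⟩ := Submodule.mem_span_singleton.1 (show v ∈ Submodule.span R {u₀} by rw [hu₀]; trivial)
      exact ⟨r, hr⟩⟩
    let E := (LinearEquiv.ofBijective coord hcoord).symm
    have hEu : IsUnit (E u) := IsUnit.of_mul_eq_one b (by
      rw [mul_comm, ← smul_eq_mul, ← map_smul, hb]
      exact (LinearEquiv.symm_apply_eq _).2 (one_smul R u₀).symm)
    have hsum : σ.app U.1 e = ∑ i, s (σ.app U.1 e) i • p (Pi.single i 1) := by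
      calc σ.app U.1 e = p (s (σ.app U.1 e)) := (LinearMap.congr_fun hps _).symm
        _ = p (∑ i, s (σ.app U.1 e) i • Pi.single i 1) := congrArg p (pi_eq_sum_univ' _)
        _ = _ := by rw [map_sum]; simp only [map_smul]
    have hmem : E (Z.presheaf.germ U.1 z hz c • a • u) ∈ J := by
      rw [← ha, ← map_smul, he, stalkMapₗ_germ, hsum, map_sum, map_sum]
      refine Ideal.sum_mem _ fun i _ => ?_
      rw [germ_smul, map_smul, smul_eq_mul]
      exact Ideal.mul_mem_right _ _ (Ideal.subset_span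
        ⟨_, ⟨(LinearMap.proj i).comp s, e, rfl⟩, rfl⟩)
    rw [map_smul, map_smul, smul_eq_mul, smul_eq_mul, Ideal.unit_mul_mem_iff_mem _ hcu,
      Ideal.mul_unit_mem_iff_mem _ hEu] at hmem
    exact hmem

theorem span_tensor {L N : Z.Modules} {z : Z} {l : L.presheaf.stalk z} {n : N.presheaf.stalk z}
    (hl : Submodule.span (Z.presheaf.stalk z) {l} = ⊤) (hn : Submodule.span (Z.presheaf.stalk z) {n} = ⊤) :
    Submodule.span (Z.presheaf.stalk z) {(TStalk.tS z L N).symm (l ⊗ₜ n)} = ⊤ := by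
  refine eq_top_iff.2 fun v hv => ?_
  clear hv
  obtain ⟨w, rfl⟩ := (TStalk.tS z L N).symm.surjective v
  induction w using TensorProduct.induction_on with
  | zero => simp
  | add x y hx hy => rw [map_add]; exact Submodule.add_mem _ hx hy
  | tmul x y =>
    obtain ⟨a, rfl⟩ := Submodule.mem_span_singleton.1 (show x ∈ Submodule.span _ {l} by rw [hl]; trivial)
    obtain ⟨b, rfl⟩ := Submodule.mem_span_singleton.1 (show y ∈ Submodule.span _ {n} by rw [hn]; trivial)
    exact Submodule.mem_span_singleton.2 ⟨a * b, by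
      rw [TensorProduct.smul_tmul_smul, map_smul]⟩

/-- A map of invertible modules cuts out an effective or degenerate divisor. -/
theorem exists_zeroScheme (hA : PicF.IsInvertible A) (hM : PicF.IsInvertible M) :
    ∃ (W : Scheme.{u}) (i : W ⟶ Z) (_ : IsClosedImmersion i) (N : Z.Modules)
      (s : N.presheaf.obj (Opposite.op ⊤)),
      PicF.IsInvertible N ∧ Nonempty (CohB1.tensorMod N A ≅ M) ∧ Cyc.IsZeroSchemeOf i N s ∧
        (Scheme.Modules.pullback i).map σ = 0 := by
  haveI := TensorMod.QCohInv.isQCoh_of_isInvertible hA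
  haveI := TensorMod.QCohInv.isQCoh_of_isInvertible hM
  have hF := TensorMod.LocFree.of_rank (TensorMod.LocFree.of_isInvertible hM)
  obtain ⟨A', hA', ⟨e⟩⟩ := TensorMod.Invertible.exists_inverse hA
  let I := Modules.ZeroLocus.idealSheaf σ hF
  let N := CohB1.tensorMod M A'
  let τ : Coh.structureModule Z ⟶ N := e.inv ≫ tmap σ (𝟙 A')
  let s : N.presheaf.obj (Opposite.op ⊤) := τ.app ⊤ (1 : Γ(Z, ⊤))
  have hs : ∀ z, N.presheaf.germ ⊤ z trivial s = stalkMapₗ τ z (C1.one z) := fun z =>
    (stalkMapₗ_germ τ (U := ⊤) trivial _).symm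
  have key : ∀ (U : Z.affineOpens) (z : Z) (hz : z ∈ U.1),
      ∃ (t : N.presheaf.stalk z) (a : Z.presheaf.stalk z),
        Submodule.span (Z.presheaf.stalk z) {t} = ⊤ ∧ N.presheaf.germ ⊤ z trivial s = a • t ∧
          (I.ideal U).map (Z.presheaf.germ U.1 z hz).hom = Ideal.span {a} := by
    intro U z hz
    obtain ⟨l, hl, -⟩ := C1Indep.exists_free_gen hA z
    obtain ⟨l', hl', -⟩ := C1Indep.exists_free_gen hA' z
    obtain ⟨u, hu, -⟩ := C1Indep.exists_free_gen hM z
    obtain ⟨a, ha⟩ := Submodule.mem_span_singleton.1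
      (show stalkMapₗ σ z l ∈ Submodule.span _ {u} by rw [hu]; trivial)
    let g := stalkMapₗ e.inv z (C1.one z)
    have hg : Submodule.span (Z.presheaf.stalk z) {g} = ⊤ := by
      refine eq_top_iff.2 fun v _ => ?_
      obtain ⟨r, hr⟩ := Submodule.mem_span_singleton.1
        (show stalkMapₗ e.hom z v ∈ Submodule.span _ {C1.one z} by rw [C1.span_one]; trivial)
      refine Submodule.mem_span_singleton.2 ⟨r, ?_⟩
      show r • stalkMapₗ e.inv z (C1.one z) = v
      rw [← map_smul, hr, ← LinearMap.comp_apply, ← stalkMapₗ_comp, e.hom_inv_id, stalkMapₗ_id]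
      rfl
    obtain ⟨c, hc⟩ := Submodule.mem_span_singleton.1
      (show g ∈ Submodule.span _ {(TStalk.tS z A A').symm (l ⊗ₜ l')} by
        rw [span_tensor hl hl']; trivial)
    have hcu : IsUnit c := by
      obtain ⟨d, hd⟩ := Submodule.mem_span_singleton.1
        (show (TStalk.tS z A A').symm (l ⊗ₜ l') ∈ Submodule.span _ {g} by rw [hg]; trivial)
      obtain ⟨w, hw, hfree⟩ := C1Indep.exists_free_gen
        (TensorMod.Invertible.isInvertible_tensorMod hA hA') z
      obtain ⟨b, hb⟩ := Submodule.mem_span_singleton.1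
        (show w ∈ Submodule.span _ {g} by rw [hg]; trivial)
      refine IsUnit.of_mul_eq_one d (sub_eq_zero.1 (hfree _ ?_))
      rw [← hb, smul_comm, sub_smul, mul_smul, one_smul, hd, hc, sub_self, smul_zero]
    refine ⟨c • (TStalk.tS z M A').symm (u ⊗ₜ l'), a, ?_, ?_, ideal_stalk σ hM hF U hz hl hu ha.symm⟩
    · rw [Submodule.span_singleton_smul_eq hcu, span_tensor hu hl']
    · rw [hs, stalkMapₗ_comp, LinearMap.comp_apply]
      show stalkMapₗ (tmap σ (𝟙 A')) z g = _
      rw [← hc, map_smul, smul_comm a c]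
      congr 1
      refine (TStalk.tS z M A').injective ?_
      rw [TStalk.tS_natural, LinearEquiv.apply_symm_apply, LinearMap.rTensor_tmul, ← ha,
        map_smul, LinearEquiv.apply_symm_apply, TensorProduct.smul_tmul']
  refine ⟨I.subscheme, I.subschemeι, inferInstance, N, s,
    TensorMod.Invertible.isInvertible_tensorMod hM hA',
    ⟨assoc M A' A ≪≫ tensorIso (Iso.refl M) (comm A' A ≪≫ e) ≪≫ rightUnit M⟩, ⟨?_, fun d => ?_⟩,
    (Modules.ZeroLocus.factors_iff σ hF I.subschemeι).1 ⟨𝟙 _, Category.id_comp _⟩⟩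
  · ext z
    obtain ⟨U, hU, hz, -⟩ := exists_isAffineOpen_mem_and_subset (U := ⊤) (x := z) trivial
    obtain ⟨t, a, ht, hst, hI⟩ := key ⟨U, hU⟩ z hz
    have hN := TensorMod.Invertible.isInvertible_tensorMod hM hA'
    rw [I.range_subschemeι, SetLike.mem_coe, Scheme.IdealSheafData.mem_support_iff_of_mem
      (U := ⟨U, hU⟩) hz, Set.mem_setOf_eq, hst]
    have h1 : z ∈ Z.zeroLocus (U := U) (I.ideal ⟨U, hU⟩ : Set Γ(Z, U)) ↔ a ∈ maximalIdeal _ := by
      rw [← Ideal.span_singleton_le_iff_mem, ← hI, Ideal.map_le_iff_le_comap,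
        Scheme.mem_zeroLocus_iff]
      refine forall_congr' fun f => imp_congr_right fun _ => ?_
      rw [Z.mem_basicOpen f z hz, Ideal.mem_comap, mem_maximalIdeal, mem_nonunits_iff]
    rw [h1]
    refine ⟨fun h => ?_, fun h => ?_⟩
    · rw [Submodule.Quotient.mk_eq_zero]
      exact Submodule.smul_mem_smul h trivial
    · by_contra hu
      have hau : IsUnit a := by
        by_contra hn
        exact hu ((mem_maximalIdeal a).2 hn)
      exact C1Indep.mk_ne_zero hN z (by rw [Submodule.span_singleton_smul_eq hau, ht]) h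
  · obtain ⟨U, hU, hz, -⟩ := exists_isAffineOpen_mem_and_subset (U := ⊤) (x := I.subschemeι d) trivial
    obtain ⟨t, a, ht, hst, hI⟩ := key ⟨U, hU⟩ _ hz
    refine ⟨t, a, ht, hst, ?_⟩
    rw [PP.GysPush.ker_stalkMap_eq I.subschemeι ⟨U, hU⟩ d hz, I.ker_subschemeι, hI]

end Groth.Agent.Lib.Cyc.CH.Zero
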