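import Groth.Agent.Lib.Cyc.CH.Comm
import Groth.Agent.Lib.Cyc.CH.Zero
import Groth.Agent.Lib.Cyc.PP.SubSetup

/-!
# Products of first Chern classes of a filtered module kill everything on its projective bundle
-/

set_option autoImplicit false
set_option linter.style.haveILetI false
universe u

open CategoryTheory CategoryTheory.Limits AlgebraicGeometry

noncomputable section

namespace Groth.Agent.Lib.Cyc.CH

open Groth.Agent.Lib Groth.Agent.Lib.Cyc Modules.StalkModule

variable {X : Scheme.{u}}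

/-- The Gysin cycle lives on the zero scheme. -/
theorem gysin_off {D : Scheme.{u}} (i : D ⟶ X) [IsClosedImmersion i] [IsLocallyNoetherian X] {δ : X → ℤ}
    (hδ : Cyc.IsDimFun X δ) {L : X.Modules} (hL : PicF.IsInvertible L)
    {s : L.presheaf.obj (Opposite.op ⊤)} (hD : Cyc.IsZeroSchemeOf i L s) (α : X → ℤ)
    (w : (ξ : X) → Cyc.secFibre L ξ) {x : X} (hx : x ∉ Set.range ⇑i) :
    Cyc.c1CapFun δ L α (Cyc.gysinChoice L s w) x = 0 := by
  refine finsum_eq_zero_of_forall_eq_zero fun ξ => mul_eq_zero_of_right _ ?_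
  simp only [Cyc.secDivFun]
  split_ifs with h
  swap
  · rfl
  have hξ : ξ ∉ Set.range ⇑i := fun hc =>
    hx (i.isClosedEmbedding.isClosed_range.closure_subset_iff.2 (Set.singleton_subset_iff.2 hc)
      (specializes_iff_mem_closure.1 h.1))
  have hne : (Submodule.Quotient.mk (L.presheaf.germ ⊤ ξ trivial s) : Cyc.secFibre L ξ) ≠ 0 :=
    fun h0 => hξ ((Gys.Cycle.mem_range_iff i hD ξ).2 h0)
  obtain ⟨t, f, ht, hs⟩ := Gys.MulMap.exists_coeff L s hL x
  have hu := Gys.MulMap.isUnit_coeff L s hD hx hs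
  rw [Cyc.gysinChoice, if_pos hne, C1Indep.secOrdAt_eq hδ hL x ξ h.1 h.2.ge _ hne
    (L.presheaf.germ ⊤ x trivial s) (by rw [hs, Submodule.span_singleton_smul_eq hu, ht]) 1
    (by rw [one_smul, TopCat.Presheaf.germ_stalkSpecializes_apply]),
    show X.residue ξ 1 = Cyc.specMap x ξ h.1 1 by rw [map_one, map_one]]
  exact Ord.ordAt_specMap_of_isUnit hδ x ξ h.1 h.2.ge 1 isUnit_one

/-- `c₁(N) ∩ -` factors through the zero scheme of a section of `N`. -/
theorem exists_push_eq_c1 [IsLocallyNoetherian X] {δ : X → ℤ} (hδ : Cyc.IsDimFun X δ) {D : Scheme.{u}}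
    (i : D ⟶ X) [IsClosedImmersion i] [IsLocallyNoetherian D] {N : X.Modules} (hN : PicF.IsInvertible N)
    {s : N.presheaf.obj (Opposite.op ⊤)} (hD : Cyc.IsZeroSchemeOf i N s)
    (hc : Cyc.DeltaCompat i (fun d => δ (i d)) δ) (x : Tot X δ) :
    ∃ y : Tot D (fun d => δ (i d)),
      push (Gys.Closed.isDimFun i hδ) hδ i hc y = c1 δ hδ hN x := by
  induction x using DirectSum.induction_on with
  | zero => exact ⟨0, by rw [map_zero, map_zero]⟩
  | add a b ha hb =>
    obtain ⟨u, hu⟩ := ha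
    obtain ⟨v, hv⟩ := hb
    exact ⟨u + v, by rw [map_add, map_add, hu, hv]⟩
  | of k x =>
    obtain ⟨⟨α, hα⟩, rfl⟩ := QuotientAddGroup.mk_surjective x
    obtain ⟨w, hw⟩ := exists_sections hN
    obtain ⟨β, hβ, e1, e2⟩ := exists_c1 hδ hN hα _ (Gys.Cycle.gysinChoice_ne_zero (s := s) hw)
    let γ : AlgebraicCycle D ℤ := ⟨fun d => β (i d), fun _ _ => trivial, fun d _ => by
      obtain ⟨t, ht, hf⟩ := β.supportLocallyFiniteWithinDomain' (i d) trivial
      exact ⟨⇑i ⁻¹' t, i.continuous.continuousAt.preimage_mem_nhds ht,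
        (hf.preimage (Gys.Closed.injective i).injOn).subset fun e he => he⟩⟩
    have hγ : γ ∈ Cyc.Zk D (fun d => δ (i d)) (k - 1) := fun d hd => hβ (i d) hd
    refine ⟨cls _ (k - 1) γ hγ, ?_⟩
    refine (push_cls (Gys.Closed.isDimFun i hδ) hδ i hc hγ rfl (Gys.Closed.map_mem i hγ)).trans ?_
    refine (cls_congr rfl (funext fun z => ?_)).trans e2.symm
    by_cases hz : z ∈ Set.range ⇑i
    · obtain ⟨d, rfl⟩ := hz
      exact Gys.Closed.map_apply_image i γ d
    · rw [Gys.Closed.map_apply_of_not_mem i γ hz, e1, gysin_off i hδ hN hD _ w hz]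

section Filt

variable {r : ℕ} (M : Fin (r + 1) → X.Modules) (a : ∀ i : Fin r, M (Fin.castSucc i) ⟶ M (Fin.succ i))

/-- The steps of a filtration into the last one. -/
def toLast : ∀ j : Fin (r + 1), M j ⟶ M (Fin.last r) :=
  Fin.reverseInduction (𝟙 _) fun i f => a i ≫ f

theorem toLast_last : toLast M a (Fin.last r) = 𝟙 _ := Fin.reverseInduction_last ..

theorem toLast_castSucc (i : Fin r) : toLast M a (Fin.castSucc i) = a i ≫ toLast M a (Fin.succ i) :=
  Fin.reverseInduction_castSucc ..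

variable {L : Fin r → X.Modules} (hL : ∀ i, PicF.IsInvertible (L i)) {b : ∀ i : Fin r, M (Fin.succ i) ⟶ L i}
  {hab : ∀ i, a i ≫ b i = 0} (hex : ∀ i, (ShortComplex.mk (a i) (b i) (hab i)).ShortExact)

/-- `c₁(Q) - c₁(g^* Lᵢ)`. -/
def factor {T : Scheme.{u}} [IsLocallyNoetherian T] (δ : T → ℤ) (hδ : Cyc.IsDimFun T δ) (g : T ⟶ X)
    {Q : T.Modules} (hQ : PicF.IsInvertible Q) (i : Fin r) : AddMonoid.End (Tot T δ) :=
  c1 δ hδ hQ - c1 δ hδ (PicLoc.isInvertible_pullback g (hL i))

/-- The product over `i ≥ j`, lowest index first. -/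
def tail {T : Scheme.{u}} [IsLocallyNoetherian T] (δ : T → ℤ) (hδ : Cyc.IsDimFun T δ) (g : T ⟶ X)
    {Q : T.Modules} (hQ : PicF.IsInvertible Q) : Fin (r + 1) → AddMonoid.End (Tot T δ) :=
  Fin.reverseInduction 1 fun i P => P * factor hL δ hδ g hQ i

theorem tail_castSucc {T : Scheme.{u}} [IsLocallyNoetherian T] (δ : T → ℤ) (hδ : Cyc.IsDimFun T δ)
    (g : T ⟶ X) {Q : T.Modules} (hQ : PicF.IsInvertible Q) (i : Fin r) (z : Tot T δ) :
    tail hL δ hδ g hQ (Fin.castSucc i) z = tail hL δ hδ g hQ (Fin.succ i) (factor hL δ hδ g hQ i z) := by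
  rw [tail, Fin.reverseInduction_castSucc]
  rfl

theorem push_factor {T W : Scheme.{u}} [IsLocallyNoetherian T] [IsLocallyNoetherian W] (ι : W ⟶ T)
    [IsProper ι] {δ : T → ℤ} {δW : W → ℤ} (hδ : Cyc.IsDimFun T δ) (hW : Cyc.IsDimFun W δW)
    (hc : Cyc.DeltaCompat ι δW δ) (g : T ⟶ X) {Q : T.Modules} (hQ : PicF.IsInvertible Q) (i : Fin r)
    (y : Tot W δW) :
    push hW hδ ι hc (factor hL δW hW (ι ≫ g) (PicLoc.isInvertible_pullback ι hQ) i y) =
      factor hL δ hδ g hQ i (push hW hδ ι hc y) := by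
  have e : c1 δW hW (PicLoc.isInvertible_pullback (ι ≫ g) (hL i)) =
      c1 δW hW (PicLoc.isInvertible_pullback ι (PicLoc.isInvertible_pullback g (hL i))) :=
    c1_congr hW _ _ ((Scheme.Modules.pullbackComp ι g).app (L i)).symm
  show push hW hδ ι hc (c1 δW hW _ y - c1 δW hW _ y) = c1 δ hδ hQ _ - c1 δ hδ _ _
  rw [e, map_sub, push_c1 hW hδ ι hc hQ y, push_c1 hW hδ ι hc (PicLoc.isInvertible_pullback g (hL i)) y]

theorem push_tail {T W : Scheme.{u}} [IsLocallyNoetherian T] [IsLocallyNoetherian W] (ι : W ⟶ T)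
    [IsProper ι] {δ : T → ℤ} {δW : W → ℤ} (hδ : Cyc.IsDimFun T δ) (hW : Cyc.IsDimFun W δW)
    (hc : Cyc.DeltaCompat ι δW δ) (g : T ⟶ X) {Q : T.Modules} (hQ : PicF.IsInvertible Q) :
    ∀ (j : Fin (r + 1)) (y : Tot W δW),
      push hW hδ ι hc (tail hL δW hW (ι ≫ g) (PicLoc.isInvertible_pullback ι hQ) j y) =
        tail hL δ hδ g hQ j (push hW hδ ι hc y) := by
  intro j
  induction j using Fin.reverseInduction with
  | last =>
    intro y
    simp only [tail, Fin.reverseInduction_last]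
    rfl
  | cast i ih =>
    intro y
    rw [tail_castSucc, tail_castSucc, ih, push_factor]

include hex in
/-- On a scheme with an invertible quotient of the filtered module, the product of the factors that
remain is zero. -/
theorem tail_eq_zero : ∀ (j : Fin (r + 1)) {T : Scheme.{u}} [IsLocallyNoetherian T] {δ : T → ℤ}
    (hT : Cyc.IsSetup T δ) (g : T ⟶ X) {Q : T.Modules} (hQ : PicF.IsInvertible Q)
    (φ : (Scheme.Modules.pullback g).obj (M (Fin.last r)) ⟶ Q) [Epi φ],
    (Scheme.Modules.pullback g).map (toLast M a j) ≫ φ = 0 →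
      ∀ z, tail hL δ hT.2.2 g hQ j z = 0 := by
  intro j
  induction j using Fin.reverseInduction with
  | last =>
    intro T _ δ hT g Q hQ φ _ hφ z
    rw [toLast_last, CategoryTheory.Functor.map_id, Category.id_comp] at hφ
    have hemp : IsEmpty T := ⟨fun x => by
      obtain ⟨u, hu, hfree⟩ := C1Indep.exists_free_gen hQ x
      obtain ⟨v, hv⟩ := (epi_iff_stalkMapₗ_surjective φ).1 inferInstance x u
      rw [hφ, stalkMapₗ_zero] at hv
      exact one_ne_zero (hfree 1 (by rw [← hv]; exact smul_zero _))⟩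
    have hz : ∀ w : Tot T δ, w = 0 := fun w => eq_zero_of_proj fun m => by
      obtain ⟨α, hα, e⟩ := exists_rep m w
      rw [e]
      exact (cls_congr rfl (funext fun x => hemp.elim x)).trans cls_zero
    exact hz _
  | cast i ih =>
    intro T _ δ hT g Q hQ φ _ hφ z
    haveI : PreservesColimitsOfSize.{0, 0} (Scheme.Modules.pullback g) :=
      (Scheme.Modules.pullbackPushforwardAdjunction g).leftAdjoint_preservesColimits
    haveI : (Scheme.Modules.pullback g).PreservesZeroMorphisms :=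
      Functor.preservesZeroMorphisms_of_preserves_initial_object
    rw [toLast_castSucc, Functor.map_comp, Category.assoc] at hφ
    haveI := (hex i).epi_g
    have hc0 := (hex i).gIsCokernel
    have hc1 := CokernelCofork.mapIsColimit _ hc0 (Scheme.Modules.pullback g)
    obtain ⟨σ, hσ⟩ := CokernelCofork.IsColimit.desc' hc1 _ hφ
    have hσ' : (Scheme.Modules.pullback g).map (b i) ≫ σ =
        (Scheme.Modules.pullback g).map (toLast M a (Fin.succ i)) ≫ φ := hσ
    obtain ⟨W, ι, hι, N, s, hN, ⟨eN⟩, hD, hσ0⟩ :=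
      Zero.exists_zeroScheme σ (PicLoc.isInvertible_pullback g (hL i)) hQ
    haveI := hι
    have hW := PP.SubSetup.isSetup ι hT
    haveI := hW.1
    have hcomp : Cyc.DeltaCompat ι (fun d => δ (ι d)) δ := fun d => ⟨0, by
      simpa [Residue.trdegAt] using
        FieldDim.trdegAt_eq_zero_of_surjective ι d (FieldDim.residueFieldMap_surjective ι d), by simp⟩
    have hfac : factor hL δ hT.2.2 g hQ i = c1 δ hT.2.2 hN := by
      rw [factor, ← c1_congr hT.2.2 (TensorMod.Invertible.isInvertible_tensorMod hN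
        (PicLoc.isInvertible_pullback g (hL i))) hQ eN, c1_tensor hT.2.2 hN
        (PicLoc.isInvertible_pullback g (hL i)) _ hT, add_sub_cancel_right]
    rw [tail_castSucc, hfac]
    obtain ⟨y, hy⟩ := exists_push_eq_c1 hT.2.2 ι hN hD hcomp z
    rw [← hy, ← push_tail hL ι hT.2.2 _ hcomp g hQ]
    haveI : PreservesColimitsOfSize.{0, 0} (Scheme.Modules.pullback ι) :=
      (Scheme.Modules.pullbackPushforwardAdjunction ι).leftAdjoint_preservesColimits
    haveI : (Scheme.Modules.pullback ι).PreservesZeroMorphisms :=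
      Functor.preservesZeroMorphisms_of_preserves_initial_object
    let φ' := (Scheme.Modules.pullbackComp ι g).inv.app (M (Fin.last r)) ≫
      (Scheme.Modules.pullback ι).map φ
    have hzero : (Scheme.Modules.pullback (ι ≫ g)).map (toLast M a (Fin.succ i)) ≫ φ' = 0 := by
      have hn := (Scheme.Modules.pullbackComp ι g).inv.naturality (toLast M a (Fin.succ i))
      simp only [φ']
      rw [← Category.assoc, hn, Category.assoc, Functor.comp_map, ← Functor.map_comp, ← hσ',
        Functor.map_comp]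
      erw [hσ0, comp_zero]
    rw [ih hW (ι ≫ g) (PicLoc.isInvertible_pullback ι hQ) φ' hzero y, map_zero]

end Filt

end Groth.Agent.Lib.Cyc.CH
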