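import Groth.Agent.Lib.Cyc.CH.VecInj
import Groth.Agent.Lib.Cyc.CH.Setup

/-!
# Vector bundles are flat of constant relative dimension
-/

set_option autoImplicit false
set_option linter.style.haveILetI false
universe u

open CategoryTheory CategoryTheory.Limits AlgebraicGeometry TopologicalSpace Opposite

noncomputable section

namespace Groth.Agent.Lib.Cyc.CH.VecInj

open Groth.Agent.Lib Groth.Agent.Lib.Cyc

variable {X : Scheme.{u}} {δ : X → ℤ} [IsLocallyNoetherian X] {E : X.Modules}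

/-- The projection of a vector bundle. -/
theorem flat_shift (hX : Cyc.IsSetup X δ) [E.IsQuasicoherent] {r : ℕ}
    (hE : FlatMod.IsFinLocFreeOfRank r E) {A : RelSpec.QCAlg X} {j : E ⟶ A.toModule}
    (hA : RelSpec.IsSymAlg E A j) :
    Flat A.π ∧ LocallyOfFiniteType A.π ∧
      ∀ (δA : A.spec → ℤ), Cyc.DeltaCompat A.π δA δ → FP.Main.Shift A.π δA δ (r : ℤ) := by
  have hF := AddLine.rank hE
  obtain ⟨P, π, O1, q, hP, hp, -⟩ :=
    BdlExists.exists_proper (E ⊞ Coh.structureModule X) (TensorMod.LocFree.of_rank hF)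
  haveI := hp
  obtain ⟨δP, hPs, hδP⟩ := exists_setup π hX
  haveI := hPs.1
  have B := Bdl.of_isProjBundle hX.2.2 hPs.2.2 hδP hP hF
  haveI := B.flat
  obtain ⟨W, ι, hι, -, hW⟩ := Completion.exists_zeroLocus (r := r) q (PB.Univ.invertible hP)
  haveI := hι
  obtain ⟨h, hhπ, -, hh, -, -⟩ := Completion.exists_openImmersion q hE hA hP ι hW
  haveI := hh
  refine ⟨hhπ ▸ inferInstance, hhπ ▸ inferInstance, fun δA hδ => ?_⟩
  have hδh : (fun a => δP (h a)) = δA := by
    refine deltaCompat_eq (f := h ≫ π) (Residue.deltaCompat_comp (deltaCompat_restrict h) hδP) ?_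
    rw [hhπ]
    exact hδ
  subst hδh
  have hs := FibLen.shift_comp h π _ δP δ 0 r (shift_restrict h) B.shift
  rw [zero_add] at hs
  have gen : ∀ (g : A.spec ⟶ X), h ≫ π = g → FP.Main.Shift g (fun a => δP (h a)) δ (r : ℤ) := by
    rintro g rfl
    exact hs
  exact gen _ hhπ

end Groth.Agent.Lib.Cyc.CH.VecInj
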