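import Groth.Agent.Lib.Cyc.CH.VecTorsor
import Groth.Agent.Lib.Cyc.CH.VecFlat
import Groth.Agent.Lib.Cyc.CH.Cover
import Groth.Agent.Lib.Cyc.CH.Restrict
import Groth.Agent.Lib.Cyc.CH.GysSelf
import Groth.Agent.Lib.Cyc.Gys.Commute
import Groth.Agent.Lib.Cyc.Gys.RelCartier
import Groth.Agent.Lib.Cyc.Bivar.Basic
import Groth.Agent.Lib.Cyc.PB.Univ
import Groth.Agent.Lib.Flat55.FlatDescend
import Groth.Agent.S9358

/-!
# Pullback to affine bundles is injective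
-/

set_option autoImplicit false
set_option linter.style.haveILetI false
universe u

open CategoryTheory CategoryTheory.Limits AlgebraicGeometry TopologicalSpace Opposite

noncomputable section

namespace Groth.Agent.Lib.Cyc.CH.VecAffine

open Groth.Agent.Lib Groth.Agent.Lib.Cyc VecTorsor

variable {X : Scheme.{u}} {δ : X → ℤ} [IsLocallyNoetherian X] {S : ShortComplex X.Modules}
  {AE A1 : RelSpec.QCAlg X} {jE : S.X₂ ⟶ AE.toModule} {j1 : Coh.structureModule X ⟶ A1.toModule}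
  {ψ : A1 ⟶ AE} {u : Coh.structureModule X ⟶ (RelSpec.QCAlg.unit X).toModule} [IsIso u]
  {ε : A1 ⟶ RelSpec.QCAlg.unit X}

theorem isIso_unit_π (X : Scheme.{u}) : IsIso (RelSpec.QCAlg.unit X).π := by
  obtain ⟨s, ws, -⟩ := SpecHom.exists_hom (A := RelSpec.QCAlg.unit X) (𝟙 X)
    ⟨(RelSpec.QCAlg.directImage (𝟙 X)).str, Category.id_comp _⟩
  refine ⟨s, ?_, ws⟩
  exact SpecHom.hom_injective (RelSpec.QCAlg.unit X).π (w₁ := by rw [Category.assoc, ws, Category.comp_id])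
    (w₂ := Category.id_comp _) SpecHom.unit_hom_ext

theorem shift_of_cover {U' B' : Scheme.{u}} (r : U' ⟶ B') [Surjective r] [LocallyOfFiniteType r]
    (φB : B' ⟶ X) {δU : U' → ℤ} {δB : B' → ℤ} {n : ℕ}
    (hr : FP.Main.Shift r δU δB ((1 : ℕ) : ℤ))
    (h : FP.Main.Shift (r ≫ φB) δU δ (0 + ((n + 1 : ℕ) : ℤ))) :
    FP.Main.Shift φB δB δ (n : ℤ) := by
  intro y hy
  obtain ⟨a, rfl⟩ := r.surjective y
  obtain ⟨ξ, hξ, hrξ, hmax⟩ := FlatDim.exists_isMaxFib_specializes r a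
  have hm : FibLen.IsMaxFib (r ≫ φB) ξ := by
    intro z hz hzξ
    have hrz : r z = r ξ := by
      rw [hrξ]
      refine hy (r z) ?_ (hrξ ▸ hzξ.map r.continuous)
      rw [Scheme.Hom.comp_apply, Scheme.Hom.comp_apply, hrξ] at hz
      exact hz
    exact hmax z hrz hzξ
  have e1 := hr ξ hmax
  have e2 := h ξ hm
  rw [Scheme.Hom.comp_apply, hrξ] at e2
  rw [hrξ] at e1
  push_cast at e1 e2 ⊢
  omega

theorem shift_congr {P : Scheme.{u}} {g g' : P ⟶ X} {δP : P → ℤ} {c : ℤ} (e : g = g')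
    (h : FP.Main.Shift g δP δ c) : FP.Main.Shift g' δP δ c := e ▸ h

theorem injective (hX : Cyc.IsSetup X δ) (hS : S.ShortExact) (e : S.X₁ ≅ Coh.structureModule X) (n : ℕ)
    [S.X₂.IsQuasicoherent] [S.X₃.IsQuasicoherent] [(Coh.structureModule X).IsQuasicoherent]
    (hE : FlatMod.IsFinLocFreeOfRank (n + 1) S.X₂) (hF : FlatMod.IsFinLocFreeOfRank n S.X₃)
    (hAE : RelSpec.IsSymAlg S.X₂ AE jE) (hA1 : RelSpec.IsSymAlg (Coh.structureModule X) A1 j1)
    (hψ : j1 ≫ RelSpec.QCAlg.Hom.toModuleMap ψ = e.inv ≫ S.f ≫ jE)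
    (hε : j1 ≫ RelSpec.QCAlg.Hom.toModuleMap ε = u)
    {δB : ↥(pullback (RelSpec.QCAlg.specMap ψ) (RelSpec.QCAlg.specMap ε)) → ℤ}
    (hBs : Cyc.IsSetup (pullback (RelSpec.QCAlg.specMap ψ) (RelSpec.QCAlg.specMap ε)) δB)
    (hδB : Cyc.DeltaCompat (pullback.fst (RelSpec.QCAlg.specMap ψ) (RelSpec.QCAlg.specMap ε) ≫ AE.π) δB δ)
    {k : ℤ} {α : AlgebraicCycle X ℤ} (hα : α ∈ Cyc.Zk X δ k)
    {γ : AlgebraicCycle (pullback (RelSpec.QCAlg.specMap ψ) (RelSpec.QCAlg.specMap ε) : Scheme.{u}) ℤ}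
    (hγ : ⇑γ = Cyc.pullFun (pullback.fst (RelSpec.QCAlg.specMap ψ) (RelSpec.QCAlg.specMap ε) ≫ AE.π)
      δB δ n ⇑α)
    (h0 : Cyc.RatEquivZero δB (k + n) γ) : Cyc.RatEquivZero δ k α := by
  haveI := hBs.1
  -- the bundles
  obtain ⟨hfE, hlE, hsE⟩ := VecInj.flat_shift hX hE hAE
  obtain ⟨hf1, hl1, hs1⟩ := VecInj.flat_shift hX (PB.Univ.rank_one_structure X) hA1
  obtain ⟨δE, hEs, hδE⟩ := exists_setup AE.π hX
  obtain ⟨δ1, h1s, hδ1⟩ := exists_setup A1.π hX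
  haveI := hEs.1
  haveI := h1s.1
  obtain ⟨AF, jF, hAF⟩ := SymAlg.Main.exists_isSymAlg S.X₃
  obtain ⟨φ, hφ, -⟩ := hAE AF (S.g ≫ jF)
  have hFl := TensorMod.LocFree.of_rank hF
  haveI := VecLine.isClosedImmersion e hS hFl hAE hAF hφ
  have hz := VecLine.isZeroSchemeOf e hS hFl hAE hAF hφ
  have hreg := VecLine.regular e hS hFl hAE hAF hφ
  obtain ⟨hfF, hlF, hsF⟩ := VecInj.flat_shift hX hF hAF
  let i := RelSpec.QCAlg.specMap φ
  have hFs : Cyc.IsSetup AF.spec (fun d => δE (i d)) :=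
    isSetup_of_deltaCompat i hEs (PP.SubSetup.deltaCompat i)
  haveI := hFs.1
  have hδF : Cyc.DeltaCompat AF.π (fun d => δE (i d)) δ := by
    have := Residue.deltaCompat_comp (PP.SubSetup.deltaCompat (δ := δE) i) hδE
    rwa [RelSpec.QCAlg.specMap_π] at this
  -- the complement
  let t := VecLine.coordU S e AE jE ⊤
  let U := locus t
  have hU : Set.range ⇑i = (Set.range ⇑U.ι)ᶜ := by
    rw [Scheme.Opens.range_ι, hz.1]
    ext x
    show (Submodule.Quotient.mk _ : Cyc.secFibre (Coh.structureModule AE.spec) x) = 0 ↔ _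
    rw [VecLine.germ_coord e x, Set.mem_compl_iff, SetLike.mem_coe,
      show (x ∈ U ↔ _) from AE.spec.toRingedSpace.mem_basicOpen (U := ⊤) _ x trivial]
    show (AE.spec.presheaf.germ ⊤ x trivial (VecLine.coord S e AE jE)) •
      (Submodule.Quotient.mk (C1.one x) : Cyc.secFibre (Coh.structureModule AE.spec) x) = 0 ↔ _
    refine ⟨fun h hu => C1Indep.mk_ne_zero (PicLoc.isInvertible_structureModule AE.spec) x (C1.span_one x)
      (hu.smul_eq_zero.1 h), fun hn => ?_⟩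
    rw [← Submodule.Quotient.mk_smul, Submodule.Quotient.mk_eq_zero]
    exact Submodule.smul_mem_smul ((IsLocalRing.mem_maximalIdeal _).2 hn) trivial
  -- the projection to the torsor
  let φB := pullback.fst (RelSpec.QCAlg.specMap ψ) (RelSpec.QCAlg.specMap ε) ≫ AE.π
  let G := locus (coord1 A1 j1)
  let lG := G.ι ≫ A1.π
  haveI := SpecHom.isAffineHom_specMap ψ
  haveI := SpecHom.isAffineHom_specMap ε
  haveI : Surjective lG := by
    obtain ⟨s, ws, -⟩ := SpecHom.exists_hom (A := RelSpec.QCAlg.unit X) (𝟙 X)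
      ⟨(RelSpec.QCAlg.directImage (𝟙 X)).str, Category.id_comp _⟩
    have hu : IsUnit ((SpecHom.hom (𝟙 X) (s ≫ RelSpec.QCAlg.specMap ε)
        (by rw [Category.assoc, RelSpec.QCAlg.specMap_π, ws])).hom.app (op ⊤) (coord1 A1 j1)) := by
      rw [value_specMap_ε (𝟙 X) hA1 hε s ws]
      exact isUnit_val.map _
    refine ⟨fun x => ⟨⟨(s ≫ RelSpec.QCAlg.specMap ε) x,
      range_subset_locus _ (𝟙 X) _ _ hu ⟨x, rfl⟩⟩, ?_⟩⟩
    show A1.π ((s ≫ RelSpec.QCAlg.specMap ε) x) = x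
    rw [← Scheme.Hom.comp_apply, Category.assoc, RelSpec.QCAlg.specMap_π, ws]
    rfl
  obtain ⟨b, hb⟩ := VecTorsor.exists_iso e hAE hA1 hψ hε
  let r := b.hom ≫ pullback.fst φB lG
  haveI : Flat (pullback.fst φB lG ≫ φB) := by
    have e1 : pullback.fst φB lG ≫ φB = b.inv ≫ U.ι ≫ AE.π := by
      rw [← hb, Iso.inv_hom_id_assoc]
    rw [e1]
    infer_instance
  haveI : Flat φB := Flat55.FlatDescend.flat_of_comp (pullback.fst φB lG) φB
  haveI : LocallyOfFiniteType (RelSpec.QCAlg.specMap ε) := by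
    haveI : IsIso (RelSpec.QCAlg.unit X).π := isIso_unit_π X
    haveI : LocallyOfFiniteType (RelSpec.QCAlg.specMap ε ≫ A1.π) := by
      rw [RelSpec.QCAlg.specMap_π]; infer_instance
    exact locallyOfFiniteType_of_comp _ A1.π
  haveI : LocallyOfFiniteType φB := inferInstance
  have sqr : IsPullback (b.hom ≫ pullback.snd φB lG) r lG φB :=
    (IsPullback.of_hasPullback φB lG).flip.of_iso b.symm (Iso.refl _) (Iso.refl _) (Iso.refl _)
      (by simp) (by simp [r]) (by simp) (by simp)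
  have hδG : Cyc.DeltaCompat lG (fun a => δ1 (G.ι a)) δ :=
    Residue.deltaCompat_comp (deltaCompat_restrict G.ι) hδ1
  have hrelG : Cyc.HasRelDim lG 1 := by
    refine hasRelDim_of_shift lG hδG ?_
    have := FibLen.shift_comp G.ι A1.π _ δ1 δ 0 ((1 : ℕ) : ℤ) (shift_restrict G.ι) (hs1 δ1 hδ1)
    rwa [zero_add] at this
  have hrr : Cyc.HasRelDim r 1 := (Groth.Agent.S9358.result lG φB _ r sqr 1).2.2 hrelG
  haveI : Flat r := MorphismProperty.of_isPullback sqr inferInstance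
  haveI : LocallyOfFiniteType r := MorphismProperty.of_isPullback sqr inferInstance
  have hrφ : r ≫ φB = U.ι ≫ AE.π := by rw [← hb, Category.assoc]
  haveI : IsLocallyNoetherian (U : Scheme.{u}) := LocallyOfFiniteType.isLocallyNoetherian U.ι
  have hδU := PP.OpenImm.isDimFun U.ι hEs.2.2
  have hcU : Cyc.DeltaCompat (U.ι ≫ AE.π) (fun a => δE (U.ι a)) δ :=
    Residue.deltaCompat_comp (deltaCompat_restrict U.ι) hδE
  have hsU := FibLen.shift_comp U.ι AE.π _ δE δ 0 ((n + 1 : ℕ) : ℤ) (shift_restrict U.ι) (hsE δE hδE)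
  have hsr := FP.Main.shift_of_hasRelDim r hrr (Bivar.compat_of_comp r hrφ hδB hcU)
  have hsE1 : FP.Main.Shift AE.π δE δ ((n + 1 : ℕ) : ℤ) := hsE δE hδE
  -- the class upstairs
  obtain ⟨β, hβ, eβ⟩ := PullExists.exists_pullFun (δX := δE) AE.π ((n + 1 : ℕ) : ℤ) hα
  obtain ⟨γ', hγ', eγ'⟩ := PullExists.exists_pullFun (δX := δB) φB (n : ℤ) hα
  obtain rfl : γ' = γ := Function.locallyFinsuppWithin.ext fun x => congrFun (eγ'.trans hγ.symm) x
  haveI : Surjective r := by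
    haveI : Surjective (pullback.fst φB lG) := inferInstance
    infer_instance
  have hsB : FP.Main.Shift φB δB δ (n : ℤ) := shift_of_cover r φB hsr (shift_congr hrφ.symm hsU)
  have h1 : pull hEs.2.2 hX.2.2 AE.π hsE1 (cls δ k α hα) = cls δE (k + (n + 1 : ℕ)) β hβ :=
    pull_cls hEs.2.2 hX.2.2 AE.π hsE1 hα rfl hβ eβ
  have h2 : pull hBs.2.2 hX.2.2 φB hsB (cls δ k α hα) = 0 := by
    rw [pull_cls hBs.2.2 hX.2.2 φB hsB hα rfl hγ' eγ']
    exact (cls_eq_zero_iff hBs.2.2 hγ').2 h0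
  have hz0 : pull (PP.OpenImm.isDimFun U.ι hEs.2.2) hEs.2.2 U.ι (shift_restrict U.ι)
      (pull hEs.2.2 hX.2.2 AE.π hsE1 (cls δ k α hα)) = 0 := by
    rw [pull_comp hδU hEs.2.2 U.ι (shift_restrict U.ι) hX.2.2 AE.π hsE1 (U.ι ≫ AE.π) rfl hsU rfl,
      ← pull_comp hδU hBs.2.2 r hsr hX.2.2 φB hsB (U.ι ≫ AE.π) hrφ hsU (by push_cast; ring), h2, map_zero]
  obtain ⟨y, hy⟩ := exists_push_of_pull_eq_zero U.ι i hU hEs.2.2 hz0
  have hO := PicLoc.isInvertible_structureModule AE.spec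
  obtain ⟨w, hw⟩ := exists_sections hO
  obtain ⟨ζ, hζ, eζ⟩ := exists_gys_cycle i hEs.2.2 hO (s := VecLine.coord S e AE jE) hw hβ
  obtain ⟨θ, hθ, eθ⟩ := PullExists.exists_pullFun (δX := fun d => δE (i d)) AF.π (n : ℤ) hα
  have hiπ : i ≫ AE.π = AF.π := RelSpec.QCAlg.specMap_π φ
  have hre : Cyc.RatEquiv (fun d => δE (i d)) (k + n) ζ θ := by
    haveI : Flat (i ≫ AE.π) := by rw [hiπ]; infer_instance
    refine Gys.RelCartier.ratEquiv_gysin (k := k - 1) AE.π i hEs.2.2 hX.2.2 hsE1 (c' := (n : ℤ)) ?_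
      (by push_cast; ring) (by ring) hO hz hreg (α := α) (by rwa [sub_add_cancel]) w hw ζ θ ?_ ?_
    · exact shift_congr hiπ.symm (hsF _ hδF)
    · intro d
      rw [eζ, eβ]
    · rw [eθ]
      simp only [hiπ]
  have hζ' : ζ ∈ Cyc.Zk AF.spec (fun d => δE (i d)) (k + n) := by
    rwa [show k + ((n + 1 : ℕ) : ℤ) - 1 = k + n by push_cast; ring] at hζ
  refine VecInj.pull_injective hX hF hAF hFs hδF hα eθ ((cls_eq_zero_iff hFs.2.2 hθ).1 ?_)
  rw [← (cls_eq_iff hFs.2.2 hζ' hθ).2 hre,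
    ← gys_cls i hEs.2.2 hO hz hw hβ (show k + (n : ℤ) = k + ((n + 1 : ℕ) : ℤ) - 1 by push_cast; ring) hζ' eζ,
    ← h1, ← hy, Gys.Commute.gys_push_self i hEs.2.2 hO hz hw rfl hFs.2.2]
  rw [c1_congr (N := Coh.structureModule AF.spec) (Gys.Closed.isDimFun i hEs.2.2)
    (PicLoc.isInvertible_pullback i hO) (PicLoc.isInvertible_structureModule AF.spec)
    (PicLoc.pullbackStructureIso i),
    c1_structureModule _ (PicLoc.isInvertible_structureModule AF.spec) hFs]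
  rfl

end Groth.Agent.Lib.Cyc.CH.VecAffine
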