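import Groth.Agent.Lib.Cyc.CH.Completion
import Groth.Agent.Lib.Cyc.CH.QuotRel
import Groth.Agent.Lib.Cyc.CH.Restrict
import Groth.Agent.Lib.Cyc.CH.Setup

/-!
# Flat pullback to a vector bundle is injective on Chow groups
-/

set_option autoImplicit false
set_option linter.style.haveILetI false
universe u

open CategoryTheory CategoryTheory.Limits AlgebraicGeometry

noncomputable section

namespace Groth.Agent.Lib.Cyc.CH.VecInj

open Groth.Agent.Lib Groth.Agent.Lib.Cyc

/-- Dimension weights over the same morphism agree. -/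
theorem deltaCompat_eq {X Y : Scheme.{u}} {f : Y ⟶ X} {δ : X → ℤ} {a b : Y → ℤ}
    (ha : Cyc.DeltaCompat f a δ) (hb : Cyc.DeltaCompat f b δ) : a = b := funext fun y => by
  obtain ⟨m, hm, hm'⟩ := Residue.exists_trdegAt ha y
  obtain ⟨k, hk, hk'⟩ := Residue.exists_trdegAt hb y
  rw [hm] at hk
  rw [hm', hk', show m = k by exact_mod_cast hk]

variable {X P W : Scheme.{u}} [IsLocallyNoetherian X] [IsLocallyNoetherian P] [IsLocallyNoetherian W]
  {π : P ⟶ X} [IsProper π] {δ : X → ℤ} {δP : P → ℤ} {E : X.Modules} {O1 : P.Modules}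
  (ι : W ⟶ P) [IsClosedImmersion ι]

/-- A class on the base that pulls back to a class supported on the divisor at infinity is zero. -/
theorem eq_zero_of_pb_eq_push {m : ℕ} (hX : Cyc.IsSetup X δ) (hP : Cyc.IsSetup P δP)
    (B : Bdl π O1 (m + 1) δP δ) (hE : FlatMod.IsFinLocFreeOfRank (m + 1) E)
    (φ : (Scheme.Modules.pullback (ι ≫ π)).obj E ⟶ (Scheme.Modules.pullback ι).obj O1) [Epi φ]
    {x : Tot X δ} {y : Tot W (fun w => δP (ι w))}
    (e : push (Gys.Closed.isDimFun ι B.dimP) B.dimP ι (PP.SubSetup.deltaCompat ι) y = B.pb x) :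
    x = 0 := by
  obtain ⟨PE, πE, OE, qE, hPE, hp, -⟩ := BdlExists.exists_proper E (TensorMod.LocFree.of_rank hE)
  haveI := hp
  obtain ⟨δE, hEs, hδE⟩ := exists_setup πE hX
  haveI := hEs.1
  have BE := Bdl.of_isProjBundle hX.2.2 hEs.2.2 hδE hPE hE
  have sqP : IsPullback (pullback.fst πE π) (pullback.snd πE π) πE π := IsPullback.of_hasPullback πE π
  obtain ⟨δQP, hQP, hδQP⟩ := exists_setup (pullback.snd πE π) hP
  haveI := hQP.1
  have BP := BE.baseChange sqP B.dimP hQP.2.2 hδQP
  have sqW : IsPullback (pullback.fst (pullback.snd πE π) ι) (pullback.snd (pullback.snd πE π) ι)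
      (pullback.snd πE π) ι := IsPullback.of_hasPullback _ _
  have hW : Cyc.IsSetup W (fun w => δP (ι w)) := PP.SubSetup.isSetup ι hP
  obtain ⟨δQW, hQW, hδQW⟩ := exists_setup (pullback.snd (pullback.snd πE π) ι) hW
  haveI := hQW.1
  have BW := BP.baseChange sqW hW.2.2 hQW.2.2 hδQW
  have hM : PicF.IsInvertible ((Scheme.Modules.pullback ι).obj O1) := PicLoc.isInvertible_pullback ι B.inv
  haveI := BE.flat
  haveI := B.flat
  haveI := BP.flat
  have sqP' := sqP.flip
  have hδfst : Cyc.DeltaCompat (pullback.fst πE π) δQP δE :=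
    deltaCompat_of_comm sqP.w hδE hδQP B.compat
  haveI : IsProper (pullback.fst πE π) := inferInstance
  have B' := B.baseChange sqP' BE.dimP hQP.2.2 hδfst
  haveI := B'.flat
  have hpow : ∀ (i : ℕ) (v : Tot W fun w => δP (ι w)),
      (B.h ^ i) (push (Gys.Closed.isDimFun ι B.dimP) B.dimP ι (PP.SubSetup.deltaCompat ι) v) =
        push (Gys.Closed.isDimFun ι B.dimP) B.dimP ι (PP.SubSetup.deltaCompat ι)
          ((c1 _ hW.2.2 hM ^ i : AddMonoid.End (Tot W fun w => δP (ι w))) v) := by
    intro i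
    induction i with
    | zero => intro v; rfl
    | succ i ih =>
      intro v
      rw [pow_succ', pow_succ']
      show B.h _ = push _ _ _ _ (c1 _ hW.2.2 hM _)
      refine (congrArg B.h (ih v)).trans ?_
      exact (push_c1 _ B.dimP ι (PP.SubSetup.deltaCompat ι) B.inv _).symm
  have hrel := quot_rel hPE (sqW.paste_horiz sqP) BW hW.2.1
    ((Scheme.Modules.pullbackComp (pullback.fst (pullback.snd πE π) ι) (pullback.fst πE π)).app OE)
    hM φ y
  have hcomm : ∀ (j i : ℕ) (z : Tot P δP), BP.ch j ((B.h ^ i) z) = (B.h ^ i) (BP.ch j z) := by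
    intro j i
    induction i with
    | zero => intro z; rfl
    | succ i ih =>
      intro z
      rw [pow_succ']
      show BP.ch j (B.h _) = B.h _
      exact (BP.ch_c1 B.inv j _).symm.trans (congrArg B.h (ih z))
  have h0 : ∑ i ∈ Finset.range (m + 2), ((-1 : ℤ) ^ i) • B.term i (BE.ch (m + 1 - i) x) = 0 := by
    refine Eq.trans (Finset.sum_congr rfl fun i _ => ?_)
      ((map_sum (push (Gys.Closed.isDimFun ι B.dimP) B.dimP ι (PP.SubSetup.deltaCompat ι)) _ _).symm.trans
        ((congrArg _ hrel).trans (map_zero _)))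
    rw [map_zsmul]
    congr 1
    rw [Bdl.term_apply, BP.push_ch sqW BW (PP.SubSetup.deltaCompat ι)]
    refine Eq.trans ?_ (congrArg (BP.ch (m + 1 - i)) (hpow i y))
    rw [e, hcomm]
    exact congrArg (B.h ^ i) (BE.pull_ch sqP BP B.shift B'.shift (m + 1 - i) x)
  rw [Finset.sum_range] at h0
  have h1 := B.inj (a := fun i : Fin (m + 2) => ((-1 : ℤ) ^ (i : ℕ)) • BE.ch (m + 1 - (i : ℕ)) x)
    (by simpa only [map_zsmul] using h0) (Fin.last (m + 1))
  simp only [Fin.val_last, Nat.sub_self, Bdl.ch_zero] at h1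
  rcases neg_one_pow_eq_or ℤ (m + 1) with h | h <;> rw [h] at h1
  · rw [one_smul] at h1
    exact h1
  · rw [neg_one_zsmul, neg_eq_zero] at h1
    exact h1

/-- Pullback to a vector bundle is injective. -/
theorem pull_injective (hX : Cyc.IsSetup X δ) [E.IsQuasicoherent] {r : ℕ}
    (hE : FlatMod.IsFinLocFreeOfRank r E) {A : RelSpec.QCAlg X} {j : E ⟶ A.toModule}
    (hA : RelSpec.IsSymAlg E A j) {δA : A.spec → ℤ} (hAs : Cyc.IsSetup A.spec δA)
    (hδ : Cyc.DeltaCompat A.π δA δ) {k : ℤ} {α : AlgebraicCycle X ℤ} (hα : α ∈ Cyc.Zk X δ k)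
    {γ : AlgebraicCycle A.spec ℤ} (hγ : ⇑γ = Cyc.pullFun A.π δA δ r ⇑α)
    (h0 : Cyc.RatEquivZero δA (k + r) γ) : Cyc.RatEquivZero δ k α := by
  have hF := AddLine.rank hE
  obtain ⟨P, π, O1, q, hP, hp, -⟩ :=
    BdlExists.exists_proper (E ⊞ Coh.structureModule X) (TensorMod.LocFree.of_rank hF)
  haveI := hp
  obtain ⟨δP, hPs, hδP⟩ := exists_setup π hX
  haveI := hPs.1
  haveI := hAs.1
  have B := Bdl.of_isProjBundle hX.2.2 hPs.2.2 hδP hP hF
  haveI := B.flat
  obtain ⟨W, ι, hι, hinf, hW⟩ := Completion.exists_zeroLocus (r := r) q (PB.Univ.invertible hP)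
  haveI := hι
  haveI : IsLocallyNoetherian W := LocallyOfFiniteType.isLocallyNoetherian ι
  obtain ⟨h, hhπ, -, hh, hrange, -⟩ := Completion.exists_openImmersion q hE hA hP ι hW
  haveI := hh
  have hδh : (fun a => δP (h a)) = δA := by
    refine deltaCompat_eq (f := h ≫ π) (Residue.deltaCompat_comp (deltaCompat_restrict h) hδP) ?_
    rw [hhπ]
    exact hδ
  subst hδh
  have hsh : FP.Main.Shift (h ≫ π) (fun a => δP (h a)) δ ((0 : ℤ) + r) :=
    FibLen.shift_comp h π _ δP δ 0 r (shift_restrict h) B.shift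
  obtain ⟨β, hβ, hβ'⟩ := PullExists.exists_pullFun (δX := δP) π (r : ℤ) hα
  have hpb : B.pb (cls δ k α hα) = cls δP (k + r) β hβ := B.pb_cls hα rfl hβ hβ'
  obtain ⟨γ', hγ', hγ''⟩ := PullExists.exists_pullFun (δX := fun a => δP (h a)) h 0 hβ
  haveI : Flat (h ≫ π) := inferInstance
  have hγmem : γ ∈ Cyc.Zk A.spec (fun a => δP (h a)) (k + r) := by
    obtain ⟨g, hg, hg'⟩ := PullExists.exists_pullFun (δX := fun a => δP (h a)) A.π (r : ℤ) hα
    intro a ha
    rw [hγ, ← hg']
    exact hg a ha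
  have hz : pull (PP.OpenImm.isDimFun h B.dimP) B.dimP h (shift_restrict h) (B.pb (cls δ k α hα)) = 0 := by
    refine (pull_comp (PP.OpenImm.isDimFun h B.dimP) B.dimP h (shift_restrict h) B.dimX π B.shift
      (h ≫ π) rfl hsh rfl _).trans ?_
    rw [pull_cls (PP.OpenImm.isDimFun h B.dimP) B.dimX (h ≫ π) hsh hα
      (show k + r = k + ((0 : ℤ) + r) by ring) hγmem (by rw [hγ, zero_add]; simp only [hhπ])]
    exact (cls_eq_zero_iff (PP.OpenImm.isDimFun h B.dimP) hγmem).2 h0
  obtain ⟨y, hy⟩ := exists_push_of_pull_eq_zero h ι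
    (by rw [hrange, compl_compl]) B.dimP hz
  refine (cls_eq_zero_iff hX.2.2 hα).1 ?_
  -- the quotient on the divisor
  haveI : PreservesColimitsOfSize.{0, 0} (Scheme.Modules.pullback ι) :=
    (Scheme.Modules.pullbackPushforwardAdjunction ι).leftAdjoint_preservesColimits
  haveI := hP.epi
  haveI : Epi ((Scheme.Modules.pullback ι).map q) := inferInstance
  let ψ : (Scheme.Modules.pullback ι).obj ((Scheme.Modules.pullback π).obj E) ⟶
      (Scheme.Modules.pullback ι).obj O1 :=
    (Scheme.Modules.pullback ι).map ((Scheme.Modules.pullback π).map biprod.inl) ≫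
      (Scheme.Modules.pullback ι).map q
  haveI : (Scheme.Modules.pullback ι).Additive := inferInstance
  haveI : (Scheme.Modules.pullback π).Additive := inferInstance
  have hfac : (Scheme.Modules.pullback ι).map q =
      (Scheme.Modules.pullback ι).map ((Scheme.Modules.pullback π).map (biprod.fst : E ⊞ Coh.structureModule X ⟶ E)) ≫ ψ := by
    have h1 : (Scheme.Modules.pullback ι).map (Completion.inf q) = 0 := hinf
    conv_lhs => rw [← Category.id_comp ((Scheme.Modules.pullback ι).map q),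
      ← CategoryTheory.Functor.map_id, ← CategoryTheory.Functor.map_id, ← biprod.total, Functor.map_add,
      Functor.map_add, Functor.map_comp, Functor.map_comp, Functor.map_comp, Functor.map_comp,
      Preadditive.add_comp, Category.assoc, Category.assoc]
    rw [show (Scheme.Modules.pullback ι).map ((Scheme.Modules.pullback π).map biprod.inr) ≫
      (Scheme.Modules.pullback ι).map q = 0 by rw [← Functor.map_comp]; exact h1, comp_zero, add_zero]
  haveI : Epi ψ := by
    haveI : Epi ((Scheme.Modules.pullback ι).map ((Scheme.Modules.pullback π).map (biprod.fst : E ⊞ Coh.structureModule X ⟶ E)) ≫ ψ) := by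
      rw [← hfac]; infer_instance
    exact epi_of_epi ((Scheme.Modules.pullback ι).map ((Scheme.Modules.pullback π).map (biprod.fst : E ⊞ Coh.structureModule X ⟶ E))) ψ
  let φ : (Scheme.Modules.pullback (ι ≫ π)).obj E ⟶ (Scheme.Modules.pullback ι).obj O1 :=
    (Scheme.Modules.pullbackComp ι π).inv.app E ≫ ψ
  haveI : Epi φ := inferInstance
  rcases r with _ | m
  · -- no divisor at infinity
    haveI : IsEmpty W := by
      obtain ⟨PE, πE, OE, qE, hPE, -, -⟩ := BdlExists.exists_proper E (TensorMod.LocFree.of_rank hE)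
      haveI := BdlUniq.isEmpty hPE hE
      obtain ⟨g, -, -⟩ := hPE.univ W (ι ≫ π) _
        (TensorMod.LocFree.of_isInvertible (PicLoc.isInvertible_pullback ι B.inv)) φ inferInstance
      exact ⟨fun w => isEmptyElim (g w)⟩
    have hy0 : y = 0 := eq_zero_of_proj fun d => by
      obtain ⟨a, ha, e⟩ := exists_rep d y
      rw [e]
      refine Eq.trans (cls_congr rfl ?_) cls_zero
      funext w
      exact isEmptyElim w
    rw [hy0, map_zero] at hy
    have := B.inj (a := fun _ : Fin 1 => cls δ k α hα) (by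
      rw [Fin.sum_univ_one]
      exact (B.term_apply 0 _).trans hy.symm) 0
    exact this
  · exact eq_zero_of_pb_eq_push ι hX hPs B hE φ hy

end Groth.Agent.Lib.Cyc.CH.VecInj
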