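import Groth.Agent.Lib.Cyc.CH.VecPoly
import Groth.Agent.Lib.Cyc.CH.VecInj
import Groth.Agent.Lib.Cyc.CH.Cover
import Groth.Agent.Lib.Cyc.CH.GysSelf
import Groth.Agent.Lib.Cyc.AffFib.BoundDescent
import Groth.Agent.Lib.Cyc.Gys.RelCartier
import Groth.Agent.Lib.Cyc.PieceCover

/-!
# Push forward from a sub bundle with trivial quotient line vanishes
-/

set_option autoImplicit false
set_option linter.style.haveILetI false
universe u

open CategoryTheory CategoryTheory.Limits AlgebraicGeometry TopologicalSpace Opposite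

noncomputable section

namespace Groth.Agent.Lib.Cyc.CH.VecKill

open Groth.Agent.Lib Groth.Agent.Lib.Cyc VecTriv AffFib

variable {X : Scheme.{u}}

/-- The rank is determined by the fibre. -/
theorem IsPoly.rank_eq {A : RelSpec.QCAlg X} [IsLocallyNoetherian A.spec] {δA : A.spec → ℤ}
    (hd : Cyc.IsDimFun A.spec δA) {U U' : X.Opens} {r r' : ℕ} (h : IsPoly A U r) (h' : IsPoly A U' r')
    {η : X} (hη : η ∈ U) (hη' : η ∈ U') : r = r' := by
  obtain ⟨ζ, hζ, -, htr, hall⟩ := h.exists_gen hd hη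
  obtain ⟨ζ', hζ', -, htr', hall'⟩ := h'.exists_gen hd hη'
  obtain rfl : ζ = ζ' := ((hall ζ' hζ').1.antisymm (hall' ζ hζ).1).eq
  exact Nat.cast_injective (R := Cardinal.{u}) (htr.symm.trans htr')

/-- The fibre data relative to the shifted weight. -/
theorem IsPoly.exists_gen_shift {A : RelSpec.QCAlg X} [IsLocallyNoetherian A.spec] {δA : A.spec → ℤ}
    {δ : X → ℤ} (hd : Cyc.IsDimFun A.spec δA) (hδ : Cyc.DeltaCompat A.π δA δ) {U : X.Opens} {r : ℕ}
    (h : IsPoly A U r) {η : X} (hη : η ∈ U) : ∃ ζ : A.spec, A.π ζ = η ∧ δA ζ = δ η + r ∧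
      FibLen.fibLen A.π ζ = 1 ∧ ∀ x : A.spec, A.π x = η → ζ ⤳ x ∧
        (x ≠ ζ → Descent.KilledInFibre A.π δA x) := by
  obtain ⟨ζ, hζ, hlen, htr, hall⟩ := h.exists_gen hd hη
  obtain ⟨m, hm, hm'⟩ := Residue.exists_trdegAt hδ ζ
  rw [htr] at hm
  obtain rfl : r = m := by exact_mod_cast hm
  exact ⟨ζ, hζ, by rw [hm', hζ], hlen, hall⟩

theorem shift_of_gen {Y : Scheme.{u}} (f : Y ⟶ X) {δY : Y → ℤ} {δ : X → ℤ} {r : ℤ}
    (h : BoundDescent.Gen f δY δ r) : FP.Main.Shift f δY δ r := fun y hy => by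
  obtain ⟨ζ, hζ, hδ, -, hall⟩ := h (f y)
  rw [← hy ζ hζ (hall y rfl).1, hδ, hζ]

theorem shift_congr {P : Scheme.{u}} {g g' : P ⟶ X} {δP : P → ℤ} {δ : X → ℤ} {c : ℤ} (e : g = g')
    (h : FP.Main.Shift g δP δ c) : FP.Main.Shift g' δP δ c := e ▸ h

/-- The push forward of a cycle on the sub bundle is rationally trivial. -/
theorem killed {δ : X → ℤ} (hX : Cyc.IsSetup X δ) {S : ShortComplex X.Modules} (hS : S.ShortExact)
    (e : S.X₁ ≅ Coh.structureModule X) [S.X₂.IsQuasicoherent] [S.X₃.IsQuasicoherent]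
    (hF : FlatMod.IsFinLocFree S.X₃) {AE AF : RelSpec.QCAlg X} {jE : S.X₂ ⟶ AE.toModule}
    {jF : S.X₃ ⟶ AF.toModule} (hAE : RelSpec.IsSymAlg S.X₂ AE jE) (hAF : RelSpec.IsSymAlg S.X₃ AF jF)
    {φ : AE ⟶ AF} (hφ : jE ≫ RelSpec.QCAlg.Hom.toModuleMap φ = S.g ≫ jF)
    [QuasiCompact (RelSpec.QCAlg.specMap φ)] {δE : AE.spec → ℤ} (hEs : Cyc.IsSetup AE.spec δE)
    (hδE : Cyc.DeltaCompat AE.π δE δ) {δF : AF.spec → ℤ} (hδF : Cyc.DeltaCompat AF.π δF δ) {k : ℤ}
    {α : AlgebraicCycle AF.spec ℤ} (hα : α ∈ Cyc.Zk AF.spec δF k) :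
    Cyc.RatEquivZero δE k (AlgebraicCycle.map (RelSpec.QCAlg.specMap φ) δF δE α) := by
  classical
  haveI := hX.1
  haveI := hEs.1
  haveI := VecLine.isClosedImmersion e hS hF hAE hAF hφ
  have hz := VecLine.isZeroSchemeOf e hS hF hAE hAF hφ
  have hreg := VecLine.regular e hS hF hAE hAF hφ
  let i := RelSpec.QCAlg.specMap φ
  have hiπ : i ≫ AE.π = AF.π := RelSpec.QCAlg.specMap_π φ
  haveI : IsLocallyNoetherian AF.spec := LocallyOfFiniteType.isLocallyNoetherian i
  obtain rfl : (fun d => δE (i d)) = δF := VecInj.deltaCompat_eq (f := AF.π) (by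
    rw [← hiπ]
    exact Residue.deltaCompat_comp (PP.SubSetup.deltaCompat i) hδE) hδF
  have hdF := Gys.Closed.isDimFun i hEs.2.2
  choose U m hxU hPF hPE using exists_poly e hS hF hAE hAF
  obtain ⟨hfE, hlE⟩ := flat_lft (A := AE) fun x => ⟨U x, _, hxU x, hPE x⟩
  obtain ⟨hfF, hlF⟩ := flat_lft (A := AF) fun x => ⟨U x, _, hxU x, hPF x⟩
  haveI : Flat (i ≫ AE.π) := by rw [hiπ]; exact hfF
  have hm : ∀ {x η : X}, η ∈ U x → m η = m x := fun {x η} hη =>
    IsPoly.rank_eq hdF (hPF η) (hPF x) (hxU η) hη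
  -- the weight on the base
  let δ' : X → ℤ := fun x => δ x + m x
  have hd' : Cyc.IsDimFun X δ' := by
    intro a b hab hne
    have e : m a = m b := hm (hab.mem_open (U b).2 (hxU b))
    obtain ⟨h1, h2⟩ := hX.2.2 a b hab hne
    exact ⟨by simp only [δ']; omega, fun H => by have := h2 H; simp only [δ']; omega⟩
  have hgenF : BoundDescent.Gen AF.π (fun d => δE (i d)) δ' 0 := fun η => by
    obtain ⟨ζ, h1, h2, h3, h4⟩ := IsPoly.exists_gen_shift hdF hδF (hPF η) (hxU η)
    exact ⟨ζ, h1, by simp only [δ']; omega, h3, h4⟩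
  have hgenE : BoundDescent.Gen AE.π δE δ' 1 := fun η => by
    obtain ⟨ζ, h1, h2, h3, h4⟩ := IsPoly.exists_gen_shift hEs.2.2 hδE (hPE η) (hxU η)
    exact ⟨ζ, h1, by simp only [δ']; push_cast at h2; omega, h3, h4⟩
  have hsF := shift_of_gen AF.π hgenF
  have hsE := shift_of_gen AE.π hgenE
  -- the pieces
  let W : ULift.{u} ℕ → X.Opens := fun N => ⨆ (x : X) (_ : m x = N.down), U x
  have hW : ∀ {N : ULift.{u} ℕ} {x : X}, x ∈ W N ↔ m x = N.down := fun {N x} => by
    refine ⟨fun h => ?_, fun h => Opens.mem_iSup.2 ⟨x, Opens.mem_iSup.2 ⟨h, hxU x⟩⟩⟩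
    obtain ⟨y, h⟩ := Opens.mem_iSup.1 h
    obtain ⟨hy, h⟩ := Opens.mem_iSup.1 h
    exact (hm h).trans hy
  let V : ULift.{u} ℕ → AE.spec.Opens := fun N => AE.π ⁻¹ᵁ W N
  have hV : PieceCover.IsPieces fun N => (V N).ι :=
    { isOpen := fun N => inferInstance
      disj := fun N N' hne => by
        rw [Scheme.Opens.range_ι, Scheme.Opens.range_ι]
        refine Set.disjoint_left.2 fun a ha ha' => hne (ULift.ext _ _ ?_)
        exact (hW.1 ha).symm.trans (hW.1 ha')
      cov := fun a => ⟨⟨m (AE.π a)⟩, by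
        rw [Scheme.Opens.range_ι]
        exact hW.2 rfl⟩ }
  have hαE : AlgebraicCycle.map i (fun d => δE (i d)) δE α ∈ Cyc.Zk AE.spec δE k := CH.map_mem i hα
  haveI : ∀ N, IsLocallyNoetherian (V N : Scheme.{u}) := fun N =>
    LocallyOfFiniteType.isLocallyNoetherian (V N).ι
  have hres : ∀ N, ∃ β : AlgebraicCycle (V N : Scheme.{u}) ℤ,
      (∀ a, β a = AlgebraicCycle.map i (fun d => δE (i d)) δE α ((V N).ι a)) ∧
      Cyc.RatEquivZero (fun a => δE ((V N).ι a)) k β := by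
    intro N
    let S' : Set AF.spec := {d | m (AF.π d) = N.down}
    let αN : AlgebraicCycle AF.spec ℤ := ⟨Set.indicator S' α, fun _ _ => trivial, fun d hd => by
      obtain ⟨t, ht, hfin⟩ := α.supportLocallyFiniteWithinDomain' d hd
      exact ⟨t, ht, hfin.subset fun z hz => ⟨hz.1, fun h0 => hz.2 (by
        by_cases hzS : z ∈ S'
        · rw [Set.indicator_of_mem hzS]; exact h0
        · exact Set.indicator_of_notMem hzS _)⟩⟩⟩
    have hαN : αN ∈ Cyc.Zk AF.spec (fun d => δE (i d)) (k + 0) := fun d hd => by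
      show Set.indicator S' α d = 0
      by_cases hdS : d ∈ S'
      · rw [Set.indicator_of_mem hdS]; exact hα d (by simpa using hd)
      · exact Set.indicator_of_notMem hdS _
    obtain ⟨αY, θ, hαY, eθ, hθr⟩ := BoundDescent.exists_pullback_of_bound AF.π hdF hd' hgenF k
      (N := N.down) hαN fun d hd => by
        have hdS : d ∈ S' := by
          by_contra h
          exact hd (Set.indicator_of_notMem h _)
        have h1 := Residue.deltaY_le hδF d
        have h2 : δE (i d) = k + 0 := by by_contra hne; exact hd (hαN d hne)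
        simp only [δ']
        have h3 : m (AF.π d) = N.down := hdS
        omega
    obtain ⟨β, hβ, eβ⟩ := PullExists.exists_pullFun (δX := δE) AE.π (1 : ℤ) hαY
    obtain ⟨θ', hθ', eθ'⟩ := PullExists.exists_pullFun (δX := fun d => δE (i d)) AF.π (0 : ℤ) hαY
    obtain rfl : θ' = θ := Function.locallyFinsuppWithin.ext fun x => congrFun (eθ'.trans eθ.symm) x
    have hO := PicLoc.isInvertible_structureModule AE.spec
    obtain ⟨w, hw⟩ := exists_sections hO
    obtain ⟨ζ, hζ, eζ⟩ := exists_gys_cycle i hEs.2.2 hO (s := VecLine.coord S e AE jE) hw hβ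
    have hre : Cyc.RatEquiv (fun d => δE (i d)) (k + 0) ζ θ' := by
      refine Gys.RelCartier.ratEquiv_gysin (k := k - 1) AE.π i hEs.2.2 hd' hsE (c' := 0) ?_
        (by ring) (by ring) hO hz hreg (α := αY) (by rwa [sub_add_cancel]) w hw ζ θ' ?_ ?_
      · exact shift_congr hiπ.symm hsF
      · intro d
        rw [eζ, eβ]
      · rw [eθ]
        simp only [hiπ]
    have hζ' : ζ ∈ Cyc.Zk AF.spec (fun d => δE (i d)) (k + 0) := by
      rwa [show k + 1 - 1 = k + 0 by ring] at hζ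
    have h0 : push hdF hEs.2.2 i (PP.SubSetup.deltaCompat i) (cls (fun d => δE (i d)) (k + 0) αN hαN) = 0 := by
      rw [(cls_eq_iff hdF hαN hθ').2 hθr, ← (cls_eq_iff hdF hζ' hθ').2 hre,
        ← gys_cls i hEs.2.2 hO hz hw hβ (show k + 0 = k + 1 - 1 by ring) hζ' eζ,
        push_gys i hEs.2.2 hO hz hw (PP.SubSetup.deltaCompat i),
        c1_structureModule _ hO hEs]
      rfl
    have hmapN : AlgebraicCycle.map i (fun d => δE (i d)) δE αN ∈ Cyc.Zk AE.spec δE k :=
      CH.map_mem i (by simpa using hαN)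
    rw [push_cls hdF hEs.2.2 i (PP.SubSetup.deltaCompat i) hαN (add_zero k).symm hmapN] at h0
    obtain ⟨b, hb, eb⟩ := PullExists.exists_pullFun (δX := fun a => δE ((V N).ι a)) (V N).ι 0 hmapN
    rw [add_zero] at hb
    refine ⟨b, fun a => ?_, ?_⟩
    · rw [eb, pullFun_restrict]
      by_cases hr : (V N).ι a ∈ Set.range ⇑i
      · obtain ⟨d, hd⟩ := hr
        rw [← hd, Gys.Closed.map_apply_image, Gys.Closed.map_apply_image]
        refine Set.indicator_of_mem ?_ _
        have h1 : (V N).ι a ∈ V N := a.2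
        rw [← hd] at h1
        show m (AF.π d) = N.down
        rw [← hiπ, Scheme.Hom.comp_apply]
        exact hW.1 h1
      · rw [Gys.Closed.map_apply_of_not_mem _ _ hr, Gys.Closed.map_apply_of_not_mem _ _ hr]
    · have hdV := PP.OpenImm.isDimFun (V N).ι hEs.2.2
      refine (cls_eq_zero_iff hdV hb).1 ?_
      rw [← pull_cls hdV hEs.2.2 (V N).ι (shift_restrict (V N).ι) hmapN (add_zero k).symm hb eb, h0, map_zero]
  choose β hβ hβ0 using hres
  exact hV.ratEquivZero hEs.2.2 _ β hβ hβ0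

end Groth.Agent.Lib.Cyc.CH.VecKill
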