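import Groth.Agent.Lib.Cyc.CH.SpecGamma
import Groth.Agent.Lib.Cyc.CH.Completion
import Groth.Agent.Lib.Cyc.CH.SquareOps
import Groth.Agent.Lib.Cyc.CH.ZeroSec
import Groth.Agent.Lib.Cyc.Deform.Local
import Groth.Agent.Lib.Modules.LocalSections
import Groth.Agent.Lib.QCoh.Closure

/-!
# A sub bundle with trivial quotient line
-/

set_option autoImplicit false
set_option linter.style.haveILetI false
universe u

open CategoryTheory CategoryTheory.Limits AlgebraicGeometry TopologicalSpace Opposite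

noncomputable section

namespace Groth.Agent.Lib.Cyc.CH.VecLine

open Groth.Agent.Lib Groth.Agent.Lib.Cyc
open TensorMod.Gen TensorMod.Dual

variable {X : Scheme.{u}} (S : ShortComplex X.Modules) (e : S.X₁ ≅ Coh.structureModule X)
  (AE : RelSpec.QCAlg X) (jE : S.X₂ ⟶ AE.toModule)

/-- Sections killed by the quotient come from the sub module. -/
theorem exists_app_eq {S : ShortComplex X.Modules} (hS : S.ShortExact) (U : X.Opens) (n : Γ(S.X₂, U))
    (hn : S.g.app U n = 0) : ∃ t : Γ(S.X₁, U), S.f.app U t = n := by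
  classical
  haveI := hS.mono_f
  choose W hW m hxW hm using fun x : U =>
    Modules.LocalSections.exists_preimage_of_exact (f := S.f) (g := S.g) (w := S.zero) hS.exact n hn x.2
  let F : TopCat.Sheaf Ab.{u} X := ⟨S.X₁.presheaf, S.X₁.isSheaf⟩
  obtain ⟨t, ht, -⟩ := F.existsUnique_gluing' W U (fun x => homOfLE (hW x))
    (fun y hy => Opens.mem_iSup.2 ⟨⟨y, hy⟩, hxW ⟨y, hy⟩⟩) m fun x y => by
      refine Modules.LocalSections.app_injective S.f _ ?_
      show S.f.app _ (rs S.X₁ inf_le_left (m x)) = S.f.app _ (rs S.X₁ inf_le_right (m y))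
      rw [Modules.TensorSec.app_rs, Modules.TensorSec.app_rs, hm, hm, rs_rs, rs_rs]
  refine ⟨t, Modules.TensorSec.section_ext _ _ _ fun x hx => ⟨W ⟨x, hx⟩, hW _, hxW _, ?_⟩⟩
  rw [← Modules.TensorSec.app_rs, show rs S.X₁ (hW ⟨x, hx⟩) t = m ⟨x, hx⟩ from ht ⟨x, hx⟩, hm]

/-- The generator of the trivial part. -/
def gen (U : X.Opens) : Γ(S.X₂, U) := (e.inv ≫ S.f).app U (one X U)

/-- The coordinate function. -/
def coord : Γ(AE.spec, ⊤) := (QCAlgPush.gammaIso AE).inv.hom.app (op ⊤) (jE.app ⊤ (gen S e ⊤))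

/-- The coordinate function over an open set. -/
def coordU (U : X.Opens) : AE.presheaf.obj (op U) := jE.app U (gen S e U)

theorem gammaAff_coord (U : X.Opens) (hU : IsAffineOpen U) :
    AE.gammaAff U hU (AE.spec.presheaf.map (homOfLE (le_top : AE.π ⁻¹ᵁ U ≤ ⊤)).op (coord S e AE jE)) =
      jE.app U (gen S e U) := by
  have h1 : AE.spec.presheaf.map (homOfLE (le_top : AE.π ⁻¹ᵁ U ≤ ⊤)).op (coord S e AE jE) =
      (QCAlgPush.gammaIso AE).inv.hom.app (op U)
        (AE.presheaf.map (homOfLE (le_top : U ≤ ⊤)).op (jE.app ⊤ (gen S e ⊤))) :=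
    (ConcreteCategory.congr_hom ((QCAlgPush.gammaIso AE).inv.hom.naturality
      (homOfLE (le_top : U ≤ ⊤)).op) (jE.app ⊤ (gen S e ⊤))).symm
  have h2 : jE.app U (gen S e U) =
      AE.presheaf.map (homOfLE (le_top : U ≤ ⊤)).op (jE.app ⊤ (gen S e ⊤)) := by
    rw [gen, gen, ← rs_app_one (e.inv ≫ S.f) (le_top : U ≤ ⊤)]
    exact (TensorMod.HomGlue.rs_app jE _ _).symm
  rw [h1, ← h2, ← AE.gammaMap_app U hU]
  exact congr(($((QCAlgPush.gammaIso AE).inv_hom_id)).hom.app (op U) (jE.app U (gen S e U)))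

theorem stalkMap_coord (U : X.Opens) (hU : IsAffineOpen U) (q : Spec (AE.presheaf.obj (op U))) :
    (AE.ι U hU).stalkMap q (AE.spec.presheaf.germ ⊤ (AE.ι U hU q) trivial (coord S e AE jE)) =
      Deform.gR (AE.presheaf.obj (op U)) q (jE.app U (gen S e U)) := by
  have hq : AE.ι U hU q ∈ AE.π ⁻¹ᵁ U := AE.top_le_preimage U hU (show q ∈ (⊤ : Opens _) from trivial)
  rw [← TopCat.Presheaf.germ_res_apply AE.spec.presheaf (homOfLE (le_top : AE.π ⁻¹ᵁ U ≤ ⊤)) _ hq
    (coord S e AE jE), ← gammaAff_coord S e AE jE U hU]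
  refine (Scheme.Hom.germ_stalkMap_apply (AE.ι U hU) (AE.π ⁻¹ᵁ U) q hq _).trans ?_
  rw [Deform.gR, RingHom.comp_apply, RelSpec.QCAlg.gammaAff, CommRingCat.comp_apply]
  show _ = (Spec (AE.presheaf.obj (op U))).presheaf.germ ⊤ q trivial
    ((Scheme.ΓSpecIso _).inv ((Scheme.ΓSpecIso _).hom _))
  rw [← CommRingCat.comp_apply (Scheme.ΓSpecIso _).hom, Iso.hom_inv_id, CommRingCat.id_apply,
    Scheme.Hom.appLE, CommRingCat.comp_apply, TopCat.Presheaf.germ_res_apply]

variable [S.X₂.IsQuasicoherent] [S.X₃.IsQuasicoherent] (AF : RelSpec.QCAlg X) (jF : S.X₃ ⟶ AF.toModule)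
  (φ : AE ⟶ AF)

/-- The local form of the sub bundle. -/
theorem exists_local (hS : S.ShortExact) (hF : FlatMod.IsFinLocFree S.X₃)
    (hAE : RelSpec.IsSymAlg S.X₂ AE jE) (hAF : RelSpec.IsSymAlg S.X₃ AF jF)
    (hφ : jE ≫ RelSpec.QCAlg.Hom.toModuleMap φ = S.g ≫ jF) (x : X) :
    ∃ (U : X.Opens) (_ : IsAffineOpen U), x ∈ U ∧ Function.Surjective (φ.hom.app (op U)) ∧
      RingHom.ker (φ.hom.app (op U)).hom = Ideal.span {coordU S e AE jE U} ∧
      IsSMulRegular (AE.presheaf.obj (op U)) (coordU S e AE jE U) := by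
  classical
  haveI := hS.mono_f
  haveI := hS.epi_g
  obtain ⟨V, n, hxV, ⟨i₀⟩⟩ := hF x
  obtain ⟨e₀, he₀⟩ := TensorMod.Basis.exists_basis_of_iso i₀
  obtain ⟨U, hU, hxU, hUV⟩ := exists_isAffineOpen_mem_and_subset (X := X) (x := x) (U := V) hxV
  obtain ⟨bF, -⟩ := Completion.exists_basis (he₀.res hUV)
  let gl : Γ(S.X₂, U) →ₗ[Γ(X, U)] Γ(S.X₃, U) :=
    { toFun := fun m => S.g.app U m
      map_add' := map_add _
      map_smul' := fun r m => S.g.app_smul r m }
  choose l hl using fun k => QCoh.Closure.sections_surjective_of_epi S.g hU (bF k)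
  let c : Option (Fin n) → Γ(S.X₂, U) := fun k => k.elim (gen S e U) l
  have hg0 : gl (gen S e U) = 0 := by
    show S.g.app U ((e.inv ≫ S.f).app U (one X U)) = 0
    rw [← ConcreteCategory.comp_apply, ← Scheme.Modules.Hom.comp_app, Category.assoc, S.zero, comp_zero]
    rfl
  have hgc : ∀ a : Option (Fin n) → Γ(X, U),
      gl (Fintype.linearCombination Γ(X, U) c a) = bF.equivFun.symm (fun k => a (some k)) := fun a => by
    rw [Fintype.linearCombination_apply, map_sum, Fintype.sum_option, map_smul, Module.Basis.equivFun_symm_apply]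
    show a none • gl (gen S e U) + _ = _
    rw [hg0, smul_zero, zero_add]
    exact Finset.sum_congr rfl fun k _ => (map_smul gl _ _).trans (congrArg (_ • ·) (hl k))
  have hgen : ∀ r : Γ(X, U), r • gen S e U = (e.inv ≫ S.f).app U (show Γ(Coh.structureModule X, U) from r) :=
    fun r => (app_eq_smul (e.inv ≫ S.f) r).symm
  have hb : Function.Bijective (Fintype.linearCombination Γ(X, U) c) := by
    refine ⟨(injective_iff_map_eq_zero _).2 fun a ha => ?_, fun m => ?_⟩
    · have h1 := congrArg gl ha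
      rw [hgc, map_zero, LinearEquiv.map_eq_zero_iff] at h1
      have h2 : ∀ k, a (some k) = 0 := fun k => congrFun h1 k
      rw [Fintype.linearCombination_apply, Fintype.sum_option] at ha
      simp only [h2, zero_smul, Finset.sum_const_zero, add_zero] at ha
      change a none • gen S e U = 0 at ha
      rw [hgen] at ha
      have h3 := Modules.LocalSections.app_injective (e.inv ≫ S.f) U
        (ha.trans (map_zero ((e.inv ≫ S.f).app U).hom).symm)
      funext k
      cases k with
      | none => exact h3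
      | some k => exact h2 k
    · let a₁ : Option (Fin n) → Γ(X, U) := fun k => k.elim 0 (bF.equivFun (gl m))
      obtain ⟨s₁, hs₁⟩ := exists_app_eq hS U (m - Fintype.linearCombination Γ(X, U) c a₁) (by
        show gl _ = 0
        rw [map_sub, hgc]
        simp [a₁])
      obtain ⟨r, hr⟩ : ∃ r : Γ(X, U), (e.inv.app U (show Γ(Coh.structureModule X, U) from r)) = s₁ :=
        ⟨e.hom.app U s₁, congr(Scheme.Modules.Hom.app $(e.hom_inv_id) U s₁)⟩
      refine ⟨a₁ + Pi.single none r, ?_⟩
      rw [map_add, Fintype.linearCombination_apply_single]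
      show _ + r • gen S e U = m
      rw [hgen, Scheme.Modules.Hom.comp_app, ConcreteCategory.comp_apply, hr, hs₁]
      abel
  let bE : Module.Basis (Option (Fin n)) Γ(X, U) Γ(S.X₂, U) :=
    Module.Basis.ofEquivFun (LinearEquiv.ofBijective _ hb).symm
  have hbE : ∀ k, bE k = c k := fun k => by
    rw [Module.Basis.coe_ofEquivFun]
    show Fintype.linearCombination Γ(X, U) c (Pi.single k 1) = _
    rw [Fintype.linearCombination_apply_single, one_smul]
  let θE : MvPolynomial (Option (Fin n)) Γ(X, U) →+* AE.presheaf.obj (op U) :=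
    (SymAlg.Sections.cmp AE jE U).comp (SymmetricAlgebra.equivMvPolynomial bE).symm.toRingHom
  let θF : MvPolynomial (Fin n) Γ(X, U) →+* AF.presheaf.obj (op U) :=
    (SymAlg.Sections.cmp AF jF U).comp (SymmetricAlgebra.equivMvPolynomial bF).symm.toRingHom
  have hθE : Function.Bijective θE :=
    (SymAlg.Sections.cmp_bijective hAE hU).comp (SymmetricAlgebra.equivMvPolynomial bE).symm.bijective
  have hθF : Function.Bijective θF :=
    (SymAlg.Sections.cmp_bijective hAF hU).comp (SymmetricAlgebra.equivMvPolynomial bF).symm.bijective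
  have hEX : ∀ k, θE (MvPolynomial.X k) = jE.app U (c k) := fun k => by
    show SymAlg.Sections.cmp AE jE U ((SymmetricAlgebra.equivMvPolynomial bE).symm (MvPolynomial.X k)) = _
    rw [SymmetricAlgebra.equivMvPolynomial_symm_X, SymAlg.Sections.cmp_ι, hbE]
  have hFX : ∀ k, θF (MvPolynomial.X k) = jF.app U (bF k) := fun k => by
    show SymAlg.Sections.cmp AF jF U ((SymmetricAlgebra.equivMvPolynomial bF).symm (MvPolynomial.X k)) = _
    rw [SymmetricAlgebra.equivMvPolynomial_symm_X, SymAlg.Sections.cmp_ι]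
  let ev : MvPolynomial (Option (Fin n)) Γ(X, U) →ₐ[Γ(X, U)] MvPolynomial (Fin n) Γ(X, U) :=
    MvPolynomial.aeval (fun k => k.elim 0 MvPolynomial.X)
  let sec : MvPolynomial (Fin n) Γ(X, U) →ₐ[Γ(X, U)] MvPolynomial (Option (Fin n)) Γ(X, U) :=
    MvPolynomial.rename some
  have hes : ∀ p, ev (sec p) = p := fun p => by
    rw [MvPolynomial.aeval_rename]
    exact MvPolynomial.aeval_X_left_apply p
  have hcomm : ∀ p, φ.hom.app (op U) (θE p) = θF (ev p) := by
    refine RingHom.congr_fun (f := (φ.hom.app (op U)).hom.comp θE) (g := θF.comp ev.toRingHom)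
      (MvPolynomial.ringHom_ext (fun r => ?_) fun k => ?_)
    · show φ.hom.app (op U) (θE (MvPolynomial.C r)) = θF (ev (MvPolynomial.C r))
      have h1 : θE (MvPolynomial.C r) = AE.str.app (op U) r := by
        show SymAlg.Sections.cmp AE jE U ((SymmetricAlgebra.equivMvPolynomial bE).symm (MvPolynomial.C r)) = _
        rw [← MvPolynomial.algebraMap_eq, AlgEquiv.commutes, SymAlg.Sections.cmp_algebraMap]
      have h2 : θF (MvPolynomial.C r) = AF.str.app (op U) r := by
        show SymAlg.Sections.cmp AF jF U ((SymmetricAlgebra.equivMvPolynomial bF).symm (MvPolynomial.C r)) = _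
        rw [← MvPolynomial.algebraMap_eq, AlgEquiv.commutes, SymAlg.Sections.cmp_algebraMap]
      rw [h1, MvPolynomial.aeval_C, MvPolynomial.algebraMap_eq, h2]
      exact congr($(NatTrans.congr_app φ.comm (op U)) r)
    · show φ.hom.app (op U) (θE (MvPolynomial.X k)) = θF (ev (MvPolynomial.X k))
      rw [hEX, MvPolynomial.aeval_X]
      refine (congr(Scheme.Modules.Hom.app $hφ U (c k))).trans ?_
      show jF.app U (gl (c k)) = _
      cases k with
      | none =>
        show jF.app U (gl (gen S e U)) = θF 0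
        rw [hg0, map_zero, map_zero]
        rfl
      | some k =>
        show jF.app U (gl (l k)) = θF (MvPolynomial.X k)
        rw [hFX]
        exact congrArg (jF.app U) (hl k)
  have hdvd : ∀ p, MvPolynomial.X none ∣ p - sec (ev p) := fun p => by
    induction p using MvPolynomial.induction_on with
    | C a => simp [ev, sec]
    | add a b ha hb =>
      rw [map_add, map_add]
      convert ha.add hb using 1
      ring
    | mul_X a k ha =>
      rw [map_mul, map_mul]
      cases k with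
      | none =>
        rw [show ev (MvPolynomial.X none) = 0 by simp [ev], map_zero, mul_zero, sub_zero]
        exact dvd_mul_left _ _
      | some k =>
        rw [show sec (ev (MvPolynomial.X (some k))) = MvPolynomial.X (some k) by simp [ev, sec], ← sub_mul]
        exact ha.mul_right _
  have ht : coordU S e AE jE U = θE (MvPolynomial.X none) := (hEX none).symm
  refine ⟨U, hU, hxU, fun b => ?_, ?_, ?_⟩
  · obtain ⟨p, rfl⟩ := hθF.2 b
    exact ⟨θE (sec p), (hcomm _).trans (congrArg θF (hes p))⟩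
  · refine le_antisymm (fun a ha => ?_) ((Ideal.span_singleton_le_iff_mem _).2 ?_)
    · obtain ⟨p, rfl⟩ := hθE.2 a
      have h0 : ev p = 0 := hθF.1 ((hcomm p).symm.trans (ha.trans (map_zero θF).symm))
      have h1 := hdvd p
      rw [h0, map_zero, sub_zero] at h1
      rw [ht, Ideal.mem_span_singleton]
      exact map_dvd θE h1
    · show φ.hom.app (op U) _ = 0
      rw [ht, hcomm]
      simp [ev]
  · rw [ht]
    intro a b hab
    obtain ⟨p, rfl⟩ := hθE.2 a
    obtain ⟨q, rfl⟩ := hθE.2 b
    simp only [smul_eq_mul, ← map_mul] at hab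
    exact congrArg θE (mul_left_cancel₀' (hθE.1 hab))
where
  mul_left_cancel₀' {n : ℕ} {R : Type u} [CommRing R] {p q : MvPolynomial (Option (Fin n)) R}
      (h : MvPolynomial.X none * p = MvPolynomial.X none * q) : p = q :=
    MvPolynomial.ext _ _ fun m => by
      have := congrArg (MvPolynomial.coeff (Finsupp.single none 1 + m)) h
      rwa [MvPolynomial.coeff_X_mul, MvPolynomial.coeff_X_mul] at this

section Global

variable {S AE AF jE jF φ} (hS : S.ShortExact) (hF : FlatMod.IsFinLocFree S.X₃)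
  (hAE : RelSpec.IsSymAlg S.X₂ AE jE) (hAF : RelSpec.IsSymAlg S.X₃ AF jF)
  (hφ : jE ≫ RelSpec.QCAlg.Hom.toModuleMap φ = S.g ≫ jF)

include e hS hF hAE hAF hφ

theorem exists_chart (x : AE.spec) : ∃ (U : X.Opens) (hU : IsAffineOpen U)
    (q : Spec (AE.presheaf.obj (op U))), AE.ι U hU q = x ∧ Function.Surjective (φ.hom.app (op U)) ∧
      RingHom.ker (φ.hom.app (op U)).hom = Ideal.span {coordU S e AE jE U} ∧
      IsSMulRegular (AE.presheaf.obj (op U)) (coordU S e AE jE U) := by
  obtain ⟨U, hU, hx, h1, h2, h3⟩ := exists_local S e AE jE AF jF φ hS hF hAE hAF hφ (AE.π x)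
  obtain ⟨q, hq⟩ := (AE.π_preimage U hU).le hx
  exact ⟨U, hU, q, hq, h1, h2, h3⟩

theorem isClosedImmersion : IsClosedImmersion (RelSpec.QCAlg.specMap φ) := by
  choose U hU q hq hsur hker hreg using exists_chart e hS hF hAE hAF hφ
  let 𝒰 : AE.spec.OpenCover :=
    { I₀ := AE.spec
      X := fun x => Spec (AE.presheaf.obj (op (U x)))
      f := fun x => AE.ι (U x) (hU x)
      mem₀ := by
        rw [Scheme.presieve₀_mem_precoverage_iff]
        exact ⟨fun x => ⟨x, q x, hq x⟩, fun x => inferInstance⟩ }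
  refine IsZariskiLocalAtTarget.of_openCover (P := @IsClosedImmersion) 𝒰 fun x => ?_
  show IsClosedImmersion (pullback.snd (RelSpec.QCAlg.specMap φ) (AE.ι (U x) (hU x)))
  rw [← (SymAlg.Sections.isPullback_chart φ (U x) (hU x)).isoPullback_inv_snd]
  haveI := IsClosedImmersion.spec_of_surjective (φ.hom.app (op (U x))) (hsur x)
  infer_instance

omit hS hF hAE hAF hφ in
theorem germ_coord (x : AE.spec) :
    (Coh.structureModule AE.spec).presheaf.germ ⊤ x trivial (coord S e AE jE) =
      (AE.spec.presheaf.germ ⊤ x trivial (coord S e AE jE)) • C1.one x := by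
  rw [C1.one, ← Mero.germ_smul]
  exact congrArg _ (smul_one_eq (coord S e AE jE))

theorem hasIdeal : Deform.HasIdeal (RelSpec.QCAlg.specMap φ)
    fun x => Ideal.span {AE.spec.presheaf.germ ⊤ x trivial (coord S e AE jE)} := fun x => by
  haveI := isClosedImmersion e hS hF hAE hAF hφ
  obtain ⟨U, hU, q, rfl, hsur, hker, -⟩ := exists_chart e hS hF hAE hAF hφ x
  haveI := IsClosedImmersion.spec_of_surjective (φ.hom.app (op U)) hsur
  have h1 := Deform.hasIdeal_spec (φ.hom.app (op U)) hsur hker q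
  obtain ⟨a, ha⟩ : ∃ a : pullback (AE.ι U hU) (RelSpec.QCAlg.specMap φ) ≅ Spec (AF.presheaf.obj (op U)),
      a.hom ≫ Spec.map (φ.hom.app (op U)) = pullback.fst _ _ :=
    ⟨(SymAlg.Sections.isPullback_chart φ U hU).flip.isoPullback.symm, by simp⟩
  have h2 := (Deform.HasIdeal.pullback_fst (AE.ι U hU) (i := RelSpec.QCAlg.specMap φ)
    (I := Ideal.Prime.stalkIdeal (RelSpec.QCAlg.specMap φ).ker) fun y => rfl) q
  have h3 : (pullback.fst (AE.ι U hU) (RelSpec.QCAlg.specMap φ)).ker =
      (Spec.map (φ.hom.app (op U))).ker := by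
    rw [← ha, Scheme.Hom.ker_comp_of_isIso]
  rw [h3, h1] at h2
  simp only [Set.image_singleton] at h2
  have hb : Function.Bijective ((AE.ι U hU).stalkMap q).hom :=
    ConcreteCategory.bijective_of_isIso ((AE.ι U hU).stalkMap q)
  have key : ∀ I : Ideal (AE.spec.presheaf.stalk (AE.ι U hU q)),
      (I.map ((AE.ι U hU).stalkMap q).hom).comap ((AE.ι U hU).stalkMap q).hom = I :=
    fun I => Ideal.comap_map_of_bijective _ hb
  rw [← key (Ideal.Prime.stalkIdeal _ _), ← h2]
  show _ = Ideal.span {AE.spec.presheaf.germ ⊤ (AE.ι U hU q) trivial (coord S e AE jE)}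
  rw [← key (Ideal.span {AE.spec.presheaf.germ ⊤ (AE.ι U hU q) trivial (coord S e AE jE)}), Ideal.map_span,
    Set.image_singleton]
  rw [stalkMap_coord]
  rfl

theorem isZeroSchemeOf : Cyc.IsZeroSchemeOf (RelSpec.QCAlg.specMap φ) (Coh.structureModule AE.spec)
    (coord S e AE jE) := by
  haveI := isClosedImmersion e hS hF hAE hAF hφ
  have hO := PicLoc.isInvertible_structureModule AE.spec
  obtain ⟨Z, iZ, hcZ, hZ, -⟩ := CH.ZeroSec.exists_zeroScheme hO (coord S e AE jE)
  have hI : Deform.HasIdeal iZ fun x => Ideal.span {AE.spec.presheaf.germ ⊤ x trivial (coord S e AE jE)} :=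
    fun x => Deform.hasIdeal_of_isZeroSchemeOf hO hZ (C1.span_one x) (germ_coord e x)
  obtain ⟨ε, hε⟩ := Deform.HasIdeal.exists_iso hI (hasIdeal e hS hF hAE hAF hφ)
  exact CH.isZeroSchemeOf_iso iZ (RelSpec.QCAlg.specMap φ) ε.hom hε hZ

theorem regular (x : AE.spec) : Function.Injective (fun a : AE.spec.presheaf.stalk x =>
    a • (Coh.structureModule AE.spec).presheaf.germ ⊤ x trivial (coord S e AE jE)) := by
  obtain ⟨U, hU, q, rfl, -, -, hreg⟩ := exists_chart e hS hF hAE hAF hφ x
  intro a b hab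
  simp only [germ_coord e, smul_smul] at hab
  have h2 : a * AE.spec.presheaf.germ ⊤ (AE.ι U hU q) trivial (coord S e AE jE) =
      b * AE.spec.presheaf.germ ⊤ (AE.ι U hU q) trivial (coord S e AE jE) :=
    sub_eq_zero.1 (C1.eq_zero_of_smul_one_eq_zero (by rw [sub_smul, sub_eq_zero]; exact hab))
  have hb : Function.Bijective ((AE.ι U hU).stalkMap q) := ConcreteCategory.bijective_of_isIso _
  refine hb.1 ?_
  have h4 := congrArg ((AE.ι U hU).stalkMap q) h2
  rw [map_mul, map_mul, stalkMap_coord] at h4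
  let R := AE.presheaf.obj (op U)
  letI : Algebra Γ(Spec R, ⊤) ((Spec R).presheaf.stalk q) :=
    TopCat.Presheaf.algebra_section_stalk (Spec R).presheaf (U := ⊤) ⟨q, trivial⟩
  haveI : IsLocalization.AtPrime ((Spec R).presheaf.stalk q)
      ((isAffineOpen_top (Spec R)).primeIdealOf ⟨q, trivial⟩).asIdeal :=
    (isAffineOpen_top (Spec R)).isLocalization_stalk ⟨q, trivial⟩
  haveI : Module.Flat Γ(Spec R, ⊤) ((Spec R).presheaf.stalk q) :=
    IsLocalization.flat _ ((isAffineOpen_top (Spec R)).primeIdealOf ⟨q, trivial⟩).asIdeal.primeCompl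
  have hreg' : IsSMulRegular Γ(Spec R, ⊤) ((Scheme.ΓSpecIso R).inv (coordU S e AE jE U)) := fun x y hxy => by
    refine (ConcreteCategory.bijective_of_isIso (Scheme.ΓSpecIso R).hom).1 (hreg ?_)
    have h6 := congrArg (Scheme.ΓSpecIso R).hom hxy
    simp only [smul_eq_mul, map_mul] at h6
    rw [← CommRingCat.comp_apply, Iso.inv_hom_id, CommRingCat.id_apply] at h6
    exact h6
  refine hreg'.of_flat (S := (Spec R).presheaf.stalk q) ?_
  show Deform.gR R q (coordU S e AE jE U) * _ = Deform.gR R q (coordU S e AE jE U) * _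
  exact (mul_comm _ _).trans (h4.trans (mul_comm _ _))

end Global

end Groth.Agent.Lib.Cyc.CH.VecLine
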