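import Groth.Agent.Lib.Cyc.CH.VecTriv
import Groth.Agent.Lib.Cyc.CH.VecLine

/-!
# The bundles of a sequence with trivial line are locally polynomial
-/

set_option autoImplicit false
set_option linter.style.haveILetI false
universe u

open CategoryTheory CategoryTheory.Limits AlgebraicGeometry TopologicalSpace Opposite

noncomputable section

namespace Groth.Agent.Lib.Cyc.CH.VecTriv

open Groth.Agent.Lib Groth.Agent.Lib.Cyc VecLine
open TensorMod.Gen TensorMod.Dual

variable {X : Scheme.{u}}

theorem exists_θ {E : X.Modules} [E.IsQuasicoherent] {A : RelSpec.QCAlg X} {j : E ⟶ A.toModule}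
    (hA : RelSpec.IsSymAlg E A j) {U : X.Opens} (hU : IsAffineOpen U) {r : ℕ}
    (b : Module.Basis (Fin r) Γ(X, U) Γ(E, U)) :
    ∃ θ : MvPolynomial (Fin r) Γ(X, U) →+* A.presheaf.obj (op U),
      Function.Bijective θ ∧ ∀ a, θ (MvPolynomial.C a) = A.str.app (op U) a := by
  letI : Algebra Γ(X, U) (A.presheaf.obj (op U)) := (A.str.app (op U)).hom.toAlgebra
  refine ⟨(SymAlg.Sections.cmp A j U).comp (SymmetricAlgebra.equivMvPolynomial b).symm.toRingHom,
    (SymAlg.Sections.cmp_bijective hA hU).comp (SymmetricAlgebra.equivMvPolynomial b).symm.bijective,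
    fun a => ?_⟩
  show SymAlg.Sections.cmp A j U ((SymmetricAlgebra.equivMvPolynomial b).symm (MvPolynomial.C a)) = _
  rw [← MvPolynomial.algebraMap_eq, AlgEquiv.commutes, SymAlg.Sections.cmp_algebraMap]

/-- Both bundles are polynomial on a common open. -/
theorem exists_poly {S : ShortComplex X.Modules} (e : S.X₁ ≅ Coh.structureModule X) [S.X₂.IsQuasicoherent]
    [S.X₃.IsQuasicoherent] (hS : S.ShortExact) (hF : FlatMod.IsFinLocFree S.X₃)
    {AE AF : RelSpec.QCAlg X} {jE : S.X₂ ⟶ AE.toModule} {jF : S.X₃ ⟶ AF.toModule}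
    (hAE : RelSpec.IsSymAlg S.X₂ AE jE) (hAF : RelSpec.IsSymAlg S.X₃ AF jF) (x : X) :
    ∃ (U : X.Opens) (n : ℕ), x ∈ U ∧ IsPoly AF U n ∧ IsPoly AE U (n + 1) := by
  classical
  haveI := hS.mono_f
  haveI := hS.epi_g
  obtain ⟨V, n, hxV, ⟨i₀⟩⟩ := hF x
  obtain ⟨e₀, he₀⟩ := TensorMod.Basis.exists_basis_of_iso i₀
  obtain ⟨U, hU, hxU, hUV⟩ := exists_isAffineOpen_mem_and_subset (X := X) (x := x) (U := V) hxV
  obtain ⟨bF, -⟩ := Completion.exists_basis (he₀.res hUV)
  let gl : Γ(S.X₂, U) →ₗ[Γ(X, U)] Γ(S.X₃, U) :=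
    { toFun := fun m => S.g.app U m
      map_add' := map_add _
      map_smul' := fun r m => S.g.app_smul r m }
  choose l hl using fun k => QCoh.Closure.sections_surjective_of_epi S.g hU (bF k)
  let c : Option (Fin n) → Γ(S.X₂, U) := fun k => k.elim (gen S e U) l
  have hg0 : gl (gen S e U) = 0 := by
    show S.g.app U ((e.inv ≫ S.f).app U (one X U)) = 0
    rw [← ConcreteCategory.comp_apply, ← Scheme.Modules.Hom.comp_app, Category.assoc, S.zero, comp_zero]
    rfl
  have hgc : ∀ a : Option (Fin n) → Γ(X, U),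
      gl (Fintype.linearCombination Γ(X, U) c a) = bF.equivFun.symm (fun k => a (some k)) := fun a => by
    rw [Fintype.linearCombination_apply, map_sum, Fintype.sum_option, map_smul, Module.Basis.equivFun_symm_apply]
    show a none • gl (gen S e U) + _ = _
    rw [hg0, smul_zero, zero_add]
    exact Finset.sum_congr rfl fun k _ => (map_smul gl _ _).trans (congrArg (_ • ·) (hl k))
  have hgen : ∀ r : Γ(X, U), r • gen S e U = (e.inv ≫ S.f).app U (show Γ(Coh.structureModule X, U) from r) :=
    fun r => (app_eq_smul (e.inv ≫ S.f) r).symm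
  have hb : Function.Bijective (Fintype.linearCombination Γ(X, U) c) := by
    refine ⟨(injective_iff_map_eq_zero _).2 fun a ha => ?_, fun m => ?_⟩
    · have h1 := congrArg gl ha
      rw [hgc, map_zero, LinearEquiv.map_eq_zero_iff] at h1
      have h2 : ∀ k, a (some k) = 0 := fun k => congrFun h1 k
      rw [Fintype.linearCombination_apply, Fintype.sum_option] at ha
      simp only [h2, zero_smul, Finset.sum_const_zero, add_zero] at ha
      change a none • gen S e U = 0 at ha
      rw [hgen] at ha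
      have h3 := Modules.LocalSections.app_injective (e.inv ≫ S.f) U
        (ha.trans (map_zero ((e.inv ≫ S.f).app U).hom).symm)
      funext k
      cases k with
      | none => exact h3
      | some k => exact h2 k
    · let a₁ : Option (Fin n) → Γ(X, U) := fun k => k.elim 0 (bF.equivFun (gl m))
      obtain ⟨s₁, hs₁⟩ := exists_app_eq hS U (m - Fintype.linearCombination Γ(X, U) c a₁) (by
        show gl _ = 0
        rw [map_sub, hgc]
        simp [a₁])
      obtain ⟨r, hr⟩ : ∃ r : Γ(X, U), (e.inv.app U (show Γ(Coh.structureModule X, U) from r)) = s₁ :=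
        ⟨e.hom.app U s₁, congr(Scheme.Modules.Hom.app $(e.hom_inv_id) U s₁)⟩
      refine ⟨a₁ + Pi.single none r, ?_⟩
      rw [map_add, Fintype.linearCombination_apply_single]
      show _ + r • gen S e U = m
      rw [hgen, Scheme.Modules.Hom.comp_app, ConcreteCategory.comp_apply, hr, hs₁]
      abel
  let bE : Module.Basis (Option (Fin n)) Γ(X, U) Γ(S.X₂, U) :=
    Module.Basis.ofEquivFun (LinearEquiv.ofBijective _ hb).symm
  have hbE : ∀ k, bE k = c k := fun k => by
    rw [Module.Basis.coe_ofEquivFun]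
    show Fintype.linearCombination Γ(X, U) c (Pi.single k 1) = _
    rw [Fintype.linearCombination_apply_single, one_smul]
  refine ⟨U, n, hxU, ⟨hU, ?_⟩, ⟨hU, ?_⟩⟩
  · exact exists_θ hAF hU bF
  · exact exists_θ hAE hU (bE.reindex (finSuccEquiv n).symm)

end Groth.Agent.Lib.Cyc.CH.VecTriv
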