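import Groth.Agent.Lib.Cyc.CH.Classify
import Groth.Agent.Lib.Cyc.CH.SpecGamma
import Groth.Agent.Lib.Cyc.CH.DualChern
import Groth.Agent.Lib.Cyc.CH.VecInj

/-!
# The class of a sub vector bundle
-/

set_option autoImplicit false
set_option linter.style.haveILetI false
universe u

open CategoryTheory CategoryTheory.Limits AlgebraicGeometry TopologicalSpace Opposite
open ZarCoh.FlatBC.PullbackSections

noncomputable section

namespace Groth.Agent.Lib.Cyc.CH.VecSub

open Groth.Agent.Lib Groth.Agent.Lib.Cyc TensorMod TensorMod.Dual TensorMod.Gen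

theorem pullbackStructureIso_pbRes {Y T : Scheme.{u}} (f : T ⟶ Y) {V : Y.Opens} {W : T.Opens}
    (hW : W ≤ f ⁻¹ᵁ V) (a : Γ(Y, V)) :
    (PicLoc.pullbackStructureIso f).hom.app W (pbRes f (Coh.structureModule Y) hW a) = f.appLE V W hW a := by
  have h1 := congr(Scheme.Modules.Hom.app $(LocIso.unit_comp_structure f) V a)
  show (PicLoc.pullbackStructureIso f).hom.app W (rs _ hW _) = rs (Coh.structureModule T) hW (f.app V a)
  rw [← HomGlue.rs_app]
  exact congrArg (rs (Coh.structureModule T) hW) h1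

variable {X : Scheme.{u}} {E E' : X.Modules} (d : E ⟶ E')

/-- The map of completions. -/
def addLine : E ⊞ Coh.structureModule X ⟶ E' ⊞ Coh.structureModule X :=
  biprod.map d (𝟙 _)

theorem epi_addLine [Epi d] : Epi (addLine d) := by
  refine ⟨fun {Z} a b h => biprod.hom_ext' _ _ ?_ ?_⟩
  · rw [← cancel_epi d]
    have := congrArg (biprod.inl ≫ ·) h
    simpa [addLine] using this
  · have := congrArg (biprod.inr ≫ ·) h
    simpa [addLine] using this

theorem addLine_inr :
    (biprod.inr : Coh.structureModule X ⟶ E ⊞ Coh.structureModule X) ≫ addLine d = biprod.inr := by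
  simp [addLine]

theorem addLine_inl :
    (biprod.inl : E ⟶ E ⊞ Coh.structureModule X) ≫ addLine d = d ≫ biprod.inl := by
  simp [addLine]

variable [E.IsQuasicoherent] [E'.IsQuasicoherent] {A A' : RelSpec.QCAlg X} {j : E ⟶ A.toModule}
  {j' : E' ⟶ A'.toModule} (φ : A ⟶ A')

theorem specMap_quo (hφ : j ≫ RelSpec.QCAlg.Hom.toModuleMap φ = d ≫ j') {U : X.Opens} (hU : IsAffineOpen U)
    (m : Γ(E ⊞ Coh.structureModule X, U)) :
    (RelSpec.QCAlg.specMap φ).appLE (A.π ⁻¹ᵁ U) (A'.π ⁻¹ᵁ U) (SpecGamma.preimage_eq φ U).ge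
        ((Completion.taut A j).app U m) = (Completion.taut A' j').app U ((addLine d).app U m) := by
  rw [← AddLine.total E (Coh.structureModule X) U m, map_add, map_add, map_add]
  refine Eq.trans (map_add _ _ _) (congrArg₂ (· + ·) ?_ ?_)
  · rw [Completion.taut_gen]
    have h1 : (addLine d).app U ((biprod.inl : E ⟶ E ⊞ Coh.structureModule X).app U
        ((biprod.fst : E ⊞ Coh.structureModule X ⟶ E).app U m)) =
        (biprod.inl : E' ⟶ E' ⊞ Coh.structureModule X).app U
          (d.app U ((biprod.fst : E ⊞ Coh.structureModule X ⟶ E).app U m)) :=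
      congr(Scheme.Modules.Hom.app $(addLine_inl d) U ((biprod.fst : E ⊞ Coh.structureModule X ⟶ E).app U m))
    rw [h1, Completion.taut_gen, SpecGamma.gammaIso_inv_specMap φ hU]
    refine congrArg _ ?_
    exact congr(Scheme.Modules.Hom.app $hφ U ((biprod.fst : E ⊞ Coh.structureModule X ⟶ E).app U m))
  · set a : Γ(X, U) := (biprod.snd : E ⊞ Coh.structureModule X ⟶ Coh.structureModule X).app U m
    have ha : (show Γ(Coh.structureModule X, U) from a) = a • one X U := smul_one_eq a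
    have h1 : (addLine d).app U ((biprod.inr : Coh.structureModule X ⟶ E ⊞ Coh.structureModule X).app U a) =
        (biprod.inr : Coh.structureModule X ⟶ E' ⊞ Coh.structureModule X).app U a :=
      congr(Scheme.Modules.Hom.app $(addLine_inr d) U a)
    refine Eq.trans ?_ (congrArg ((Completion.taut A' j').app U) h1).symm
    show (RelSpec.QCAlg.specMap φ).appLE _ _ _ ((Completion.taut A j).app U
      ((biprod.inr : Coh.structureModule X ⟶ E ⊞ Coh.structureModule X).app U (show Γ(Coh.structureModule X, U) from a))) =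
      (Completion.taut A' j').app U
        ((biprod.inr : Coh.structureModule X ⟶ E' ⊞ Coh.structureModule X).app U (show Γ(Coh.structureModule X, U) from a))
    rw [ha, Scheme.Modules.Hom.app_smul, Scheme.Modules.Hom.app_smul, Scheme.Modules.Hom.app_smul,
      Scheme.Modules.Hom.app_smul, Completion.taut_one, Completion.taut_one]
    show (RelSpec.QCAlg.specMap φ).appLE _ _ _ (A.π.app U a * (1 : Γ(A.spec, A.π ⁻¹ᵁ U))) =
      A'.π.app U a * (1 : Γ(A'.spec, A'.π ⁻¹ᵁ U))
    rw [map_mul, map_one, mul_one, mul_one, Scheme.Hom.app_eq_appLE, ← ConcreteCategory.comp_apply,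
      Scheme.Hom.appLE_comp_appLE, Scheme.Hom.app_eq_appLE]
    exact ConcreteCategory.congr_hom (PB.congr_appLE (RelSpec.QCAlg.specMap_π φ) _ _ _) a

variable [IsLocallyNoetherian X] {δ : X → ℤ} {δV : A.spec → ℤ} {δV' : A'.spec → ℤ}
  [IsLocallyNoetherian A.spec] [IsLocallyNoetherian A'.spec]

theorem push_pull_eq (hX : Cyc.IsSetup X δ) {r' e : ℕ}
    (hE : FlatMod.IsFinLocFreeOfRank (r' + e) E) (hE' : FlatMod.IsFinLocFreeOfRank r' E')
    (hA : RelSpec.IsSymAlg E A j) (hA' : RelSpec.IsSymAlg E' A' j')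
    (hφ : j ≫ RelSpec.QCAlg.Hom.toModuleMap φ = d ≫ j') [IsClosedImmersion (RelSpec.QCAlg.specMap φ)]
    (hV : Cyc.IsSetup A.spec δV) (hδV : Cyc.DeltaCompat A.π δV δ) (hV' : Cyc.IsSetup A'.spec δV')
    (hδV' : Cyc.DeltaCompat A'.π δV' δ) {cK cG c' : ℕ → AddMonoid.End (Tot X δ)}
    (hK : ∀ b, e < b → cK b = 0)
    (hG : IsChern (E ⊞ Coh.structureModule X) (r' + e + 1) δ cG)
    (hG' : IsChern (E' ⊞ Coh.structureModule X) (r' + 1) δ c')
    (hW : ∀ p, cG p = ∑ i ∈ Finset.range (p + 1), cK i * c' (p - i))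
    {k : ℤ} {α β₀ : AlgebraicCycle X ℤ} (hα : α ∈ Cyc.Zk X δ k) (hβ₀ : β₀ ∈ Cyc.Zk X δ (k - (e : ℤ)))
    (hcls : cls δ (k - (e : ℤ)) β₀ hβ₀ = ((-1 : ℤ) ^ e) • cK e (cls δ k α hα))
    {β' : AlgebraicCycle A'.spec ℤ} (hβ' : ⇑β' = Cyc.pullFun A'.π δV' δ (r' : ℤ) ⇑α)
    {β : AlgebraicCycle A.spec ℤ} (hβ : ⇑β = Cyc.pullFun A.π δV δ ((r' : ℤ) + e) ⇑β₀) :
    Cyc.RatEquiv δV (k + r') (AlgebraicCycle.map (RelSpec.QCAlg.specMap φ) δV' δV β') β := by
  haveI : Epi d := SpecGamma.epi_of_closedImmersion hA hA' φ d hφ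
  haveI := epi_addLine d
  have hF := AddLine.rank hE
  have hF' := AddLine.rank hE'
  obtain ⟨P, π, O1, q, hP, hp, -⟩ :=
    BdlExists.exists_proper (E ⊞ Coh.structureModule X) (TensorMod.LocFree.of_rank hF)
  haveI := hp
  haveI := hP.epi
  obtain ⟨δP, hPs, hδP⟩ := exists_setup π hX
  haveI := hPs.1
  obtain ⟨P', π', O1', q', hP', hp', -⟩ :=
    BdlExists.exists_proper (E' ⊞ Coh.structureModule X) (TensorMod.LocFree.of_rank hF')
  haveI := hp'
  haveI := hP'.epi
  obtain ⟨δP', hPs', hδP'⟩ := exists_setup π' hX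
  haveI := hPs'.1
  have hF2 : FlatMod.IsFinLocFreeOfRank (e + r' + 1) (E ⊞ Coh.structureModule X) := by
    rwa [add_comm e r']
  have B := Bdl.of_isProjBundle hX.2.2 hPs.2.2 hδP hP hF2
  have B' := Bdl.of_isProjBundle hX.2.2 hPs'.2.2 hδP' hP' hF'
  haveI := B.flat
  haveI := B'.flat
  -- the sub bundle
  haveI : PreservesColimitsOfSize.{0, 0} (Scheme.Modules.pullback π') :=
    (Scheme.Modules.pullbackPushforwardAdjunction π').leftAdjoint_preservesColimits
  haveI : Epi ((Scheme.Modules.pullback π').map (addLine d)) := inferInstance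
  let q'' : (Scheme.Modules.pullback π').obj (E ⊞ Coh.structureModule X) ⟶ O1' :=
    (Scheme.Modules.pullback π').map (addLine d) ≫ q'
  haveI : Epi q'' := epi_comp _ _
  obtain ⟨h, ⟨hhπ, eO, heO⟩, -⟩ := hP.univ P' π' O1' hP'.invertible q'' inferInstance
  haveI : IsProper (h ≫ π) := by rw [hhπ]; infer_instance
  haveI : IsProper h := IsProper.of_comp h π
  have hδh : Cyc.DeltaCompat h δP' δP :=
    deltaCompat_of_comm (π := π) (π' := π') (f := 𝟙 X) (by rw [hhπ, Category.comp_id]) hδP hδP'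
      (Residue.deltaCompat_id δ)
  have hcG : B.ch = cG :=
    (B.isChern hX hPs hF2 q).ext hX (by rwa [show e + r' + 1 = r' + e + 1 by omega])
  have hc' : B'.ch = c' := (B'.isChern hX hPs' hF' q').ext hX hG'
  have hsub := B.push_sub B' h hhπ eO hδh hK (by rw [hcG, hc']; exact hW) (cls δ k α hα)
  -- the two vector bundles inside
  obtain ⟨W, ι, hι, -, hWl⟩ := Completion.exists_zeroLocus (r := r' + e) q (PB.Univ.invertible hP)
  haveI := hι
  obtain ⟨v, hvπ, iv, hv, hvr, hvq⟩ := Completion.exists_openImmersion q hE hA hP ι hWl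
  haveI := hv
  obtain ⟨W', ι', hι', -, hWl'⟩ := Completion.exists_zeroLocus (r := r') q' (PB.Univ.invertible hP')
  haveI := hι'
  obtain ⟨v', hvπ', iv', hv', hvr', hvq'⟩ := Completion.exists_openImmersion q' hE' hA' hP' ι' hWl'
  haveI := hv'
  haveI : PreservesColimitsOfSize.{0, 0} (Scheme.Modules.pullback A'.π) :=
    (Scheme.Modules.pullbackPushforwardAdjunction A'.π).leftAdjoint_preservesColimits
  haveI := Completion.epi_quo A' j'
  haveI : Epi ((Scheme.Modules.pullback A'.π).map (addLine d)) := inferInstance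
  let s := (Scheme.Modules.pullback A'.π).map (addLine d) ≫ Completion.quo A' j'
  haveI : Epi s := epi_comp _ _
  have hs : ∀ (U : X.Opens) (m : Γ(E ⊞ Coh.structureModule X, U)),
      s.app (A'.π ⁻¹ᵁ U) (pbRes A'.π _ le_rfl m) = (Completion.taut A' j').app U ((addLine d).app U m) := by
    intro U m
    rw [Scheme.Modules.Hom.comp_app, ConcreteCategory.comp_apply, DescAlg.PbSec.pbRes_natural,
      Completion.quo_app]
  have c1 : Classify.Carries q hvπ (Completion.quo A j) iv.hom := Classify.Carries.of_comp_eq hvπ hvq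
  have c2 : Classify.Carries q (show (RelSpec.QCAlg.specMap φ ≫ v) ≫ π = A'.π by
      rw [Category.assoc, hvπ, RelSpec.QCAlg.specMap_π]) s
      (Classify.compIso (RelSpec.QCAlg.specMap φ) iv ≪≫ PicLoc.pullbackStructureIso _).hom :=
    c1.comp (RelSpec.QCAlg.specMap_π φ) (PicLoc.pullbackStructureIso _).hom fun U hU m => by
      rw [Completion.quo_app, pullbackStructureIso_pbRes, hs, specMap_quo d φ hφ hU]
  have c3 : Classify.Carries q hhπ q'' eO.hom := Classify.Carries.of_comp_eq hhπ heO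
  have c4 : Classify.Carries q' hvπ' (Completion.quo A' j') iv'.hom := Classify.Carries.of_comp_eq hvπ' hvq'
  have c5 : Classify.Carries q (show (v' ≫ h) ≫ π = A'.π by rw [Category.assoc, hhπ, hvπ']) s
      (Classify.compIso v' eO ≪≫ iv').hom :=
    c3.comp hvπ' iv'.hom fun U hU m => by
      have e1 : q''.app (π' ⁻¹ᵁ U) (pbRes π' _ le_rfl m) =
          q'.app (π' ⁻¹ᵁ U) (pbRes π' _ le_rfl ((addLine d).app U m)) := by
        rw [Scheme.Modules.Hom.comp_app, ConcreteCategory.comp_apply, DescAlg.PbSec.pbRes_natural]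
      rw [e1, c4 U hU, hs, Completion.quo_app]
  have hsq : RelSpec.QCAlg.specMap φ ≫ v = v' ≫ h :=
    Classify.eq_of_carries hP (PB.Univ.rank_one_structure _) s c2 c5
  have hpre : h ⁻¹ᵁ v.opensRange = v'.opensRange := by
    apply Opens.ext
    ext x
    show h x ∈ Set.range v ↔ x ∈ Set.range v'
    rw [hvr, hvr']
    obtain ⟨V, hxV, ⟨i₀⟩⟩ := hE (π' x)
    obtain ⟨V', hxV', ⟨i₀'⟩⟩ := hE' (π' x)
    obtain ⟨e₀, he₀⟩ := TensorMod.Basis.exists_basis_of_iso i₀
    obtain ⟨e₀', he₀'⟩ := TensorMod.Basis.exists_basis_of_iso i₀'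
    obtain ⟨U, hUa, hxU, hUV⟩ := exists_isAffineOpen_mem_and_subset (X := X) (x := π' x) (U := V ⊓ V') ⟨hxV, hxV'⟩
    let eE : Fin (r' + e) → Γ(E, U) := fun i => rs E (hUV.trans inf_le_left) (e₀ i)
    let eE' : Fin r' → Γ(E', U) := fun i => rs E' (hUV.trans inf_le_right) (e₀' i)
    have hlast : PB.Univ.sec q'' (AddLine.frame eE) (Fin.last (r' + e)) =
        PB.Univ.sec q' (AddLine.frame eE') (Fin.last r') := by
      rw [PB.Univ.sec, PB.Univ.sec, Scheme.Modules.Hom.comp_app, ConcreteCategory.comp_apply,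
        DescAlg.PbSec.pbRes_natural, AddLine.frame_last, AddLine.frame_last]
      exact congrArg (fun t => q'.app _ (pbRes π' _ le_rfl t))
        congr(Scheme.Modules.Hom.app $(addLine_inr d) U (one X U))
    have hloc : PB.Univ.locus q'' (AddLine.frame eE) (Fin.last (r' + e)) =
        PB.Univ.locus q' (AddLine.frame eE') (Fin.last r') := by
      simp only [PB.Univ.locus, hlast]
    have h1 := hWl U eE (h x) (show (h ≫ π) x ∈ U by rw [hhπ]; exact hxU)
    have h2 := hWl' U eE' x hxU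
    rw [Set.mem_compl_iff, Set.mem_compl_iff, h1, h2, ← hloc,
      ← BdlUniq.preimage_locus (⟨hhπ, eO, heO⟩ : BdlUniq.Mor π π' q q'' h) (AddLine.frame eE) hP
        (Fin.last (r' + e))]
    rfl
  have sqV : IsPullback (RelSpec.QCAlg.specMap φ) v' v h :=
    IsOpenImmersion.isPullback (RelSpec.QCAlg.specMap φ) v' v h hsq.symm hpre
  have hδv : (fun a => δP (v a)) = δV := by
    refine VecInj.deltaCompat_eq (f := v ≫ π) (Residue.deltaCompat_comp (deltaCompat_restrict v) hδP) ?_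
    rw [hvπ]
    exact hδV
  have hδv' : (fun a => δP' (v' a)) = δV' := by
    refine VecInj.deltaCompat_eq (f := v' ≫ π') (Residue.deltaCompat_comp (deltaCompat_restrict v') hδP') ?_
    rw [hvπ']
    exact hδV'
  subst hδv hδv'
  have hδi : Cyc.DeltaCompat (RelSpec.QCAlg.specMap φ) (fun a => δP' (v' a)) (fun a => δP (v a)) :=
    deltaCompat_of_comm (π := A.π) (π' := A'.π) (f := 𝟙 X)
      (by rw [RelSpec.QCAlg.specMap_π, Category.comp_id]) hδV hδV' (Residue.deltaCompat_id δ)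
  haveI : Flat (v ≫ π) := inferInstance
  haveI : Flat (v' ≫ π') := inferInstance
  -- the two sides
  obtain ⟨β₁, hβ₁, hβ₁'⟩ := PullExists.exists_pullFun (δX := fun a => δP' (v' a)) A'.π (r' : ℤ) hα
  have hβ'm : β' ∈ Cyc.Zk A'.spec (fun a => δP' (v' a)) (k + r') := fun a ha =>
    (congrFun (hβ'.trans hβ₁'.symm) a).trans (hβ₁ a ha)
  obtain ⟨β₂, hβ₂, hβ₂'⟩ :=
    PullExists.exists_pullFun (δX := fun a => δP (v a)) A.π ((r' : ℤ) + e) hβ₀
  have hβm : β ∈ Cyc.Zk A.spec (fun a => δP (v a)) (k + r') := fun a ha =>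
    (congrFun (hβ.trans hβ₂'.symm) a).trans (hβ₂ a (by
      rwa [show k - (e : ℤ) + ((r' : ℤ) + e) = k + r' by ring]))
  have hsh : FP.Main.Shift (v ≫ π) (fun a => δP (v a)) δ ((0 : ℤ) + ((e + r' : ℕ) : ℤ)) :=
    FibLen.shift_comp v π _ δP δ 0 _ (shift_restrict v) B.shift
  have hsh' : FP.Main.Shift (v' ≫ π') (fun a => δP' (v' a)) δ ((0 : ℤ) + (r' : ℤ)) :=
    FibLen.shift_comp v' π' _ δP' δ 0 _ (shift_restrict v') B'.shift
  have hL : pull hV.2.2 B.dimP v (shift_restrict v) (push B'.dimP B.dimP h hδh (B'.pb (cls δ k α hα))) =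
      cls (fun a => δP (v a)) (k + r') (AlgebraicCycle.map (RelSpec.QCAlg.specMap φ) (fun a => δP' (v' a))
        (fun a => δP (v a)) β') (map_mem _ hβ'm) := by
    rw [pull_push B.dimP hV.2.2 B'.dimP hV'.2.2 sqV hδh hδi (shift_restrict v) (shift_restrict v')]
    have e1 : pull hV'.2.2 B'.dimP v' (shift_restrict v') (B'.pb (cls δ k α hα)) =
        cls (fun a => δP' (v' a)) (k + r') β' hβ'm := by
      refine (pull_comp hV'.2.2 B'.dimP v' (shift_restrict v') B'.dimX π' B'.shift (v' ≫ π') rfl hsh' rfl _).trans ?_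
      exact pull_cls hV'.2.2 B'.dimX (v' ≫ π') hsh' hα (show k + r' = k + ((0 : ℤ) + r') by ring) hβ'm
        (by rw [hβ', zero_add]; simp only [hvπ'])
    rw [e1]
    exact push_cls hV'.2.2 hV.2.2 _ hδi hβ'm rfl (map_mem _ hβ'm)
  have hterm : ∀ i, pull hV.2.2 B.dimP v (shift_restrict v) (B.term (i + 1) (cK (e - (i + 1)) (cls δ k α hα))) = 0 := by
    intro i
    rw [Bdl.term_apply, pow_succ']
    show pull hV.2.2 B.dimP v (shift_restrict v) (B.h _) = 0
    refine (pull_c1 hV.2.2 B.dimP v (shift_restrict v) B.inv _).trans ?_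
    rw [c1_congr hV.2.2 (PicLoc.isInvertible_pullback v B.inv) (PicLoc.isInvertible_structureModule _) iv,
      c1_structureModule hV.2.2 _ hV]
    rfl
  have hR : pull hV.2.2 B.dimP v (shift_restrict v)
      (∑ i ∈ Finset.range (e + 1), ((-1 : ℤ) ^ (e - i)) • B.term i (cK (e - i) (cls δ k α hα))) =
      cls (fun a => δP (v a)) (k + r') β hβm := by
    rw [map_sum, Finset.sum_range_succ', Finset.sum_eq_zero fun i _ => ?_, zero_add]
    · rw [map_zsmul, Nat.sub_zero, Bdl.term_apply, pow_zero]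
      show ((-1 : ℤ) ^ e) • pull hV.2.2 B.dimP v (shift_restrict v) (B.pb (cK e (cls δ k α hα))) = _
      rw [← map_zsmul, ← map_zsmul, ← hcls]
      refine (pull_comp hV.2.2 B.dimP v (shift_restrict v) B.dimX π B.shift (v ≫ π) rfl hsh rfl _).trans ?_
      exact pull_cls hV.2.2 B.dimX (v ≫ π) hsh hβ₀
        (show k + r' = k - (e : ℤ) + ((0 : ℤ) + ((e + r' : ℕ) : ℤ)) by push_cast; ring) hβm
        (by rw [hβ, zero_add, Nat.cast_add, add_comm (r' : ℤ)]; simp only [hvπ])
    · rw [map_zsmul, hterm]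
      exact smul_zero _
  exact (cls_eq_iff hV.2.2 (map_mem _ hβ'm) hβm).1 (hL.symm.trans ((congrArg _ hsub).trans hR))

end Groth.Agent.Lib.Cyc.CH.VecSub
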