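import Groth.Agent.Lib.Cyc.CH.SpecHom
import Groth.Agent.Lib.Cyc.CH.VecLine

/-!
# The complement of a sub bundle with trivial quotient and the torsor
-/

set_option autoImplicit false
set_option linter.style.haveILetI false
universe u

open CategoryTheory CategoryTheory.Limits AlgebraicGeometry TopologicalSpace Opposite

noncomputable section

namespace Groth.Agent.Lib.Cyc.CH.VecTorsor

open Groth.Agent.Lib TensorMod.Gen TensorMod.Dual SpecHom

variable {X : Scheme.{u}}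

section Lift

variable {A : RelSpec.QCAlg X} (a : A.presheaf.obj (op ⊤))

/-- The locus where an element of the algebra is invertible. -/
def locus : A.spec.Opens := A.spec.basicOpen (U := ⊤) ((QCAlgPush.gammaIso A).inv.hom.app (op ⊤) a)

variable {T : Scheme.{u}} (g : T ⟶ X) [QuasiCompact g] [QuasiSeparated g]

theorem value_eq (h : T ⟶ A.spec) (w : h ≫ A.π = g) :
    (hom g h w).hom.app (op ⊤) a =
      h.appTop ((QCAlgPush.gammaIso A).inv.hom.app (op ⊤) a) := by
  rw [hom, RelSpec.QCAlg.comp_hom, NatTrans.comp_app, CommRingCat.comp_apply]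
  show (AffAlg.algHom A.π g h w).app (op ⊤) _ = _
  rw [AffAlgBij.algHom_app]
  exact ConcreteCategory.congr_hom (Scheme.Hom.app_eq_appLE h).symm _

theorem range_subset_locus (h : T ⟶ A.spec) (w : h ≫ A.π = g)
    (hu : IsUnit ((hom g h w).hom.app (op ⊤) a)) : Set.range h ⊆ (locus a : Set A.spec) := by
  rintro x ⟨y, rfl⟩
  rw [value_eq] at hu
  refine (A.spec.toRingedSpace.mem_basicOpen (U := ⊤) _ (h y) trivial).2 ?_
  refine (isUnit_map_iff (h.stalkMap y).hom _).1 ?_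
  have h1 := hu.map (T.presheaf.germ ⊤ y trivial).hom
  exact (Scheme.Hom.germ_stalkMap_apply h ⊤ y trivial _).symm ▸ h1

theorem isUnit_value_locus [QuasiCompact ((locus a).ι ≫ A.π)] [QuasiSeparated ((locus a).ι ≫ A.π)] :
    IsUnit ((hom ((locus a).ι ≫ A.π) (locus a).ι rfl).hom.app (op ⊤) a) := by
  rw [value_eq]
  refine RingedSpace.isUnit_of_isUnit_germ (locus a : Scheme.{u}).toRingedSpace _ _ fun y hy => ?_
  have h1 : IsUnit (A.spec.presheaf.germ ⊤ ((locus a).ι y) trivial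
      ((QCAlgPush.gammaIso A).inv.hom.app (op ⊤) a)) :=
    (A.spec.toRingedSpace.mem_basicOpen (U := ⊤) _ ((locus a).ι y) trivial).1 y.2
  have h2 := h1.map ((locus a).ι.stalkMap y).hom
  exact (Scheme.Hom.germ_stalkMap_apply (locus a).ι ⊤ y trivial _) ▸ h2

end Lift

section Torsor

variable (S : ShortComplex X.Modules) (e : S.X₁ ≅ Coh.structureModule X) (AE : RelSpec.QCAlg X)
  (jE : S.X₂ ⟶ AE.toModule) (A1 : RelSpec.QCAlg X) (j1 : Coh.structureModule X ⟶ A1.toModule)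
  (ψ : A1 ⟶ AE) (u : Coh.structureModule X ⟶ (RelSpec.QCAlg.unit X).toModule)
  (ε : A1 ⟶ RelSpec.QCAlg.unit X)

/-- The coordinate of the affine line. -/
def coord1 : A1.presheaf.obj (op ⊤) := j1.app ⊤ (one X ⊤)

/-- The function defining the section. -/
def val : (RelSpec.QCAlg.unit X).presheaf.obj (op ⊤) := u.app ⊤ (one X ⊤)

variable {S e AE jE A1 j1 ψ u ε}

theorem isUnit_val [IsIso u] : IsUnit (val u) := by
  let a : Γ(Coh.structureModule X, ⊤) := (inv u).app ⊤ (show Γ((RelSpec.QCAlg.unit X).toModule, ⊤) from (1 : Γ(X, ⊤)))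
  refine IsUnit.of_mul_eq_one (show Γ(X, ⊤) from a) ?_
  have h1 : u.app ⊤ a = (show Γ((RelSpec.QCAlg.unit X).toModule, ⊤) from (1 : Γ(X, ⊤))) :=
    congr(Scheme.Modules.Hom.app $(IsIso.inv_hom_id u) ⊤ _)
  rw [app_eq_smul u] at h1
  rw [mul_comm]
  exact h1

variable {T : Scheme.{u}} (g : T ⟶ X) [QuasiCompact g] [QuasiSeparated g]

theorem value_specMap_ψ [hq : (Coh.structureModule X).IsQuasicoherent]
    (hA1 : RelSpec.IsSymAlg (Coh.structureModule X) A1 j1)
    (hψ : j1 ≫ RelSpec.QCAlg.Hom.toModuleMap ψ = e.inv ≫ S.f ≫ jE) (h : T ⟶ AE.spec) (w : h ≫ AE.π = g) :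
    (hom g (h ≫ RelSpec.QCAlg.specMap ψ) (by rw [Category.assoc, RelSpec.QCAlg.specMap_π, w])).hom.app (op ⊤)
        (coord1 A1 j1) = (hom g h w).hom.app (op ⊤) (VecLine.coordU S e AE jE ⊤) := by
  rw [hom_comp_specMap g hA1 ψ h w, RelSpec.QCAlg.comp_hom, NatTrans.comp_app, CommRingCat.comp_apply]
  refine congrArg _ ?_
  exact congr(Scheme.Modules.Hom.app $hψ ⊤ (one X ⊤))

theorem value_specMap_ε [hq : (Coh.structureModule X).IsQuasicoherent]
    (hA1 : RelSpec.IsSymAlg (Coh.structureModule X) A1 j1)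
    (hε : j1 ≫ RelSpec.QCAlg.Hom.toModuleMap ε = u) (h : T ⟶ (RelSpec.QCAlg.unit X).spec)
    (w : h ≫ (RelSpec.QCAlg.unit X).π = g) :
    (hom g (h ≫ RelSpec.QCAlg.specMap ε) (by rw [Category.assoc, RelSpec.QCAlg.specMap_π, w])).hom.app (op ⊤)
        (coord1 A1 j1) = (RelSpec.QCAlg.directImage g).str.app (op ⊤) (val u) := by
  rw [hom_comp_specMap g hA1 ε h w, RelSpec.QCAlg.comp_hom, NatTrans.comp_app, CommRingCat.comp_apply]
  have h1 : ε.hom.app (op ⊤) (coord1 A1 j1) = val u := congr(Scheme.Modules.Hom.app $hε ⊤ (one X ⊤))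
  rw [h1]
  exact ConcreteCategory.congr_hom (NatTrans.congr_app (hom g h w).comm (op ⊤)) (val u)

theorem ext_line (hA1 : RelSpec.IsSymAlg (Coh.structureModule X) A1 j1) {h₁ h₂ : T ⟶ A1.spec}
    {w₁ : h₁ ≫ A1.π = g} {w₂ : h₂ ≫ A1.π = g}
    (h : (hom g h₁ w₁).hom.app (op ⊤) (coord1 A1 j1) = (hom g h₂ w₂).hom.app (op ⊤) (coord1 A1 j1)) :
    h₁ = h₂ :=
  hom_injective g (w₁ := w₁) (w₂ := w₂) ((hA1 _ _).unique rfl (unit_ext h.symm))

theorem ext_bundle (hAE : RelSpec.IsSymAlg S.X₂ AE jE) {h₁ h₂ : T ⟶ AE.spec}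
    {w₁ : h₁ ≫ AE.π = g} {w₂ : h₂ ≫ AE.π = g}
    (h : jE ≫ RelSpec.QCAlg.Hom.toModuleMap (hom g h₁ w₁) =
      jE ≫ RelSpec.QCAlg.Hom.toModuleMap (hom g h₂ w₂)) : h₁ = h₂ :=
  hom_injective g (w₁ := w₁) (w₂ := w₂) ((hAE _ _).unique rfl h.symm)

theorem exists_scaled (hAE : RelSpec.IsSymAlg S.X₂ AE jE) (h : T ⟶ AE.spec) (w : h ≫ AE.π = g)
    (c : (RelSpec.QCAlg.directImage g).presheaf.obj (op ⊤)) :
    ∃ (k : T ⟶ AE.spec) (wk : k ≫ AE.π = g),
      jE ≫ RelSpec.QCAlg.Hom.toModuleMap (hom g k wk) =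
          jE ≫ RelSpec.QCAlg.Hom.toModuleMap (hom g h w) ≫ scale _ c ∧
        (hom g k wk).hom.app (op ⊤) (VecLine.coordU S e AE jE ⊤) =
          c * (hom g h w).hom.app (op ⊤) (VecLine.coordU S e AE jE ⊤) := by
  obtain ⟨φ, hφ, -⟩ := hAE (RelSpec.QCAlg.directImage g)
    (jE ≫ RelSpec.QCAlg.Hom.toModuleMap (hom g h w) ≫ scale _ c)
  obtain ⟨k, wk, rfl⟩ := exists_hom g φ
  refine ⟨k, wk, hφ, ?_⟩
  refine (congr(Scheme.Modules.Hom.app $hφ ⊤ (VecLine.gen S e ⊤))).trans ?_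
  refine (scale_app c ⊤ _).trans (congrArg (fun z : (RelSpec.QCAlg.directImage g).presheaf.obj (op ⊤) =>
    z * (hom g h w).hom.app (op ⊤) (VecLine.coordU S e AE jE ⊤)) ?_)
  rw [show homOfLE (le_top : (⊤ : X.Opens) ≤ ⊤) = 𝟙 _ from rfl, op_id, CategoryTheory.Functor.map_id]
  rfl

end Torsor

section Iso

variable {S : ShortComplex X.Modules} (e : S.X₁ ≅ Coh.structureModule X) {AE A1 : RelSpec.QCAlg X}
  {jE : S.X₂ ⟶ AE.toModule} {j1 : Coh.structureModule X ⟶ A1.toModule} {ψ : A1 ⟶ AE}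
  {u : Coh.structureModule X ⟶ (RelSpec.QCAlg.unit X).toModule} [IsIso u] {ε : A1 ⟶ RelSpec.QCAlg.unit X}

theorem exists_iso [IsLocallyNoetherian X] [IsLocallyNoetherian AE.spec] [IsLocallyNoetherian A1.spec]
    [(Coh.structureModule X).IsQuasicoherent]
    (hAE : RelSpec.IsSymAlg S.X₂ AE jE) (hA1 : RelSpec.IsSymAlg (Coh.structureModule X) A1 j1)
    (hψ : j1 ≫ RelSpec.QCAlg.Hom.toModuleMap ψ = e.inv ≫ S.f ≫ jE)
    (hε : j1 ≫ RelSpec.QCAlg.Hom.toModuleMap ε = u) :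
    ∃ b : (locus (VecLine.coordU S e AE jE ⊤) : Scheme.{u}) ≅
        pullback (pullback.fst (RelSpec.QCAlg.specMap ψ) (RelSpec.QCAlg.specMap ε) ≫ AE.π)
          ((locus (coord1 A1 j1)).ι ≫ A1.π),
      b.hom ≫ pullback.fst _ _ ≫ pullback.fst _ _ ≫ AE.π =
        (locus (VecLine.coordU S e AE jE ⊤)).ι ≫ AE.π := by
  haveI := isAffineHom_specMap ψ
  haveI := isAffineHom_specMap ε
  let t := VecLine.coordU S e AE jE ⊤
  let U := locus t
  let G := locus (coord1 A1 j1)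
  let φB := pullback.fst (RelSpec.QCAlg.specMap ψ) (RelSpec.QCAlg.specMap ε) ≫ AE.π
  let lG := G.ι ≫ A1.π
  let bE := pullback.fst φB lG ≫ pullback.fst (RelSpec.QCAlg.specMap ψ) (RelSpec.QCAlg.specMap ε)
  let πU := U.ι ≫ AE.π
  let πW := bE ≫ AE.π
  haveI : QuasiCompact lG := inferInstance
  haveI : QuasiSeparated lG := inferInstance
  haveI : QuasiCompact bE := inferInstance
  haveI : QuasiSeparated bE := inferInstance
  let sU := (RelSpec.QCAlg.directImage πU).str.app (op ⊤) (val u)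
  let sW := (RelSpec.QCAlg.directImage πW).str.app (op ⊤) (val u)
  have hsW : IsUnit sW := isUnit_val.map _
  -- the two coordinates
  have hT : IsUnit ((hom πU U.ι rfl).hom.app (op ⊤) t) := isUnit_value_locus t
  obtain ⟨c, hc⟩ : ∃ c, c * (hom πU U.ι rfl).hom.app (op ⊤) t = sU :=
    ⟨sU * hT.unit⁻¹.1, by rw [mul_assoc, IsUnit.val_inv_mul, mul_one]⟩
  obtain ⟨rE, wrE, hrE, hrEt⟩ := exists_scaled (e := e) πU hAE U.ι rfl c
  rw [hc] at hrEt
  obtain ⟨rO, wrO, -⟩ := exists_hom (A := RelSpec.QCAlg.unit X) πU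
    ⟨(RelSpec.QCAlg.directImage πU).str, Category.id_comp _⟩
  have hcond : rE ≫ RelSpec.QCAlg.specMap ψ = rO ≫ RelSpec.QCAlg.specMap ε :=
    ext_line πU hA1 (w₁ := by rw [Category.assoc, RelSpec.QCAlg.specMap_π, wrE])
      (w₂ := by rw [Category.assoc, RelSpec.QCAlg.specMap_π, wrO])
      (by rw [value_specMap_ψ πU hA1 hψ rE wrE, value_specMap_ε πU hA1 hε rO wrO, hrEt])
  let r := pullback.lift rE rO hcond
  have hrG : IsUnit ((hom πU (U.ι ≫ RelSpec.QCAlg.specMap ψ)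
      (by rw [Category.assoc, RelSpec.QCAlg.specMap_π])).hom.app (op ⊤) (coord1 A1 j1)) := by
    rw [value_specMap_ψ πU hA1 hψ U.ι rfl]
    exact hT
  let rG := IsOpenImmersion.lift G.ι (U.ι ≫ RelSpec.QCAlg.specMap ψ)
    (by rw [Scheme.Opens.range_ι]; exact range_subset_locus _ πU _ _ hrG)
  have hrGι : rG ≫ G.ι = U.ι ≫ RelSpec.QCAlg.specMap ψ := IsOpenImmersion.lift_fac _ _ _
  have wr : r ≫ φB = rG ≫ lG := by
    show pullback.lift rE rO hcond ≫ pullback.fst _ _ ≫ AE.π = rG ≫ G.ι ≫ A1.π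
    rw [← Category.assoc, pullback.lift_fst, wrE, ← Category.assoc rG, hrGι, Category.assoc,
      RelSpec.QCAlg.specMap_π]
  let b := pullback.lift r rG wr
  have hbE : b ≫ bE = rE := by
    show pullback.lift r rG wr ≫ pullback.fst _ _ ≫ pullback.fst _ _ = rE
    rw [← Category.assoc, pullback.lift_fst, pullback.lift_fst]
  have hbπ : b ≫ πW = πU := by
    show b ≫ bE ≫ AE.π = πU
    rw [← Category.assoc, hbE, wrE]
  -- the other direction
  have wl : (pullback.snd φB lG ≫ G.ι) ≫ A1.π = πW := by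
    show (pullback.snd φB lG ≫ G.ι) ≫ A1.π = (pullback.fst φB lG ≫ pullback.fst _ _) ≫ AE.π
    rw [Category.assoc, Category.assoc]
    exact (pullback.condition (f := φB) (g := lG)).symm
  have hl : IsUnit ((hom πW (pullback.snd φB lG ≫ G.ι) wl).hom.app (op ⊤) (coord1 A1 j1)) := by
    rw [hom_comp (G.ι ≫ A1.π) G.ι rfl πW (pullback.snd φB lG) (by rw [← wl, Category.assoc]),
      RelSpec.QCAlg.comp_hom, NatTrans.comp_app, CommRingCat.comp_apply]
    exact (isUnit_value_locus (coord1 A1 j1)).map _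
  have hbEt : (hom πW bE rfl).hom.app (op ⊤) t = sW := by
    rw [← value_specMap_ψ πW hA1 hψ bE rfl]
    have wO : (pullback.fst φB lG ≫ pullback.snd (RelSpec.QCAlg.specMap ψ) (RelSpec.QCAlg.specMap ε)) ≫
        (RelSpec.QCAlg.unit X).π = πW := by
      show _ = (pullback.fst φB lG ≫ pullback.fst _ _) ≫ AE.π
      rw [Category.assoc, Category.assoc, ← RelSpec.QCAlg.specMap_π ψ, pullback.condition_assoc,
        RelSpec.QCAlg.specMap_π ε]
    show _ = (RelSpec.QCAlg.directImage πW).str.app (op ⊤) (val u)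
    rw [← value_specMap_ε πW hA1 hε _ wO]
    refine congrArg (fun f : A1 ⟶ _ => f.hom.app (op ⊤) (coord1 A1 j1)) (hom_congr _ ?_)
    show (pullback.fst φB lG ≫ pullback.fst _ _) ≫ RelSpec.QCAlg.specMap ψ = _
    rw [Category.assoc, Category.assoc, pullback.condition]
  obtain ⟨d, hd⟩ : ∃ d, d * sW = (hom πW (pullback.snd φB lG ≫ G.ι) wl).hom.app (op ⊤) (coord1 A1 j1) :=
    ⟨(hom πW (pullback.snd φB lG ≫ G.ι) wl).hom.app (op ⊤) (coord1 A1 j1) * hsW.unit⁻¹.1, by
      rw [mul_assoc, IsUnit.val_inv_mul, mul_one]⟩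
  obtain ⟨aE, waE, haE, haEt⟩ := exists_scaled (e := e) πW hAE bE rfl d
  rw [hbEt, hd] at haEt
  let a := IsOpenImmersion.lift U.ι aE
    (by rw [Scheme.Opens.range_ι]; exact range_subset_locus t πW aE waE (haEt ▸ hl))
  have haι : a ≫ U.ι = aE := IsOpenImmersion.lift_fac _ _ _
  have haπ : a ≫ πU = πW := by
    show a ≫ U.ι ≫ AE.π = πW
    rw [← Category.assoc, haι, waE]
  have hab : a ≫ b = 𝟙 _ := by
    refine pullback.hom_ext (pullback.hom_ext ?_ ?_) ?_
    · rw [Category.id_comp, Category.assoc, Category.assoc]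
      show a ≫ b ≫ bE = bE
      rw [hbE]
      refine ext_bundle πW hAE (w₁ := by rw [Category.assoc, wrE, haπ]) (w₂ := rfl) ?_
      rw [hom_comp πU rE wrE πW a haπ, SymAlg.Sections.toModuleMap_comp, ← Category.assoc, hrE,
        Category.assoc, Category.assoc, scale_comm, ← Category.assoc (RelSpec.QCAlg.Hom.toModuleMap _),
        ← SymAlg.Sections.toModuleMap_comp, ← hom_comp πU U.ι rfl πW a haπ]
      have e1 : hom πW (a ≫ U.ι) (by rw [Category.assoc]; exact haπ) = hom πW aE waE := by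
        congr 1
      rw [e1, ← Category.assoc, haE, Category.assoc, Category.assoc, scale_comp]
      suffices h : (QCAlgPush.ofHom πU πW a haπ).hom.app (op ⊤) c * d = 1 by
        rw [h, scale_one, Category.comp_id]
      refine hsW.mul_right_cancel ?_
      rw [one_mul, mul_assoc, hd]
      have h2 := congrArg ((QCAlgPush.ofHom πU πW a haπ).hom.app (op ⊤)) hc
      rw [map_mul] at h2
      refine Eq.trans (congrArg (_ * ·) ?_) (h2.trans
        (ConcreteCategory.congr_hom (NatTrans.congr_app (QCAlgPush.ofHom πU πW a haπ).comm (op ⊤)) (val u)))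
      rw [← haEt]
      show (hom πW aE waE).hom.app (op ⊤) t = _
      rw [← e1, hom_comp πU U.ι rfl πW a haπ]
      rfl
    · refine hom_injective πW (w₁ := ?_) (w₂ := ?_) unit_hom_ext
      · rw [← RelSpec.QCAlg.specMap_π ε, Category.assoc, Category.assoc, Category.assoc,
          ← pullback.condition_assoc, RelSpec.QCAlg.specMap_π ψ]
        show a ≫ b ≫ πW = πW
        rw [hbπ, haπ]
      · rw [Category.id_comp, ← RelSpec.QCAlg.specMap_π ε, Category.assoc, ← pullback.condition_assoc,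
          RelSpec.QCAlg.specMap_π ψ]
        rfl
    · rw [Category.id_comp, Category.assoc, pullback.lift_snd, ← cancel_mono G.ι, Category.assoc, hrGι,
        ← Category.assoc, haι]
      refine ext_line πW hA1 (w₁ := by rw [Category.assoc, RelSpec.QCAlg.specMap_π, waE]) (w₂ := wl) ?_
      rw [value_specMap_ψ πW hA1 hψ aE waE, haEt]
  have hba : b ≫ a = 𝟙 _ := by
    rw [← cancel_mono U.ι, Category.assoc, haι, Category.id_comp]
    refine ext_bundle πU hAE (w₁ := by rw [Category.assoc, waE, hbπ]) (w₂ := rfl) ?_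
    rw [hom_comp πW aE waE πU b hbπ, SymAlg.Sections.toModuleMap_comp, ← Category.assoc, haE,
      Category.assoc, Category.assoc, scale_comm, ← Category.assoc (RelSpec.QCAlg.Hom.toModuleMap _),
      ← SymAlg.Sections.toModuleMap_comp, ← hom_comp πW bE rfl πU b hbπ]
    have e1 : hom πU (b ≫ bE) (by rw [Category.assoc]; exact hbπ) = hom πU rE wrE := by
      congr 1
    rw [e1, ← Category.assoc, hrE, Category.assoc, Category.assoc, scale_comp]
    suffices h : (QCAlgPush.ofHom πW πU b hbπ).hom.app (op ⊤) d * c = 1 by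
      rw [h, scale_one, Category.comp_id]
    refine hT.mul_right_cancel ?_
    rw [one_mul, mul_assoc, hc]
    have h2 := congrArg ((QCAlgPush.ofHom πW πU b hbπ).hom.app (op ⊤)) hd
    rw [map_mul] at h2
    refine Eq.trans (congrArg (_ * ·)
      (ConcreteCategory.congr_hom (NatTrans.congr_app (QCAlgPush.ofHom πW πU b hbπ).comm (op ⊤)) (val u)).symm)
      (h2.trans ?_)
    show (hom πW (pullback.snd φB lG ≫ G.ι) wl ≫ QCAlgPush.ofHom πW πU b hbπ).hom.app (op ⊤) (coord1 A1 j1) = _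
    rw [← hom_comp πW (pullback.snd φB lG ≫ G.ι) wl πU b hbπ, ← value_specMap_ψ πU hA1 hψ U.ι rfl]
    refine congrArg (fun f : A1 ⟶ _ => f.hom.app (op ⊤) (coord1 A1 j1)) (hom_congr _ ?_)
    exact (Category.assoc _ _ _).symm.trans ((congrArg (· ≫ G.ι) (pullback.lift_snd _ _ _)).trans hrGι)
  exact ⟨⟨b, a, hba, hab⟩, hbπ⟩

end Iso

end Groth.Agent.Lib.Cyc.CH.VecTorsor
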