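import Groth.Agent.Lib.Cyc.AffFib.Fibre
import Groth.Agent.Lib.Cyc.AffFib.Affine
import Groth.Agent.Lib.SymAlg.Sections

/-!
# Relative spectra which are locally polynomial
-/

set_option autoImplicit false
set_option linter.style.haveILetI false
universe u

open CategoryTheory CategoryTheory.Limits AlgebraicGeometry TopologicalSpace Opposite MvPolynomial

noncomputable section

namespace Groth.Agent.Lib.Cyc.CH.VecTriv

open Groth.Agent.Lib Groth.Agent.Lib.Cyc

theorem trdegAt_generic (L : Type u) [Field L] (r : ℕ) :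
    Residue.trdegAt (Spec.map (CommRingCat.ofHom (algebraMap L (MvPolynomial (Fin r) L))))
      (genericPoint (Spec (CommRingCat.of (MvPolynomial (Fin r) L)))) = r := by
  set q := Spec.map (CommRingCat.ofHom (algebraMap L (MvPolynomial (Fin r) L)))
  haveI : LocallyOfFiniteType q := by
    rw [HasRingHomProperty.Spec_iff (P := @LocallyOfFiniteType)]
    exact RingHom.finiteType_algebraMap.2 inferInstance
  rw [FieldDim.trdegAt_eq_fdelta]
  have h := FieldDim.topologicalKrullDim_closure q (genericPoint (Spec (CommRingCat.of (MvPolynomial (Fin r) L))))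
  have h' : topologicalKrullDim (closure ({genericPoint (Spec (CommRingCat.of (MvPolynomial (Fin r) L)))} :
      Set (Spec (CommRingCat.of (MvPolynomial (Fin r) L))))) = (r : ℕ) := by
    rw [genericPoint_closure, IsHomeomorph.topologicalKrullDim_eq _ (Homeomorph.Set.univ _).isHomeomorph]
    show topologicalKrullDim (PrimeSpectrum (MvPolynomial (Fin r) L)) = _
    rw [PrimeSpectrum.topologicalKrullDim_eq_ringKrullDim, MvPolynomial.ringKrullDim_of_isNoetherianRing,
      ringKrullDim_eq_zero_of_field, zero_add, Nat.card_fin]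
  rw [h'] at h
  exact_mod_cast h.symm

variable {X : Scheme.{u}} {A : RelSpec.QCAlg X}

/-- The chart over an affine open as a pullback. -/
theorem isPullback_ι (U : X.Opens) (hU : IsAffineOpen U) :
    IsPullback (A.ι U hU) (Spec.map (A.str.app (op U))) A.π hU.fromSpec :=
  (IsOpenImmersion.isPullback (Spec.map (A.str.app (op U))) (A.ι U hU) hU.fromSpec A.π (A.ι_π U hU)
    (by rw [hU.opensRange_fromSpec, A.π_preimage U hU])).flip

/-- `A` is polynomial in `r` variables over `U`. -/
structure IsPoly (A : RelSpec.QCAlg X) (U : X.Opens) (r : ℕ) : Prop where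
  affine : IsAffineOpen U
  exists_θ : ∃ θ : MvPolynomial (Fin r) Γ(X, U) →+* A.presheaf.obj (op U),
    Function.Bijective θ ∧ ∀ a, θ (C a) = A.str.app (op U) a

theorem IsPoly.isPullback {U : X.Opens} {r : ℕ} (h : IsPoly A U r) :
    ∃ e : Spec (CommRingCat.of (MvPolynomial (Fin r) Γ(X, U))) ⟶ A.spec,
      IsPullback e (Spec.map (CommRingCat.ofHom (algebraMap Γ(X, U) (MvPolynomial (Fin r) Γ(X, U)))))
        A.π h.affine.fromSpec := by
  obtain ⟨θ, hθ, hC⟩ := h.exists_θ
  haveI : IsIso (CommRingCat.ofHom θ) := (ConcreteCategory.isIso_iff_bijective _).2 hθ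
  refine ⟨inv (Spec.map (CommRingCat.ofHom θ)) ≫ A.ι U h.affine, ?_⟩
  have key : IsPullback (inv (Spec.map (CommRingCat.ofHom θ)) ≫ A.ι U h.affine)
      (Spec.map (CommRingCat.ofHom (algebraMap Γ(X, U) (MvPolynomial (Fin r) Γ(X, U)))))
      A.π (𝟙 _ ≫ h.affine.fromSpec) := by
    refine (IsPullback.of_horiz_isIso ⟨?_⟩).paste_horiz (isPullback_ι (A := A) U h.affine)
    rw [Category.comp_id, IsIso.inv_comp_eq, ← Spec.map_comp]
    congr 1
    ext a
    exact (hC a).symm
  rwa [Category.id_comp] at key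

theorem flat_lft (h : ∀ x : X, ∃ (U : X.Opens) (r : ℕ), x ∈ U ∧ IsPoly A U r) :
    Flat A.π ∧ LocallyOfFiniteType A.π := by
  choose U r hx hP using h
  choose e he using fun x => (hP x).isPullback
  let 𝒰 : X.OpenCover :=
    { I₀ := X
      X := fun x => Spec Γ(X, U x)
      f := fun x => (hP x).affine.fromSpec
      mem₀ := by
        rw [Scheme.presieve₀_mem_precoverage_iff]
        refine ⟨fun x => ⟨x, ?_⟩, fun x => inferInstance⟩
        show x ∈ Set.range (hP x).affine.fromSpec
        rw [(hP x).affine.range_fromSpec]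
        exact hx x }
  refine ⟨IsZariskiLocalAtTarget.of_openCover (P := @Flat) 𝒰 fun x => ?_,
    IsZariskiLocalAtTarget.of_openCover (P := @LocallyOfFiniteType) 𝒰 fun x => ?_⟩
  · show Flat (pullback.snd A.π (hP x).affine.fromSpec)
    rw [← (he x).isoPullback_inv_snd]
    haveI : Flat (Spec.map (CommRingCat.ofHom (algebraMap Γ(X, U x) (MvPolynomial (Fin (r x)) Γ(X, U x))))) := by
      rw [HasRingHomProperty.Spec_iff (P := @Flat)]
      exact RingHom.flat_algebraMap_iff.2 inferInstance
    infer_instance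
  · show LocallyOfFiniteType (pullback.snd A.π (hP x).affine.fromSpec)
    rw [← (he x).isoPullback_inv_snd]
    haveI : LocallyOfFiniteType
        (Spec.map (CommRingCat.ofHom (algebraMap Γ(X, U x) (MvPolynomial (Fin (r x)) Γ(X, U x))))) := by
      rw [HasRingHomProperty.Spec_iff (P := @LocallyOfFiniteType)]
      exact RingHom.finiteType_algebraMap.2 inferInstance
    infer_instance

/-- The generic point of a fibre. -/
theorem IsPoly.exists_gen [IsLocallyNoetherian A.spec] {U : X.Opens} {r : ℕ} (h : IsPoly A U r)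
    {δ' : A.spec → ℤ} (hd : Cyc.IsDimFun A.spec δ') {η : X} (hη : η ∈ U) :
    ∃ ζ : A.spec, A.π ζ = η ∧ FibLen.fibLen A.π ζ = 1 ∧ Residue.trdegAt A.π ζ = r ∧
      ∀ x : A.spec, A.π x = η → ζ ⤳ x ∧ (x ≠ ζ → AffFib.Descent.KilledInFibre A.π δ' x) := by
  let φ : Γ(X, U) ⟶ X.residueField η := X.presheaf.germ U η hη ≫ X.residue η
  letI : Algebra Γ(X, U) (X.residueField η) := φ.hom.toAlgebra
  have hι : Spec.map (CommRingCat.ofHom (algebraMap Γ(X, U) (X.residueField η))) ≫ h.affine.fromSpec =
      X.fromSpecResidueField η := by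
    show Spec.map φ ≫ _ = _
    rw [Spec.map_comp, Category.assoc, Scheme.fromSpecResidueField,
      ← h.affine.fromSpecStalk_eq_fromSpecStalk hη]
    rfl
  obtain ⟨e, he⟩ := h.isPullback
  letI := MvPolynomial.algebraMvPolynomial (σ := Fin r) (R := Γ(X, U)) (S := X.residueField η)
  have H1 := isPullback_SpecMap_of_isPushout _ _ _ _
    (CommRingCat.isPushout_of_isPushout Γ(X, U) (X.residueField η) (MvPolynomial (Fin r) Γ(X, U))
      (MvPolynomial (Fin r) (X.residueField η)))
  have H := H1.flip.paste_horiz he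
  haveI : IsPreimmersion (Spec.map (CommRingCat.ofHom (algebraMap Γ(X, U) (X.residueField η))) ≫
      h.affine.fromSpec) := hι ▸ inferInstance
  haveI : IsLocallyNoetherian (Spec (CommRingCat.of (MvPolynomial (Fin r) (X.residueField η)))) := inferInstance
  obtain ⟨ζ, -, hπ, hlen, htr, hall⟩ := AffFib.Fibre.exists_gen H
    (AffFib.Affine.killsAll_mvPolynomial (X.residueField η) r) hd η (by
      rw [hι]
      exact Scheme.fromSpecResidueField_apply _ _)
  exact ⟨ζ, hπ, hlen, htr.trans (trdegAt_generic (X.residueField η) r), hall⟩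

end Groth.Agent.Lib.Cyc.CH.VecTriv
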