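import Groth.Agent.Lib.Cyc.FieldDim
import Groth.Agent.Lib.Cyc.FlatDim
import Groth.Agent.Lib.ProjSpace.BaseChange
import Groth.Agent.Lib.ProjSpace.SmoothDimLE
import Groth.Agent.H20.FlatFibreTrdeg
import Mathlib.AlgebraicGeometry.Morphisms.QuasiFinite
import Mathlib.AlgebraicGeometry.ZariskisMainTheorem

/-!
# Dimension bounds for fibre powers of the projective line
-/

set_option autoImplicit false
set_option linter.style.haveILetI false
universe u

open CategoryTheory CategoryTheory.Limits AlgebraicGeometry TopologicalSpace IsLocalRing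

noncomputable section

namespace Groth.Agent.Lib.Cyc.CH.WideP1

open Groth.Agent.Lib Groth.Agent.Lib.Cyc

variable {X P Y : Scheme.{u}}

/-- Smooth morphisms of relative dimension `r` have residue transcendence degree at most `r`. -/
theorem trdegAt_le (f : P ⟶ Y) (r : ℕ) [hs : SmoothOfRelativeDimension r f] (x : P) :
    Residue.trdegAt f x ≤ r := by
  haveI : Smooth f := SmoothOfRelativeDimension.smooth r f
  obtain ⟨z, hz⟩ := FieldDim.exists_fiberι_eq f x (f x) rfl
  rw [← hz, ← FieldDim.trdegAt_fiber]
  let g : f.fiber (f x) ⟶ Spec (CommRingCat.of (Y.residueField (f x))) := f.fiberToSpecResidueField (f x)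
  haveI := smoothOfRelativeDimension_isStableUnderBaseChange (n := r)
  haveI : SmoothOfRelativeDimension r g :=
    MorphismProperty.of_isPullback (IsPullback.of_hasPullback f (Y.fromSpecResidueField (f x))) hs
  haveI : Smooth g := SmoothOfRelativeDimension.smooth r g
  have h1 := ProjSpace.SmoothDimLE.topologicalKrullDim_le (Y.residueField (f x)) g r
  show Residue.trdegAt g z ≤ _
  rw [FieldDim.trdegAt_eq_fdelta]
  have h2 := FieldDim.topologicalKrullDim_closure g z
  have h3 : topologicalKrullDim (closure ({z} : Set (f.fiber (f x)))) ≤ topologicalKrullDim (f.fiber (f x)) :=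
    Topology.IsEmbedding.subtypeVal.isInducing.topologicalKrullDim_le
  rw [h2] at h3
  exact Nat.cast_le.2 (by exact_mod_cast h3.trans h1)

instance smoothOfRelativeDimension_toBase (X : Scheme.{u}) :
    SmoothOfRelativeDimension 1 (CohB1.ProjSpaceOver.toBase 1 X) :=
  haveI := smoothOfRelativeDimension_isStableUnderBaseChange (n := 1)
  MorphismProperty.of_isPullback (P := @SmoothOfRelativeDimension.{u} 1) (IsPullback.of_hasPullback _ _)
    (inferInstance : SmoothOfRelativeDimension 1 (CohB1.ProjSpace.toSpec 1 (ULift.{u} ℤ)))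

/-- The fibre power of the line. -/
abbrev Q (X : Scheme.{u}) (n : ℕ) : Scheme.{u} :=
  widePullback X (fun _ : Fin n => CohB1.ProjSpaceOver 1 X) (fun _ => CohB1.ProjSpaceOver.toBase 1 X)

/-- Its structure map. -/
abbrev base (X : Scheme.{u}) (n : ℕ) : Q X n ⟶ X :=
  WidePullback.base (fun _ : Fin n => CohB1.ProjSpaceOver.toBase 1 X)

/-- Forget the last factor. -/
def proj (X : Scheme.{u}) (n : ℕ) : Q X (n + 1) ⟶ Q X n :=
  WidePullback.lift (base X (n + 1))
    (fun i => WidePullback.π (fun _ : Fin (n + 1) => CohB1.ProjSpaceOver.toBase 1 X) i.castSucc)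
    (fun i => WidePullback.π_arrow _ _)

theorem proj_base (n : ℕ) : proj X n ≫ base X n = base X (n + 1) := WidePullback.lift_base _ _ _ _

theorem isPullback_proj (n : ℕ) : IsPullback (WidePullback.π (fun _ : Fin (n + 1) => CohB1.ProjSpaceOver.toBase 1 X) (Fin.last n))
    (proj X n) (CohB1.ProjSpaceOver.toBase 1 X) (base X n) := by
  refine IsPullback.of_isLimit' ⟨by rw [proj_base, WidePullback.π_arrow]⟩ (PullbackCone.IsLimit.mk _
    (fun s => WidePullback.lift (s.snd ≫ base X n)
      (Fin.lastCases s.fst fun i => s.snd ≫ WidePullback.π _ i) (fun i => ?_)) (fun s => ?_) (fun s => ?_)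
    fun s m h1 h2 => ?_)
  · refine Fin.lastCases ?_ (fun i => ?_) i
    · rw [Fin.lastCases_last]; exact s.condition
    · rw [Fin.lastCases_castSucc, Category.assoc, WidePullback.π_arrow]
  · rw [WidePullback.lift_π, Fin.lastCases_last]
  · refine WidePullback.hom_ext _ _ _ (fun i => ?_) ?_
    · rw [Category.assoc, proj, WidePullback.lift_π, WidePullback.lift_π, Fin.lastCases_castSucc]
    · rw [Category.assoc, proj_base, WidePullback.lift_base]
  · refine WidePullback.hom_ext _ _ _ (fun i => ?_) ?_
    · rw [WidePullback.lift_π]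
      refine Fin.lastCases ?_ (fun i => ?_) i
      · rw [Fin.lastCases_last]; exact h1
      · rw [Fin.lastCases_castSucc, ← h2, Category.assoc, proj, WidePullback.lift_π]
    · rw [WidePullback.lift_base, ← h2, Category.assoc, proj_base]

theorem isIso_base_zero : IsIso (base X 0) :=
  ⟨WidePullback.lift (𝟙 X) (fun i => i.elim0) (fun i => i.elim0),
    WidePullback.hom_ext _ _ _ (fun i => i.elim0) (by rw [Category.assoc, WidePullback.lift_base, Category.comp_id, Category.id_comp]),
    WidePullback.lift_base _ _ _ _⟩

theorem proper_and_trdeg (n : ℕ) : IsProper (base X n) ∧ ∀ p, Residue.trdegAt (base X n) p ≤ n := by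
  induction n with
  | zero =>
    haveI := isIso_base_zero (X := X)
    refine ⟨inferInstance, fun p => ?_⟩
    rw [FieldDim.trdegAt_eq_zero_of_surjective _ _ (FieldDim.residueFieldMap_surjective (f := base X 0) p)]
    simp
  | succ n ih =>
    haveI := ih.1
    haveI : IsProper (proj X n) := MorphismProperty.of_isPullback (P := @IsProper.{u}) (isPullback_proj n)
      (ProjSpace.BaseChange.isProper_toBase (n := 1) X)
    haveI := smoothOfRelativeDimension_isStableUnderBaseChange (n := 1)
    haveI : SmoothOfRelativeDimension 1 (proj X n) :=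
      MorphismProperty.of_isPullback (P := @SmoothOfRelativeDimension.{u} 1) (isPullback_proj n)
        (smoothOfRelativeDimension_toBase X)
    refine ⟨proj_base (X := X) n ▸ inferInstance, fun p => ?_⟩
    rw [← FieldDim.trdegAt_congr (proj_base (X := X) n) p, Residue.trdegAt_comp, Nat.cast_succ]
    exact add_le_add (ih.2 _) ((trdegAt_le (proj X n) 1 p).trans (by simp))

/-- A point of full codimension over the generic point is finite over it. -/
theorem trdegAt_eq_zero [IsIntegral X] [IsLocallyNoetherian X] (g : P ⟶ X) [LocallyOfFiniteType g] (n : ℕ)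
    (hb : ∀ p, Residue.trdegAt g p ≤ n) (w : P) (hw : g w = genericPoint X)
    (hdim : ringKrullDim (P.presheaf.stalk w) = n) : Residue.trdegAt g w = 0 := by
  have hn : (n : WithBot ℕ∞) ≤ Order.krullDim (PrimeSpectrum (P.presheaf.stalk w)) := hdim.ge
  obtain ⟨l, hl⟩ := Order.le_krullDim_iff.1 hn
  have hover : ∀ q, g (P.fromSpecStalk w q) = genericPoint X := fun q => by
    have h : g (P.fromSpecStalk w q) ⤳ genericPoint X :=
      hw ▸ (DimFun.fromSpecStalk_specializes_self w q).map g.continuous
    exact (h.antisymm (genericPoint_specializes _)).eq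
  choose z hz using fun q => FieldDim.exists_fiberι_eq g (P.fromSpecStalk w q) (genericPoint X) (hover q)
  obtain ⟨w₀, hw₀⟩ := FieldDim.exists_fiberι_eq g w (genericPoint X) hw
  haveI : LocallyOfFiniteType (g.fiberToSpecResidueField (genericPoint X)) := by
    unfold Scheme.Hom.fiberToSpecResidueField
    exact MorphismProperty.pullback_snd _ _ ‹LocallyOfFiniteType g›
  let q0 : g.fiber (genericPoint X) ⟶ Spec (CommRingCat.of (X.residueField (genericPoint X))) :=
    g.fiberToSpecResidueField (genericPoint X)
  haveI : LocallyOfFiniteType q0 := ‹_›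
  have hd := FieldDim.isDimFun_fdelta q0
  let v : PrimeSpectrum (P.presheaf.stalk w) → ℤ := fun q => FieldDim.fdelta q0 (z q)
  have hv : ∀ a b, a < b → v b + 1 ≤ v a := fun a b hab => by
    refine DimFun.lt_of_specializes hd ?_ ?_
    · rw [FieldDim.fiber_specializes_iff, hz, hz, DimFun.fromSpecStalk_specializes_iff]
      exact hab.le
    · intro e
      exact hab.ne (DimFun.fromSpecStalk_injective w (by rw [← hz a, ← hz b, e]))
  have key : ∀ i : ℕ, (h : i < l.length + 1) → v (l ⟨i, h⟩) + i ≤ v l.head := by
    intro i
    induction i with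
    | zero => intro h; simp [RelSeries.head]
    | succ i ih =>
      intro h
      have h1 := hv _ _ (l.step ⟨i, by omega⟩)
      have h2 := ih (by omega)
      simp only [Fin.castSucc_mk, Fin.succ_mk] at h1
      push_cast
      omega
  have hcon : ∀ a, Residue.trdegAt g (g.fiberι _ a) = ((FieldDim.fdelta q0 a).toNat : Cardinal.{u}) := fun a => by
    rw [← FieldDim.trdegAt_fiber]
    exact FieldDim.trdegAt_eq_fdelta q0 a
  have htop : v l.head ≤ n := by
    have h1 := hb (g.fiberι _ (z l.head))
    rw [hcon, Nat.cast_le] at h1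
    have := FieldDim.fdelta_nonneg q0 (z l.head)
    simp only [v]
    omega
  have hlast : FieldDim.fdelta q0 w₀ ≤ v (l ⟨l.length, by omega⟩) :=
    DimFun.le_of_specializes hd (by
      rw [FieldDim.fiber_specializes_iff, hz, hw₀]
      exact DimFun.fromSpecStalk_specializes_self w _)
  have h0 := key l.length (by omega)
  have := FieldDim.fdelta_nonneg q0 w₀
  rw [← hw₀, hcon, Nat.cast_eq_zero]
  omega

/-- A flat morphism of integral schemes that is finite at the generic point has finite residue fields. -/
theorem trdegAt_eq_zero_of_flat [IsIntegral P] [IsIntegral X] (f : P ⟶ X) [Flat f] [LocallyOfFiniteType f]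
    (h0 : Residue.trdegAt f (genericPoint P) = 0) (v : P) : Residue.trdegAt f v = 0 := by
  haveI : Nonempty P := ⟨v⟩
  haveI : Nonempty X := ⟨f v⟩
  have hgen : f (genericPoint P) = genericPoint X := FlatDim.genericPoint_maps f
  let A : Type u := X.presheaf.stalk (f v)
  let B : Type u := P.presheaf.stalk v
  letI : Algebra A B := (f.stalkMap v).hom.toAlgebra
  haveI : IsLocalHom (algebraMap A B) := inferInstanceAs (IsLocalHom (f.stalkMap v).hom)
  haveI : Module.Flat A B := Flat.stalkMap f v
  haveI : Algebra.EssFiniteType A B := LocallyOfFiniteType.stalkMap f v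
  haveI : Module.FaithfullyFlat A B := Module.FaithfullyFlat.of_flat_of_isLocalHom
  haveI : FaithfulSMul A B := inferInstance
  let L : Type u := P.residueField (genericPoint P)
  let K : Type u := X.residueField (f (genericPoint P))
  let S := Cyc.specMap v (genericPoint P) (genericPoint_specializes v)
  letI : Algebra B L := S.toAlgebra
  letI : Algebra A L := (S.comp (algebraMap A B)).toAlgebra
  haveI : IsScalarTower A B L := IsScalarTower.of_algebraMap_eq fun _ => rfl
  letI : Algebra K L := (f.residueFieldMap (genericPoint P)).hom.toAlgebra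
  let SX := Cyc.specMap (f v) (f (genericPoint P)) ((genericPoint_specializes v).map f.continuous)
  letI : Algebra A K := SX.toAlgebra
  haveI : IsScalarTower A K L := IsScalarTower.of_algebraMap_eq fun a =>
    InducedDimFun.specMap_stalkMap f (genericPoint P) v (genericPoint_specializes v) a
  haveI : Algebra.IsAlgebraic K L := trdeg_eq_zero_iff.mp h0
  haveI : Algebra.IsAlgebraic A K := H20.FlatFibreTrdeg.isAlgebraic_of_frac fun x => by
    obtain ⟨a, b, hb, hab⟩ := Ord.exists_specMap_fraction (f v) _ _ x
    exact ⟨a, b, fun e => hb (by rw [e, map_zero]), hab⟩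
  haveI : Algebra.IsAlgebraic A L := Algebra.IsAlgebraic.trans A K L
  have hinj : Function.Injective S := by
    intro a b hab
    letI := (Field.toIsField P.functionField).toField
    exact IsFractionRing.injective (P.presheaf.stalk v) P.functionField
      ((RingHom.injective (R := P.functionField) (P.residue (genericPoint P)).hom) hab)
  haveI : Algebra.IsAlgebraic A B :=
    Algebra.IsAlgebraic.of_injective (IsScalarTower.toAlgHom A B L) hinj
  obtain ⟨d, e, -, he, hde⟩ := H20.FlatFibreTrdeg.main (A := A) (B := B)
  rw [trdeg_eq_zero (R := A) (A := B)] at hde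
  have he0 : e = 0 := by
    have h : ((0 : ℕ) : Cardinal.{u}) = ((d + e : ℕ) : Cardinal.{u}) := by rw [Nat.cast_zero]; exact hde
    have := Nat.cast_injective h
    omega
  rw [he0, Nat.cast_zero] at he
  exact he

/-- Morphisms with residue fields of transcendence degree zero are quasi-finite. -/
theorem locallyQuasiFinite (f : P ⟶ X) [LocallyOfFiniteType f] [QuasiCompact f]
    (h : ∀ v, Residue.trdegAt f v = 0) : LocallyQuasiFinite f := by
  refine LocallyQuasiFinite.of_finite_preimage_singleton f fun y => ?_
  let g : f.fiber y ⟶ Spec (CommRingCat.of (X.residueField y)) := f.fiberToSpecResidueField y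
  haveI : LocallyOfFiniteType g := by
    show LocallyOfFiniteType (pullback.snd f (X.fromSpecResidueField y))
    infer_instance
  haveI : QuasiCompact g := by
    show QuasiCompact (pullback.snd f (X.fromSpecResidueField y))
    infer_instance
  haveI : IsLocallyNoetherian (f.fiber y) := LocallyOfFiniteType.isLocallyNoetherian g
  haveI : CompactSpace (f.fiber y) := QuasiCompact.compactSpace_of_compactSpace g
  haveI : IsNoetherian (f.fiber y) := {}
  have hd0 : ∀ z, FieldDim.fdelta g z = 0 := fun z => by
    have h1 := h (f.fiberι y z)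
    rw [← FieldDim.trdegAt_fiber] at h1
    have h2 := FieldDim.trdegAt_eq_fdelta g z
    rw [show Residue.trdegAt g z = 0 from h1, eq_comm, Nat.cast_eq_zero] at h2
    have := FieldDim.fdelta_nonneg g z
    omega
  obtain ⟨T, hT, hcl, hirr, hun⟩ :=
    NoetherianSpace.exists_finite_set_isClosed_irreducible (isClosed_univ (X := f.fiber y))
  have hfin : (Set.univ : Set (f.fiber y)).Finite := by
    rw [hun]
    refine Set.Finite.sUnion hT fun t ht => ?_
    refine Set.Subsingleton.finite fun a ha b hb => ?_
    have hg := (hirr t ht).isGenericPoint_genericPoint (hcl t ht)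
    have e : ∀ a ∈ t, a = (hirr t ht).genericPoint := fun a ha =>
      (DimFun.eq_of_specializes_of_le (FieldDim.isDimFun_fdelta g) (hg.specializes ha) (by rw [hd0, hd0])).symm
    rw [e a ha, e b hb]
  rw [← f.range_fiberι y, ← Set.image_univ]
  exact hfin.image _

/-- The statement on the fibre power. -/
theorem isFinite_surjective [IsIntegral X] [IsNoetherian X] {n : ℕ} {W : Scheme.{u}} [IsIntegral W]
    (i : W ⟶ Q X n) [IsClosedImmersion i]
    (hcodim : ringKrullDim ((Q X n).presheaf.stalk (i (genericPoint W))) = n) (f : W ⟶ X)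
    (hf : i ≫ base X n = f) [IsDominant f] [Flat f] : IsFinite f ∧ Surjective f := by
  subst hf
  obtain ⟨hp, hb⟩ := proper_and_trdeg (X := X) n
  haveI := hp
  haveI : Nonempty X := ⟨genericPoint X⟩
  have h0 : Residue.trdegAt (i ≫ base X n) (genericPoint W) = 0 := by
    rw [Residue.trdegAt_comp, FieldDim.trdegAt_eq_zero_of_surjective i _ (FieldDim.residueFieldMap_surjective _ _),
      trdegAt_eq_zero (base X n) n hb _ ?_ hcodim, add_zero]
    rw [← Scheme.Hom.comp_apply]
    exact FlatDim.genericPoint_maps _
  haveI : LocallyQuasiFinite (i ≫ base X n) :=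
    locallyQuasiFinite _ fun v => trdegAt_eq_zero_of_flat _ h0 v
  refine ⟨(IsFinite.iff_isProper_and_locallyQuasiFinite _).2 ⟨inferInstance, inferInstance⟩, ⟨?_⟩⟩
  have hcl := (i ≫ base X n).isClosedMap.isClosed_range
  intro y
  have : y ∈ Set.range (i ≫ base X n) := by
    rw [← hcl.closure_eq, (i ≫ base X n).denseRange.closure_range]
    trivial
  exact this

end Groth.Agent.Lib.Cyc.CH.WideP1
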